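import Cfsg.Agent.Lib.Local.GlaubermanComplement
import Cfsg.Agent.Lib.Thompson.FixedPointFree
import Cfsg.Agent.Lib.Core.Fitting
import Cfsg.Agent.Lib.Coprime.Generation
import Cfsg.Agent.Lib.PGroup.Basic
import Cfsg.Agent.S0044

/-!
# Normal subgroups all whose noncentral elements have maximal centralizers
-/

set_option autoImplicit false
set_option linter.style.haveILetI false

namespace Cfsg.Lib.Struct.MaxCent

open Subgroup Cfsg Cfsg.Lib
open scoped commutatorElement Pointwise

universe u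

variable {G : Type u} [Group G] [Finite G]

/-- The hypothesis. -/
def Hyp (N : Subgroup G) : Prop :=
  ∀ x : G, x ∈ N → x ∉ centralizer (N : Set G) → IsCoatom (centralizer ({x} : Set G))

theorem mem_of_primary_parts {H : Subgroup G} {x : G}
    (h : ∀ (s : ℕ) (z : G), Fact s.Prime → z ∈ zpowers x → (∃ k, orderOf z = s ^ k) → z ∈ H) :
    x ∈ H := by
  have h1 : (H.subgroupOf (zpowers x)).index = 1 := by
    by_contra hne
    obtain ⟨s, hs, hd⟩ := Nat.exists_prime_and_dvd hne
    haveI := Fact.mk hs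
    obtain ⟨P⟩ : Nonempty (Sylow s ↥(zpowers x)) := inferInstance
    refine P.not_dvd_index (hd.trans (index_dvd_of_le fun z hz => ?_))
    obtain ⟨k, hk⟩ := IsPGroup.iff_orderOf.1 P.isPGroup' ⟨z, hz⟩
    refine h s z inferInstance z.2 ⟨k, ?_⟩
    rw [← hk]
    exact (Subgroup.orderOf_coe z).trans (Subgroup.orderOf_coe (⟨z, hz⟩ : ↥(P : Subgroup ↥(zpowers x))))
  exact subgroupOf_eq_top.1 (index_eq_one.1 h1) (mem_zpowers x)

theorem le_of_primary {S H : Subgroup G}
    (h : ∀ (s : ℕ) (z : G), Fact s.Prime → z ∈ S → (∃ k, orderOf z = s ^ k) → z ∈ H) : S ≤ H :=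
  fun _ hx => mem_of_primary_parts fun s z hs hz hk => h s z hs (zpowers_le.2 hx hz) hk

variable {N : Subgroup G}

theorem mem_centralizer_self {x : G} : x ∈ centralizer ({x} : Set G) :=
  mem_centralizer_singleton_iff.2 rfl

theorem normalizer_D [N.Normal] (x : G) :
    centralizer ({x} : Set G) ≤ normalizer ((N ⊓ centralizer ({x} : Set G) : Subgroup G) : Set G) :=
  le_trans (le_inf (by rw [normalizer_eq_top]; exact le_top) le_normalizer) inf_normalizer_le_normalizer_inf

theorem prod_of_normalizes (h : Hyp N) {x : G} (hx : x ∈ N) (hxn : x ∉ centralizer (N : Set G))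
    {X : Subgroup G} (hXN : X ≤ N) (hX : centralizer ({x} : Set G) ≤ normalizer (X : Set G)) :
    X ≤ centralizer ({x} : Set G) ∨
      ∀ n ∈ N, ∃ a ∈ X, ∃ d ∈ N ⊓ centralizer ({x} : Set G), n = a * d := by
  rcases (h x hx hxn).le_iff.1 (le_sup_right : centralizer ({x} : Set G) ≤ X ⊔ centralizer ({x} : Set G)) with e | e
  · right
    intro n hn
    rw [sup_comm] at e
    obtain ⟨c, hc, a, ha, rfl⟩ := (Core.mem_sup_of_le_normalizer hX).1 (e.ge (mem_top n))
    refine ⟨c * a * c⁻¹, (mem_normalizer_iff.1 (hX hc) a).1 ha, c, ⟨?_, hc⟩, by group⟩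
    have h2 := N.mul_mem hn (N.inv_mem (hXN ha))
    rwa [mul_inv_cancel_right] at h2
  · exact Or.inl (le_sup_left.trans e.le)

theorem eq_or_eq_of_normalizes (h : Hyp N) {x : G} (hx : x ∈ N) (hxn : x ∉ centralizer (N : Set G))
    {X : Subgroup G} (hXN : X ≤ N) (hX : centralizer ({x} : Set G) ≤ normalizer (X : Set G))
    (hD : N ⊓ centralizer ({x} : Set G) ≤ X) :
    X = N ⊓ centralizer ({x} : Set G) ∨ X = N := by
  rcases prod_of_normalizes h hx hxn hXN hX with e | e
  · exact Or.inl (le_antisymm (le_inf hXN e) hD)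
  · refine Or.inr (le_antisymm hXN fun n hn => ?_)
    obtain ⟨a, ha, d, hd, rfl⟩ := e n hn
    exact X.mul_mem ha (hD hd)

theorem centralizer_eq_of_commute (h : Hyp N) {x y : G} (hx : x ∈ N) (hxn : x ∉ centralizer (N : Set G))
    (hy : y ∈ N) (hyn : y ∉ centralizer (N : Set G)) (hc : Commute x y)
    (hco : (orderOf x).Coprime (orderOf y)) :
    centralizer ({x} : Set G) = centralizer ({y} : Set G) := by
  have key : ∀ a b : G, Commute a b → (orderOf a).Coprime (orderOf b) → a ∈ zpowers (a * b) := by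
    intro a b hab hab'
    obtain ⟨m, hm⟩ := exists_pow_eq_self_of_coprime hab'.symm
    refine ⟨((orderOf b * m : ℕ) : ℤ), ?_⟩
    show (a * b) ^ ((orderOf b * m : ℕ) : ℤ) = a
    rw [zpow_natCast, hab.mul_pow, pow_mul, pow_mul, pow_orderOf_eq_one, one_pow, mul_one, hm]
  have hxz : x ∈ zpowers (x * y) := key x y hc hco
  have hyz : y ∈ zpowers (x * y) := by rw [hc.eq]; exact key y x hc.symm hco.symm
  have sub : ∀ z ∈ zpowers (x * y), centralizer ({x * y} : Set G) ≤ centralizer ({z} : Set G) := by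
    intro z hz c hc'
    obtain ⟨i, rfl⟩ := mem_zpowers_iff.1 hz
    exact mem_centralizer_singleton_iff.2 ((Commute.zpow_right (mem_centralizer_singleton_iff.1 hc') i).eq)
  have hn : x * y ∉ centralizer (N : Set G) := fun hm => hxn (zpowers_le.2 hm hxz)
  have hM := h (x * y) (N.mul_mem hx hy) hn
  have e1 := (hM.le_iff.1 (sub x hxz)).resolve_left (h x hx hxn).1
  have e2 := (hM.le_iff.1 (sub y hyz)).resolve_left (h y hy hyn).1
  rw [e1, e2]

/-- A noncentral element of prime power order commutes with every element of coprime order in its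
centralizer. -/
theorem commute_of_coprime (h : Hyp N) {x : G} (hx : x ∈ N) (hxn : x ∉ centralizer (N : Set G))
    {y d : G} (hy : y ∈ N ⊓ centralizer ({x} : Set G)) (hco : (orderOf x).Coprime (orderOf y))
    (hd : d ∈ N ⊓ centralizer ({x} : Set G)) : Commute d y := by
  by_cases hyn : y ∈ centralizer (N : Set G)
  · exact (mem_centralizer_iff.1 hyn d hd.1)
  · have e := centralizer_eq_of_commute h hx hxn hy.1 hyn (mem_centralizer_singleton_iff.1 hy.2).symm hco
    exact mem_centralizer_singleton_iff.1 (e ▸ hd.2)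

theorem isNilpotent_D (h : Hyp N) {x : G} (hx : x ∈ N) (hxn : x ∉ centralizer (N : Set G))
    {p k : ℕ} [hp : Fact p.Prime] (hk : orderOf x = p ^ k) :
    Group.IsNilpotent ↥(N ⊓ centralizer ({x} : Set G)) := by
  set D := N ⊓ centralizer ({x} : Set G) with hD
  have hP : IsPGroup p (↥D ⧸ center ↥D) := by
    intro q
    obtain ⟨g, rfl⟩ := QuotientGroup.mk_surjective q
    refine ⟨(orderOf g).factorization p, ?_⟩
    rw [← QuotientGroup.mk_pow, QuotientGroup.eq_one_iff, mem_center_iff]
    intro d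
    refine Subtype.ext (commute_of_coprime h hx hxn (g ^ _).2 ?_ d.2).eq
    rw [hk, Subgroup.orderOf_coe, orderOf_pow' _ (pow_ne_zero _ hp.out.ne_zero),
      Nat.gcd_eq_right (Nat.ordProj_dvd _ _)]
    exact (Nat.coprime_ordCompl hp.out (orderOf_pos g).ne').pow_left k
  haveI := hP.isNilpotent
  exact Subgroup.isNilpotent_of_ker_le_center (QuotientGroup.mk' (center ↥D))
    (QuotientGroup.ker_mk' _).le

/-- The Fitting subgroup of `N`, inside `G`. -/
abbrev Fit (N : Subgroup G) : Subgroup G := (Cfsg.fittingSubgroup ↥N).map N.subtype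

theorem fit_normal [N.Normal] : (Fit N).Normal := Core.normal_map_char_of_normal _

theorem fit_isNilpotent : Group.IsNilpotent ↥(Fit N) :=
  Core.isNilpotent_map (Core.fittingSubgroup_isNilpotent _) _

theorem le_fit {W : Subgroup G} (hWN : W ≤ N) (hn : N ≤ normalizer (W : Set G))
    (hnil : Group.IsNilpotent ↥W) : W ≤ Fit N := by
  haveI : (W.subgroupOf N).Normal := normal_subgroupOf_iff_le_normalizer hWN |>.2 hn
  have := hnil
  have h1 : W.subgroupOf N ≤ Cfsg.fittingSubgroup ↥N :=
    Core.le_fittingSubgroup (Group.nilpotent_of_mulEquiv (subgroupOfEquivOfLe hWN).symm)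
  have := Subgroup.map_mono (f := N.subtype) h1
  rwa [map_subgroupOf_eq_of_le hWN] at this

theorem exists_primary_not_le {F : Subgroup G} (hFN : F ≤ N) (hF : ¬ F ≤ centralizer (N : Set G)) :
    ∃ (r : ℕ) (y : G), Fact r.Prime ∧ y ∈ N ∧ y ∉ centralizer (N : Set G) ∧ (∃ k, orderOf y = r ^ k) ∧
      ¬ F ≤ centralizer ({y} : Set G) := by
  by_contra! hall
  refine hF fun f hf => mem_centralizer_iff.2 fun n hn => ?_
  have : N ≤ centralizer ({f} : Set G) := le_of_primary fun s z hs hz hk => by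
    by_cases hzn : z ∈ centralizer (N : Set G)
    · exact mem_centralizer_singleton_iff.2 (mem_centralizer_iff.1 hzn f (hFN hf)).symm
    · obtain ⟨k, hk⟩ := hk
      exact mem_centralizer_singleton_iff.2 (mem_centralizer_singleton_iff.1 (hall s z hs hz hzn ⟨k, hk⟩ hf)).symm
  exact mem_centralizer_singleton_iff.1 (this hn)

theorem hyp_mono (h : Hyp N) {K : Subgroup G} (hKN : K ≤ N) : Hyp K := fun x hx hxn =>
  h x (hKN hx) fun hm => hxn (centralizer_le hKN hm)

theorem mapsTo_normalizer {H : Type u} [Group H] (f : H →* G) {W : Subgroup H} :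
    ∀ a ∈ normalizer (W : Set H), f a ∈ normalizer (W.map f : Set G) := fun a ha =>
  le_normalizer_map f ⟨a, ha, rfl⟩

theorem isSolvable_of_hyp : ∀ N : Subgroup G, N.Normal → Hyp N → Group.IsSolvable ↥N := by
  intro N
  induction hn : Nat.card ↥N using Nat.strong_induction_on generalizing N with
  | _ n ih => ?_
  intro hN h
  haveI := hN
  haveI := fit_normal (N := N)
  by_cases hF : Fit N ≤ centralizer (N : Set G)
  · -- the Fitting subgroup is central
    by_cases hodd : ∃ (p : ℕ) (x : G), Fact p.Prime ∧ p ≠ 2 ∧ x ∈ N ∧ x ∉ centralizer (N : Set G) ∧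
        ∃ k, orderOf x = p ^ k
    · obtain ⟨p, x, hp, hp2, hx, hxn, k, hk⟩ := hodd
      set D := N ⊓ centralizer ({x} : Set G) with hD
      have hDnil := isNilpotent_D h hx hxn hk
      rw [← hD] at hDnil
      obtain ⟨Q⟩ : Nonempty (Sylow p ↥D) := inferInstance
      haveI hQn : (Q : Subgroup ↥D).Normal :=
        (Group.isNilpotent_of_finite_tfae.out 0 3 rfl rfl).mp hDnil p hp Q
      haveI := Q.characteristic_of_normal hQn
      set P := (Q : Subgroup ↥D).map D.subtype with hPdef
      have hPD : P ≤ D := map_subtype_le _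
      have hPp : IsPGroup p ↥P := Q.2.map _
      have hmemP : ∀ z ∈ D, (∃ j, orderOf z = p ^ j) → z ∈ P := by
        intro z hz hzk
        obtain ⟨j, hj⟩ := hzk
        have hz' : IsPGroup p ↥(zpowers (⟨z, hz⟩ : ↥D)) :=
          IsPGroup.of_card (n := j) (by rw [Nat.card_zpowers, ← Subgroup.orderOf_coe, hj])
        obtain ⟨Q', hQ'⟩ := hz'.exists_le_sylow
        haveI := Q.unique_of_normal hQn
        exact ⟨⟨z, hz⟩, Subsingleton.elim Q' Q ▸ hQ' (mem_zpowers _), rfl⟩
      have hxD : x ∈ D := ⟨hx, mem_centralizer_self⟩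
      have hxP : x ∈ P := hmemP x hxD ⟨k, hk⟩
      have hCD : centralizer ({x} : Set G) ≤ normalizer (D : Set G) := normalizer_D x
      have hCP : centralizer ({x} : Set G) ≤ normalizer (P : Set G) :=
        hCD.trans (Core.normalizer_le_normalizer_map_char _)
      have hself : ∀ W : Subgroup G, centralizer ({x} : Set G) ≤ normalizer (W : Set G) →
          D ≤ normalizer (W : Set G) → W ≤ N → IsPGroup p ↥W → x ∈ W → N ⊓ normalizer (W : Set G) = D := by
        intro W hW hDW hWN hWp hxW
        rcases eq_or_eq_of_normalizes h hx hxn (inf_le_left : N ⊓ normalizer (W : Set G) ≤ N)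
          ((le_inf (by rw [normalizer_eq_top]; exact le_top) (hW.trans le_normalizer)).trans
            inf_normalizer_le_normalizer_inf) (le_inf inf_le_left hDW) with e | e
        · exact e
        · exact absurd (hF (le_fit hWN (e.ge.trans inf_le_right) hWp.isNilpotent hxW)) hxn
      have hDP : D ≤ normalizer (P : Set G) :=
        le_normalizer.trans (Core.normalizer_le_normalizer_map_char _)
      have hPN : P ≤ N := hPD.trans inf_le_left
      have hNP := hself P hCP hDP hPN hPp hxP
      -- `P` is a Sylow subgroup of `N`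
      obtain ⟨T, hT⟩ := (hPp.comap_of_injective N.subtype N.subtype_injective).exists_le_sylow
      have hPT : (T : Subgroup ↥N) = P.subgroupOf N := by
        refine le_antisymm ?_ hT
        haveI := T.2.isNilpotent
        by_contra hne
        set P' := (P.subgroupOf N).subgroupOf (T : Subgroup ↥N) with hP'
        have hlt : P' < ⊤ := lt_top_iff_ne_top.2 fun e => hne (subgroupOf_eq_top.1 e)
        obtain ⟨t, ht, htP⟩ := SetLike.exists_of_lt
          (Group.normalizerCondition_of_isNilpotent (G := ↥(T : Subgroup ↥N)) P' hlt)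
        apply htP
        have htn : ((t : ↥N) : G) ∈ normalizer (P : Set G) := by
          refine Core.mem_normalizer_iff_map_conj.2 (le_antisymm ?_ ?_)
          · rintro _ ⟨w, hw, rfl⟩
            have hw' : (⟨⟨w, hPN hw⟩, hT (mem_subgroupOf.2 hw)⟩ : ↥(T : Subgroup ↥N)) ∈ P' :=
              mem_subgroupOf.2 (mem_subgroupOf.2 hw)
            exact mem_subgroupOf.1 (mem_subgroupOf.1 ((mem_normalizer_iff.1 ht _).1 hw'))
          · intro w hw
            have hw' : (⟨⟨w, hPN hw⟩, hT (mem_subgroupOf.2 hw)⟩ : ↥(T : Subgroup ↥N)) ∈ P' :=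
              mem_subgroupOf.2 (mem_subgroupOf.2 hw)
            refine ⟨((t : ↥N) : G)⁻¹ * w * ((t : ↥N) : G), ?_, by simp [mul_assoc]⟩
            have h2 := (mem_normalizer_iff.1 (inv_mem ht) _).1 hw'
            simpa [mul_assoc] using mem_subgroupOf.1 (mem_subgroupOf.1 h2)
        have htD : ((t : ↥N) : G) ∈ D := hNP ▸ ⟨(t : ↥N).2, htn⟩
        obtain ⟨j, hj⟩ := IsPGroup.iff_orderOf.1 T.2 t
        exact mem_subgroupOf.2 (mem_subgroupOf.2 (hmemP _ htD
          ⟨j, by rw [Subgroup.orderOf_coe, Subgroup.orderOf_coe, hj]⟩))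
      -- Glauberman-Thompson
      set W := centerThompsonAOf P with hWdef
      have hWP : W ≤ P := Cfsg.Lib.Local.GlaubermanZJ.centerThompsonAOf_le P
      have hxW : x ∈ W := by
        have hcen : ∀ a ∈ P, Commute x a := fun a ha =>
          (mem_centralizer_singleton_iff.1 (hPD ha).2).symm
        obtain ⟨A, hA⟩ := Cfsg.Lib.Local.GlaubermanZJ.exists_isMaxAbIn P
        refine ⟨?_, mem_centralizer_iff.2 fun a ha => (hcen a (map_subtype_le _ ha)).eq.symm⟩
        rw [Cfsg.Lib.Local.GlaubermanZJ.thompsonSubgroupAOf_eq]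
        exact le_sSup (α := Subgroup G) (show A ∈ {A | Cfsg.Lib.Local.GlaubermanZJ.IsMaxAbIn P A} from hA)
          (hA.mem_of_commute hxP fun a ha => hcen a (hA.1 ha))
      have hnW := Cfsg.Lib.Local.GlaubermanZJ.normalizer_le_normalizer_centerThompsonAOf P
      have hNW := hself W (hCP.trans hnW) (hDP.trans hnW) (hWP.trans hPN) (hPp.to_le hWP) hxW
      have hmap : (centerThompsonAOf (T : Subgroup ↥N)).map N.subtype = W := by
        rw [Cfsg.Lib.Local.GlaubermanZJ.map_centerThompsonAOf' N.subtype _ N.subtype_injective.injOn,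
          hPT, map_subgroupOf_eq_of_le hPN]
      have hcompl : HasNormalPComplement p ↥N := by
        refine Cfsg.Lib.Local.GlaubermanZJ.complement_of_centerThompsonA hp2 T ?_
        haveI := hDnil
        have hmem : ∀ a : ↥(normalizer (centerThompsonAOf (T : Subgroup ↥N) : Set ↥N)), ((a : ↥N) : G) ∈ D := by
          intro a
          rw [← hNW]
          exact ⟨(a : ↥N).2, hmap ▸ mapsTo_normalizer N.subtype _ a.2⟩
        refine Fusion.hasNormalPComplement_of_injective
          ((N.subtype.comp (normalizer (centerThompsonAOf (T : Subgroup ↥N) : Set ↥N)).subtype).codRestrict D hmem)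
          ?_ Thompson.hasNormalPComplement_of_isNilpotent
        exact fun a b hab => Subtype.ext (N.subtype_injective (congrArg Subtype.val hab :))
      have hco := Fusion.hasNormalPComplement_iff_coprime.1 hcompl
      haveI : (pResidual p ↥N).Characteristic :=
        characteristic_iff_map_le.2 fun e => Fusion.map_pResidual_le e.toMonoidHom
      set K := (pResidual p ↥N).map N.subtype with hKdef
      have hKlt : Nat.card ↥K < n := by
        rw [← hn, hKdef, card_map_of_injective N.subtype_injective]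
        refine Core.lt_card_of_ne_top fun e => ?_
        rw [e, card_top] at hco
        have h1 : p ∣ Nat.card ↥N := by
          have h2 : orderOf x ∣ Nat.card ↥N := by
            simpa using Subgroup.orderOf_dvd_natCard (s := N) hx
          refine (?_ : p ∣ orderOf x).trans h2
          rcases Nat.eq_zero_or_pos k with rfl | hkpos
          · exact absurd (by rw [pow_zero, orderOf_eq_one_iff] at hk; rw [hk]; exact one_mem _) hxn
          · exact hk ▸ dvd_pow_self p hkpos.ne'
        exact hp.out.coprime_iff_not_dvd.1 hco.symm h1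
      have hKs := ih _ hKlt K rfl (Core.normal_map_char_of_normal _) (hyp_mono h (map_subtype_le _))
      haveI : (pResidual p ↥N).Normal := normal_of_characteristic _
      haveI hKs' : Group.IsSolvable ↥(pResidual p ↥N) :=
        Group.isSolvable_of_surjective (f := ((pResidual p ↥N).equivMapOfInjective N.subtype
          N.subtype_injective).symm.toMonoidHom) (MulEquiv.surjective _)
      haveI := (Fusion.isPGroup_quotient_pResidual (p := p) (G := ↥N)).isNilpotent
      exact Group.isSolvable_of_ker_le_range (pResidual p ↥N).subtype (QuotientGroup.mk' (pResidual p ↥N))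
        (by rw [QuotientGroup.ker_mk', range_subtype])
    · push Not at hodd
      have hP : IsPGroup 2 (↥N ⧸ center ↥N) := by
        intro q
        obtain ⟨g, rfl⟩ := QuotientGroup.mk_surjective q
        refine ⟨(orderOf g).factorization 2, ?_⟩
        rw [← QuotientGroup.mk_pow, QuotientGroup.eq_one_iff, mem_center_iff]
        have hco : (2 : ℕ).Coprime (orderOf (g ^ 2 ^ (orderOf g).factorization 2)) := by
          rw [orderOf_pow' _ (pow_ne_zero _ two_ne_zero), Nat.gcd_eq_right (Nat.ordProj_dvd _ _)]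
          exact Nat.coprime_ordCompl Nat.prime_two (orderOf_pos g).ne'
        set a := g ^ 2 ^ (orderOf g).factorization 2
        have ha : (a : G) ∈ centralizer (N : Set G) := mem_of_primary_parts fun s z hs hz hzk => by
          obtain ⟨j, hj⟩ := hzk
          by_contra hzn
          have hzN : z ∈ N := zpowers_le.2 a.2 hz
          rcases eq_or_ne s 2 with rfl | hs2
          · rcases Nat.eq_zero_or_pos j with rfl | hjpos
            · rw [pow_zero, orderOf_eq_one_iff] at hj; exact hzn (hj ▸ one_mem _)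
            · have h1 : orderOf z ∣ orderOf (a : G) := by
                obtain ⟨i, rfl⟩ := mem_zpowers_iff.1 hz
                exact orderOf_dvd_of_mem_zpowers ⟨i, rfl⟩
              rw [hj, Subgroup.orderOf_coe] at h1
              have h2 := hco.coprime_dvd_right ((dvd_pow_self 2 hjpos.ne').trans h1)
              norm_num at h2
          · exact hodd s z hs hs2 hzN hzn j hj
        exact fun d => Subtype.ext (mem_centralizer_iff.1 ha d d.2)
      haveI := hP.isNilpotent
      haveI : Group.IsNilpotent ↥N := Subgroup.isNilpotent_of_ker_le_center (QuotientGroup.mk' (center ↥N))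
        (QuotientGroup.ker_mk' _).le
      infer_instance
  · obtain ⟨r, y, hr, hy, hyn, ⟨j, hj⟩, hFy⟩ := exists_primary_not_le (map_subtype_le _) hF
    have hprod := (prod_of_normalizes h hy hyn (map_subtype_le _)
      (by rw [normalizer_eq_top]; exact le_top)).resolve_left hFy
    set π := QuotientGroup.mk' (Cfsg.fittingSubgroup ↥N) with hπ
    haveI := isNilpotent_D h hy hyn hj
    set D := N ⊓ centralizer ({y} : Set G) with hD
    have hsurj : Function.Surjective (π.comp (inclusion (inf_le_left : D ≤ N))) := by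
      intro q
      obtain ⟨g, rfl⟩ := QuotientGroup.mk_surjective q
      obtain ⟨a, ⟨a', ha', rfl⟩, d, hd, he⟩ := hprod g g.2
      refine ⟨⟨d, hd⟩, ?_⟩
      simp only [MonoidHom.comp_apply, hπ, QuotientGroup.mk'_apply]
      have : g = a' * inclusion (inf_le_left : D ≤ N) ⟨d, hd⟩ := Subtype.ext he
      rw [this, QuotientGroup.mk_mul, (QuotientGroup.eq_one_iff _).2 ha', one_mul]
    haveI := Group.nilpotent_of_surjective _ hsurj
    haveI := Core.fittingSubgroup_isNilpotent ↥N
    exact Group.isSolvable_of_ker_le_range (Cfsg.fittingSubgroup ↥N).subtype π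
      (by rw [hπ, QuotientGroup.ker_mk', range_subtype])

theorem mem_center_sub {N : Subgroup G} {g : ↥N} : g ∈ center ↥N ↔ (g : G) ∈ centralizer (N : Set G) := by
  rw [mem_center_iff, mem_centralizer_iff]
  exact ⟨fun hg n hn => congrArg Subtype.val (hg ⟨n, hn⟩), fun hg n => Subtype.ext (hg n n.2)⟩

theorem le_centralizer_of_primary {N : Subgroup G} {S : Subgroup G} (hS : S ≤ N)
    (hall : ∀ (s : ℕ) (y : G), Fact s.Prime → y ∈ N → y ∉ centralizer (N : Set G) →
      (∃ k, orderOf y = s ^ k) → S ≤ centralizer ({y} : Set G)) :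
    S ≤ centralizer (N : Set G) := by
  by_contra hne
  obtain ⟨r, y, hr, hy, hyn, hk, hSy⟩ := exists_primary_not_le hS hne
  exact hSy (hall r y hr hy hyn hk)

theorem sup_normalizes {W A B : Subgroup G} (hA : W ≤ normalizer (A : Set G))
    (hB : W ≤ normalizer (B : Set G)) : W ≤ normalizer ((A ⊔ B : Subgroup G) : Set G) := fun w hw => by
  rw [Core.mem_normalizer_iff_map_conj, Subgroup.map_sup, Core.map_conj_eq_of_mem_normalizer (hA hw),
    Core.map_conj_eq_of_mem_normalizer (hB hw)]

theorem commute_of_nilpotent {H : Type*} [Group H] [Finite H] (hH : Group.IsNilpotent H) {s t : ℕ}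
    [hs : Fact s.Prime] [ht : Fact t.Prime] (hst : s ≠ t) {a b : H} {i j : ℕ}
    (ha : orderOf a = s ^ i) (hb : orderOf b = t ^ j) : Commute a b := by
  have hn := (Group.isNilpotent_of_finite_tfae.out 0 3 rfl rfl).mp hH
  obtain ⟨P, hP⟩ := (IsPGroup.of_card (p := s) (n := i) (by rw [Nat.card_zpowers, ha]) :
    IsPGroup s ↥(zpowers a)).exists_le_sylow
  obtain ⟨T, hT⟩ := (IsPGroup.of_card (p := t) (n := j) (by rw [Nat.card_zpowers, hb]) :
    IsPGroup t ↥(zpowers b)).exists_le_sylow
  exact Subgroup.commute_of_normal_of_disjoint _ _ (hn s hs P) (hn t ht T)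
    (IsPGroup.disjoint_of_ne s t hst _ _ P.2 T.2) a b (hP (mem_zpowers a)) (hT (mem_zpowers b))

/-- The nilpotent case. -/
theorem elementary_of_nilpotent (N : Subgroup G) [N.Normal] (h : Hyp N) (hnil : Group.IsNilpotent ↥N) :
    ∃ p : ℕ, p.Prime ∧ Cfsg.IsElementaryAbelian p (⊤ : Subgroup (↥N ⧸ center ↥N)) := by
  have hcom : ∀ {s t : ℕ} {a b : G}, Fact s.Prime → Fact t.Prime → s ≠ t → a ∈ N → b ∈ N →
      (∃ i, orderOf a = s ^ i) → (∃ j, orderOf b = t ^ j) → Commute a b := by
    rintro s t a b hs ht hst ha hb ⟨i, hi⟩ ⟨j, hj⟩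
    exact congrArg Subtype.val (commute_of_nilpotent hnil hst (a := ⟨a, ha⟩) (b := ⟨b, hb⟩)
      (by rw [← Subgroup.orderOf_coe, hi]) (by rw [← Subgroup.orderOf_coe, hj])).eq
  by_cases hex : ∃ (p : ℕ) (x : G), Fact p.Prime ∧ x ∈ N ∧ x ∉ centralizer (N : Set G) ∧ ∃ k, orderOf x = p ^ k
  swap
  · push Not at hex
    have hc : N ≤ centralizer (N : Set G) := le_centralizer_of_primary le_rfl fun s y hs hy hyn hk =>
      (let ⟨k, hk⟩ := hk; (hex s y hs hy hyn k hk).elim)
    have h1 : ∀ q : ↥N ⧸ center ↥N, q = 1 := fun q => by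
      obtain ⟨g, rfl⟩ := QuotientGroup.mk_surjective q
      exact (QuotientGroup.eq_one_iff g).2 (mem_center_sub.2 (hc g.2))
    exact ⟨2, Nat.prime_two, ⟨⟨fun a b => Subtype.ext (by simp [h1 a, h1 b])⟩⟩, fun a _ => by simp [h1 a]⟩
  obtain ⟨p, x, hp, hx, hxn, hxk⟩ := hex
  have hother : ∀ (s : ℕ) (z : G), Fact s.Prime → z ∈ N → (∃ k, orderOf z = s ^ k) → s ≠ p →
      z ∈ centralizer (N : Set G) := by
    intro s z hs hz hzk hsp
    by_contra hzn
    obtain ⟨k, hk⟩ := hxk
    obtain ⟨j, hj⟩ := hzk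
    have e := centralizer_eq_of_commute h hx hxn hz hzn (hcom hp hs hsp.symm hx hz ⟨k, hk⟩ ⟨j, hj⟩)
      (by rw [hk, hj]; exact ((Nat.coprime_primes hp.out hs.out).2 hsp.symm).pow k j)
    have hle : N ≤ centralizer ({x} : Set G) := le_of_primary fun r w hr hw hwk => by
      by_cases hrp : r = p
      · subst hrp
        by_cases hwn : w ∈ centralizer (N : Set G)
        · exact mem_centralizer_singleton_iff.2 (mem_centralizer_iff.1 hwn x hx).symm
        · obtain ⟨i, hi⟩ := hwk
          have e' := centralizer_eq_of_commute h hw hwn hz hzn (hcom hr hs hsp.symm hw hz ⟨i, hi⟩ ⟨j, hj⟩)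
            (by rw [hi, hj]; exact ((Nat.coprime_primes hr.out hs.out).2 hsp.symm).pow i j)
          rw [e, ← e']
          exact mem_centralizer_self
      · exact mem_centralizer_singleton_iff.2 (hcom hr hp hrp hw hx hwk ⟨k, hk⟩).eq
    exact hxn (mem_centralizer_iff.2 fun n hn => mem_centralizer_singleton_iff.1 (hle hn))
  haveI : N.Normal := inferInstance
  have hQ : IsPGroup p (↥N ⧸ center ↥N) := by
    intro q
    obtain ⟨g, rfl⟩ := QuotientGroup.mk_surjective q
    refine ⟨(orderOf g).factorization p, ?_⟩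
    rw [← QuotientGroup.mk_pow, QuotientGroup.eq_one_iff, mem_center_sub]
    refine mem_of_primary_parts fun s z hs hz hzk => ?_
    rcases eq_or_ne s p with rfl | hsp
    · obtain ⟨j, hj⟩ := hzk
      have h1 : orderOf z ∣ orderOf (g ^ s ^ (orderOf g).factorization s) := by
        rw [← Subgroup.orderOf_coe]; exact orderOf_dvd_of_mem_zpowers hz
      have h2 : (orderOf z).Coprime s := by
        refine Nat.Coprime.coprime_dvd_left h1 ?_
        rw [orderOf_pow' _ (pow_ne_zero _ hs.out.ne_zero), Nat.gcd_eq_right (Nat.ordProj_dvd _ _)]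
        exact (Nat.coprime_ordCompl hs.out (orderOf_pos g).ne').symm
      rw [hj] at h2
      rcases Nat.eq_zero_or_pos j with rfl | hjpos
      · rw [pow_zero, orderOf_eq_one_iff] at hj; rw [hj]; exact one_mem _
      · exact absurd ((Nat.coprime_pow_left_iff hjpos s s).1 h2) (by simp [Nat.coprime_self, hs.out.ne_one])
    · exact hother s z hs (zpowers_le.2 (g ^ p ^ _).2 hz) hzk hsp
  -- the subgroup of commutators and `p`-th powers
  set X : Subgroup ↥N := commutator ↥N ⊔ closure (Set.range fun g : ↥N => g ^ p) with hX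
  haveI hXc : X.Characteristic := characteristic_iff_map_eq.2 fun e => by
    rw [hX, Subgroup.map_sup, characteristic_iff_map_eq.1 inferInstance e, MonoidHom.map_closure,
      ← Set.range_comp]
    congr 2
    ext w
    exact ⟨fun ⟨v, hv⟩ => ⟨e v, by rw [← hv]; simp⟩, fun ⟨v, hv⟩ => ⟨e.symm v, by rw [← hv]; simp⟩⟩
  haveI : (X.map N.subtype).Normal := Core.normal_map_char_of_normal _
  have hXF : X.map (QuotientGroup.mk' (center ↥N)) ≤ frattini (↥N ⧸ center ↥N) := by
    rw [map_le_iff_le_comap, hX, sup_le_iff, closure_le]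
    refine ⟨?_, ?_⟩
    · rw [← map_le_iff_le_comap]
      refine le_trans ?_ (Cfsg.Lib.PGroup.commutator_le_frattini hQ)
      rw [_root_.commutator_def, Subgroup.map_commutator]
      exact commutator_mono le_top le_top
    · rintro _ ⟨g, rfl⟩
      exact Cfsg.Lib.PGroup.pow_mem_frattini hQ (QuotientGroup.mk' _ g)
  have hXc' : X.map N.subtype ≤ centralizer (N : Set G) :=
    le_centralizer_of_primary (map_subtype_le _) fun s y hs hy hyn hk => by
      rcases prod_of_normalizes h hy hyn (map_subtype_le X) (by rw [normalizer_eq_top]; exact le_top) with e | e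
      · exact e
      · exfalso
        set Dbar : Subgroup (↥N ⧸ center ↥N) :=
          ((centralizer ({y} : Set G)).subgroupOf N).map (QuotientGroup.mk' (center ↥N))
        have htop : Dbar ⊔ frattini (↥N ⧸ center ↥N) = ⊤ := eq_top_iff.2 fun q _ => by
          obtain ⟨g, rfl⟩ := QuotientGroup.mk_surjective q
          obtain ⟨_, ⟨a, ha, rfl⟩, d, hd, hg⟩ := e g g.2
          have : g = a * ⟨d, hd.1⟩ := Subtype.ext hg
          rw [this, QuotientGroup.mk_mul]
          refine mul_mem (mem_sup_right (hXF ⟨a, ha, rfl⟩)) (mem_sup_left ⟨⟨d, hd.1⟩, ?_, rfl⟩)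
          exact mem_subgroupOf.2 hd.2
        have hD := frattini_nongenerating htop
        refine hyn (mem_centralizer_iff.2 fun n hn => ?_)
        obtain ⟨d, hd, he⟩ := hD.ge (mem_top (QuotientGroup.mk' (center ↥N) ⟨n, hn⟩))
        obtain ⟨c, hc, hce⟩ := (QuotientGroup.mk'_eq_mk' _).1 he
        have e1 : (d : G) * c = n := congrArg Subtype.val hce
        have e2 := mem_centralizer_singleton_iff.1 (mem_subgroupOf.1 hd)
        have e3 : y * (c : G) = c * y := mem_centralizer_iff.1 (mem_center_sub.1 hc) y hy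
        rw [← e1, mul_assoc, ← e3, ← mul_assoc, e2, mul_assoc]
  have hbot : ∀ g : ↥N, g ∈ X → (QuotientGroup.mk g : ↥N ⧸ center ↥N) = 1 := fun g hg =>
    (QuotientGroup.eq_one_iff g).2 (mem_center_sub.2 (hXc' ⟨g, hg, rfl⟩))
  refine ⟨p, hp.out, ⟨⟨fun a b => Subtype.ext ?_⟩⟩, fun a _ => ?_⟩
  · obtain ⟨a', ha⟩ := QuotientGroup.mk_surjective (a : ↥N ⧸ center ↥N)
    obtain ⟨b', hb⟩ := QuotientGroup.mk_surjective (b : ↥N ⧸ center ↥N)
    show (a : ↥N ⧸ center ↥N) * b = b * a
    rw [← ha, ← hb]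
    have h1 := hbot _ (mem_sup_left (commutator_mem_commutator (mem_top a') (mem_top b')) :
      ⁅a', b'⁆ ∈ X)
    rw [commutatorElement_def, QuotientGroup.mk_mul, QuotientGroup.mk_mul, QuotientGroup.mk_mul,
      QuotientGroup.mk_inv, QuotientGroup.mk_inv, mul_inv_eq_one, mul_inv_eq_iff_eq_mul] at h1
    exact h1
  · obtain ⟨a, rfl⟩ := QuotientGroup.mk_surjective a
    rw [← QuotientGroup.mk_pow]
    exact hbot _ (mem_sup_right (subset_closure ⟨a, rfl⟩))

/-- The non-nilpotent case: `N/Z(N)` is a Frobenius group. -/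
theorem frobenius_of_not_nilpotent (N : Subgroup G) [N.Normal] (h : Hyp N)
    (hnn : ¬ Group.IsNilpotent ↥N) :
    ∃ (E K : Subgroup (↥N ⧸ center ↥N)) (p : ℕ), p.Prime ∧ Cfsg.IsFrobeniusComplement E ∧
      (Nat.card ↥E).Prime ∧ K.Normal ∧ (K : Set (↥N ⧸ center ↥N)) = Cfsg.frobeniusKernel E ∧
      Cfsg.IsElementaryAbelian p K ∧ (∃ a, Nat.card ↥K = p ^ a) ∧ Nat.card ↥E ≠ p ∧
      Nat.card (↥N ⧸ center ↥N) = Nat.card ↥K * Nat.card ↥E ∧
      ∀ R : Subgroup ↥N, (R.map N.subtype).Normal → R.map (QuotientGroup.mk' (center ↥N)) ≤ K →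
        R.map (QuotientGroup.mk' (center ↥N)) = ⊥ ∨ R.map (QuotientGroup.mk' (center ↥N)) = K := by
  have hNsol := isSolvable_of_hyp N inferInstance h
  haveI := hNsol
  set Ft := Cfsg.fittingSubgroup ↥N with hFt
  set F := Fit N with hF
  haveI : F.Normal := fit_normal
  have hFn : ∀ W : Subgroup G, W ≤ normalizer (F : Set G) := fun W => by rw [normalizer_eq_top]; exact le_top
  have hFnil : Group.IsNilpotent ↥F := fit_isNilpotent
  have hFN : F ≤ N := map_subtype_le _
  have hFt' : ∀ g : ↥N, (g : G) ∈ F ↔ g ∈ Ft := fun g => mem_map_iff_mem N.subtype_injective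
  have hCF : ∀ n ∈ N, F ≤ centralizer ({n} : Set G) → n ∈ F := fun n hn hle => by
    refine (hFt' ⟨n, hn⟩).2 (Cfsg.Agent.S0044.result (mem_centralizer_iff.2 fun f hf => Subtype.ext ?_))
    exact mem_centralizer_singleton_iff.1 (hle ((hFt' f).2 hf))
  have hZF : ∀ n ∈ N, n ∈ centralizer (N : Set G) → n ∈ F := fun n hn hc => hCF n hn fun f hf =>
    mem_centralizer_singleton_iff.2 (mem_centralizer_iff.1 hc f (hFN hf))
  have hFne : ¬ N ≤ F := fun hle => hnn (Core.isNilpotent_of_le hle hFnil)
  have hy0 : ∀ y ∈ N, y ∉ F → y ∉ centralizer (N : Set G) ∧ ¬ F ≤ centralizer ({y} : Set G) :=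
    fun y hy hyF => ⟨fun hc => hyF (hZF y hy hc), fun hle => hyF (hCF y hy hle)⟩
  have hout : ∀ v ∈ N, v ∉ F → ∃ (s : ℕ) (y : G), Fact s.Prime ∧ y ∈ zpowers v ∧ y ∈ N ∧ y ∉ F ∧
      ∃ k, orderOf y = s ^ k := by
    intro v hv hvF
    by_contra! hno
    refine hvF (mem_of_primary_parts fun s z hs hz hzk => ?_)
    by_contra hzF
    obtain ⟨k, hk⟩ := hzk
    exact hno s z hs hz (zpowers_le.2 hv hz) hzF k hk
  -- (I) noncentral primary elements of `F` commute with no primary element outside `F`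
  have hI : ∀ (s t : ℕ) (z y : G), Fact s.Prime → Fact t.Prime → z ∈ F → z ∉ centralizer (N : Set G) →
      y ∈ N → y ∉ F → (∃ k, orderOf z = s ^ k) → (∃ k, orderOf y = t ^ k) → ¬ Commute z y := by
    rintro s t z y hs ht hz hzn hy hyF ⟨i, hi⟩ ⟨j, hj⟩ hzy
    set D := N ⊓ centralizer ({y} : Set G) with hD
    set I := F ⊓ D with hI'
    have hzI : z ∈ I := ⟨hz, hFN hz, mem_centralizer_singleton_iff.2 hzy.eq⟩
    have hCD : centralizer ({y} : Set G) ≤ normalizer (D : Set G) := normalizer_D y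
    have hCI : centralizer ({y} : Set G) ≤ normalizer (I : Set G) :=
      (le_inf (hFn _) hCD).trans inf_normalizer_le_normalizer_inf
    set NF := F ⊓ normalizer (I : Set G) with hNF
    have hCNF : centralizer ({y} : Set G) ≤ normalizer (NF : Set G) :=
      (le_inf (hFn _) (hCI.trans le_normalizer)).trans inf_normalizer_le_normalizer_inf
    rcases eq_or_eq_of_normalizes h hy (hy0 y hy hyF).1 (X := NF ⊔ D)
      (sup_le (inf_le_left.trans hFN) inf_le_left) (sup_normalizes hCNF hCD) le_sup_right with e | e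
    · have hle : NF ≤ I := le_inf inf_le_left (le_sup_left.trans e.le)
      haveI := hFnil
      have hlt : I.subgroupOf F < ⊤ := lt_top_iff_ne_top.2 fun e' =>
        (hy0 y hy hyF).2 ((subgroupOf_eq_top.1 e').trans (inf_le_right.trans inf_le_right))
      obtain ⟨a, ha, haI⟩ := SetLike.exists_of_lt (Group.normalizerCondition_of_isNilpotent _ hlt)
      refine haI (mem_subgroupOf.2 (hle ⟨a.2, mem_normalizer_iff.2 fun b => ⟨fun hb => ?_, fun hb => ?_⟩⟩))
      · exact mem_subgroupOf.1 ((mem_normalizer_iff.1 ha ⟨b, hb.1⟩).1 (mem_subgroupOf.2 hb))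
      · have hbF : b ∈ F := by
          have h2 := F.mul_mem (F.mul_mem (F.inv_mem a.2) hb.1) a.2
          simpa [mul_assoc] using h2
        exact mem_subgroupOf.1 ((mem_normalizer_iff.1 ha ⟨b, hbF⟩).2 (mem_subgroupOf.2 hb))
    · have hDI : D ≤ normalizer (I : Set G) := inf_le_right.trans hCI
      have hNI : N ≤ normalizer (I : Set G) := e.ge.trans (sup_le inf_le_right hDI)
      have hM : N ⊓ centralizer (I : Set G) ≤ F := le_fit inf_le_left
        (fun n hn => (inf_normalizer_le_normalizer_inf : _ ≤ normalizer ((N ⊓ centralizer (I : Set G) : Subgroup G) : Set G))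
          ⟨le_normalizer hn, mem_normalizer_iff.2 fun c => by
            have key : ∀ m ∈ normalizer (I : Set G), ∀ w ∈ centralizer (I : Set G),
                m * w * m⁻¹ ∈ centralizer (I : Set G) := fun m hm w hw => mem_centralizer_iff.2 fun u hu => by
              have hu' := (mem_normalizer_iff.1 (inv_mem hm) u).1 hu
              have := congrArg (fun v => m * v * m⁻¹) (mem_centralizer_iff.1 hw _ hu')
              simpa [mul_assoc] using this
            exact ⟨key n (hNI hn) c, fun hc => by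
              simpa [mul_assoc] using key _ (inv_mem (hNI hn)) _ hc⟩⟩)
        (Core.isNilpotent_of_le (inf_le_inf_left N (centralizer_le (Set.singleton_subset_iff.2 hzI)))
          (isNilpotent_D h (hFN hz) hzn hi))
      exact hyF (hM ⟨hy, mem_centralizer_iff.2 fun u hu => mem_centralizer_singleton_iff.1 hu.2.2⟩)
  have hDz : ∀ (s : ℕ) (z : G), Fact s.Prime → z ∈ F → z ∉ centralizer (N : Set G) →
      (∃ k, orderOf z = s ^ k) → N ⊓ centralizer ({z} : Set G) = F := by
    intro s z hs hz hzn hzk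
    have hle : N ⊓ centralizer ({z} : Set G) ≤ F := le_of_primary fun t w ht hw hwk => by
      by_contra hwF
      exact hI s t z w hs ht hz hzn hw.1 hwF hzk hwk (mem_centralizer_singleton_iff.1 hw.2).symm
    exact ((eq_or_eq_of_normalizes h (hFN hz) hzn hFN (hFn _) hle).resolve_right
      fun e => hFne e.ge).symm
  have hFab : ∀ a ∈ F, ∀ b ∈ F, a * b = b * a := by
    intro a ha b hb
    have : F ≤ centralizer ({a} : Set G) := le_of_primary fun s z hs hz hzk => by
      by_cases hzn : z ∈ centralizer (N : Set G)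
      · exact mem_centralizer_singleton_iff.2 (mem_centralizer_iff.1 hzn a (hFN ha)).symm
      · exact mem_centralizer_singleton_iff.2
          (mem_centralizer_singleton_iff.1 ((hDz s z hs hz hzn hzk).ge ha).2).symm
    exact (mem_centralizer_singleton_iff.1 (this hb)).symm
  -- an element outside `F` fixes no noncentral element of `F`
  have hfix : ∀ f ∈ F, ∀ v ∈ N, v ∉ F → Commute f v → f ∈ centralizer (N : Set G) := by
    intro f hf v hv hvF hfv
    obtain ⟨t, y, ht, hyv, hy, hyF, hyk⟩ := hout v hv hvF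
    refine mem_of_primary_parts fun s z hs hz hzk => ?_
    by_contra hzn
    obtain ⟨i, rfl⟩ := mem_zpowers_iff.1 hz
    obtain ⟨j, rfl⟩ := mem_zpowers_iff.1 hyv
    exact hI s t _ _ hs ht (F.zpow_mem hf i) hzn hy hyF hzk hyk ((hfv.zpow_left i).zpow_right j)
  set π := QuotientGroup.mk' (center ↥N) with hπ
  have hπ1 : ∀ g : ↥N, π g = 1 ↔ (g : G) ∈ centralizer (N : Set G) := fun g => by
    rw [hπ, QuotientGroup.mk'_apply, QuotientGroup.eq_one_iff, mem_center_sub]
  set K := Ft.map π with hK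
  have hKF : ∀ g : ↥N, π g ∈ K ↔ (g : G) ∈ F := by
    intro g
    refine ⟨fun ⟨f, hf, he⟩ => ?_, fun hg => ⟨g, (hFt' g).1 hg, rfl⟩⟩
    obtain ⟨c, hc, rfl⟩ := (QuotientGroup.mk'_eq_mk' _).1 he
    exact F.mul_mem ((hFt' f).2 hf) (hZF c c.2 (mem_center_sub.1 hc))
  haveI : K.Normal := (Core.fittingSubgroup_normal' ↥N).map π (QuotientGroup.mk'_surjective _)
  -- fixed point freeness modulo the center
  have hfpf : ∀ e : ↥N ⧸ center ↥N, e ∉ K → ∀ k ∈ K, Commute k e → k = 1 := by
    intro e he k hk hke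
    obtain ⟨v, rfl⟩ := QuotientGroup.mk_surjective e
    obtain ⟨f, hf, rfl⟩ := hk
    obtain ⟨t, y, ht, hyv, hy, hyF, j, hj⟩ := hout v v.2 (fun h' => he ((hKF v).2 h'))
    obtain ⟨i, rfl⟩ := mem_zpowers_iff.1 hyv
    have hfy : π (f * v ^ i * f⁻¹ * (v ^ i)⁻¹) = 1 := by
      simp only [map_mul, map_inv, map_zpow, hπ, QuotientGroup.mk'_apply] at *
      rw [(hke.zpow_right i).eq, mul_inv_cancel_right, mul_inv_cancel]
    rw [hπ1]
    set c := ((f * v ^ i * f⁻¹ * (v ^ i)⁻¹ : ↥N) : G) with hc
    have hc' : c ∈ centralizer (N : Set G) := (hπ1 _).1 hfy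
    have hconj : (f : G) * (v : G) ^ i * (f : G)⁻¹ = c * (v : G) ^ i := by simp [hc]
    set D := N ⊓ centralizer ({(v : G) ^ i} : Set G) with hD
    have hDc : ∀ d ∈ N, d ∈ D ↔ d * (c * (v : G) ^ i) = c * (v : G) ^ i * d := by
      intro d hd
      have hcd : d * c = c * d := mem_centralizer_iff.1 hc' d hd
      rw [hD, mem_inf, mem_centralizer_singleton_iff, ← mul_assoc, hcd, mul_assoc, mul_assoc,
        mul_right_inj]
      exact ⟨fun h' => h'.2, fun h' => ⟨hd, h'⟩⟩
    have hfD : (f : G) ∈ normalizer (D : Set G) := by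
      have key : ∀ d ∈ N, d ∈ D ↔ (f : G) * d * (f : G)⁻¹ ∈ D := by
        intro d hd
        rw [hDc _ (N.mul_mem (N.mul_mem f.2 hd) (N.inv_mem f.2)), ← hconj, hD, mem_inf,
          mem_centralizer_singleton_iff]
        constructor
        · rintro ⟨-, h'⟩
          calc (f : G) * d * (f : G)⁻¹ * ((f : G) * (v : G) ^ i * (f : G)⁻¹)
              = (f : G) * (d * (v : G) ^ i) * (f : G)⁻¹ := by group
            _ = (f : G) * ((v : G) ^ i * d) * (f : G)⁻¹ := by rw [h']
            _ = _ := by group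
        · intro h'
          have := congrArg (fun w => (f : G)⁻¹ * w * (f : G)) h'
          exact ⟨hd, by simpa [mul_assoc] using this⟩
      refine mem_normalizer_iff.2 fun d => ⟨fun hd => (key d hd.1).1 hd, fun hd => (key d ?_).2 hd⟩
      have h2 := N.mul_mem (N.mul_mem (N.inv_mem f.2) hd.1) f.2
      simpa [mul_assoc] using h2
    have hyn := (hy0 _ hy hyF).1
    have hCD : centralizer ({(v : G) ^ i} : Set G) ≤ normalizer (D : Set G) := normalizer_D _
    have hCX : centralizer ({(v : G) ^ i} : Set G) ≤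
        normalizer ((F ⊓ normalizer (D : Set G) : Subgroup G) : Set G) :=
      (le_inf (hFn _) (hCD.trans le_normalizer)).trans inf_normalizer_le_normalizer_inf
    rcases eq_or_eq_of_normalizes h hy hyn (X := (F ⊓ normalizer (D : Set G)) ⊔ D)
      (sup_le (inf_le_left.trans hFN) inf_le_left) (sup_normalizes hCX hCD) le_sup_right with e' | e'
    · have hfd : (f : G) ∈ D := e'.le (mem_sup_left ⟨(hFt' f).2 hf, hfD⟩)
      exact hfix _ ((hFt' f).2 hf) _ hy hyF (mem_centralizer_singleton_iff.1 hfd.2)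
    · exact absurd (le_fit inf_le_left (e'.ge.trans (sup_le inf_le_right le_normalizer))
        (isNilpotent_D h hy hyn hj) ⟨hy, mem_centralizer_self⟩) hyF
  obtain ⟨v0, hv0, hv0F⟩ := SetLike.not_le_iff_exists.1 hFne
  obtain ⟨t, y, ht, -, hy, hyF, j, hj⟩ := hout v0 hv0 hv0F
  -- normal subgroups inside `F`
  have hmin : ∀ R : Subgroup G, R.Normal → R ≤ F → R ≤ centralizer (N : Set G) ∨
      ∀ f ∈ F, ∃ a ∈ R, ∃ c ∈ centralizer (N : Set G), f = a * c := by
    intro R hR hRF
    rcases prod_of_normalizes h hy (hy0 y hy hyF).1 (hRF.trans hFN) (by rw [normalizer_eq_top]; exact le_top) with e | e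
    · exact Or.inl fun r hr => hfix r (hRF hr) y hy hyF (mem_centralizer_singleton_iff.1 (e hr))
    · refine Or.inr fun f hf => ?_
      obtain ⟨a, ha, d, hd, rfl⟩ := e f (hFN hf)
      have hdF : d ∈ F := by
        have := F.mul_mem (F.inv_mem (hRF ha)) hf
        rwa [inv_mul_cancel_left] at this
      exact ⟨a, ha, d, hfix d hdF y hy hyF (mem_centralizer_singleton_iff.1 hd.2), rfl⟩
  have hFc : ¬ F ≤ centralizer (N : Set G) := fun hle => (hy0 y hy hyF).2 fun f hf =>
    mem_centralizer_singleton_iff.2 (mem_centralizer_iff.1 (hle hf) y hy).symm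
  obtain ⟨p, z, hp, hz, hzn, ⟨k, hk⟩⟩ : ∃ (p : ℕ) (z : G), Fact p.Prime ∧ z ∈ F ∧
      z ∉ centralizer (N : Set G) ∧ ∃ k, orderOf z = p ^ k := by
    by_contra! hno
    refine hFc (le_of_primary fun s w hs hw hwk => ?_)
    by_contra hwn
    obtain ⟨i, hi⟩ := hwk
    exact hno s w hs hw hwn i hi
  -- exponent `p`
  have hpow : ∀ f ∈ F, f ^ p ∈ centralizer (N : Set G) := by
    let R : Subgroup G :=
      { carrier := {f | f ∈ F ∧ f ^ p ∈ centralizer (N : Set G)}
        one_mem' := ⟨one_mem _, by rw [one_pow]; exact one_mem _⟩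
        mul_mem' := fun {a b} ha hb => ⟨F.mul_mem ha.1 hb.1, by
          rw [(show Commute a b from hFab a ha.1 b hb.1).mul_pow]; exact mul_mem ha.2 hb.2⟩
        inv_mem' := fun {a} ha => ⟨F.inv_mem ha.1, by rw [inv_pow]; exact inv_mem ha.2⟩ }
    have hR : R.Normal := ⟨fun a ha g => ⟨(inferInstance : F.Normal).conj_mem a ha.1 g, by
      rw [conj_pow]
      exact mem_centralizer_iff.2 fun n hn => by
        have hn' : g⁻¹ * n * g ∈ N := by simpa using (inferInstance : N.Normal).conj_mem n hn g⁻¹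
        have := congrArg (fun w => g * w * g⁻¹) (mem_centralizer_iff.1 ha.2 _ hn')
        simpa [mul_assoc] using this⟩⟩
    have hne : ¬ R ≤ centralizer (N : Set G) := by
      intro hle
      have hc : ∀ i, z ^ p ^ (k - i) ∈ centralizer (N : Set G) := by
        intro i
        induction i with
        | zero => rw [Nat.sub_zero, ← hk, pow_orderOf_eq_one]; exact one_mem _
        | succ i ih =>
          rcases Nat.lt_or_ge i k with hik | hik
          · refine hle ⟨F.pow_mem hz _, ?_⟩
            rwa [← pow_mul, ← pow_succ, show k - (i + 1) + 1 = k - i by omega]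
          · rwa [show k - (i + 1) = k - i by omega]
      exact hzn (by simpa using hc k)
    intro f hf
    obtain ⟨a, ha, c, hc, rfl⟩ := (hmin R hR fun a ha => ha.1).resolve_left hne f hf
    rw [(show Commute a c from mem_centralizer_iff.1 hc a (hFN ha.1)).mul_pow]
    exact mul_mem ha.2 (pow_mem hc p)
  have hKp : ∀ q ∈ K, q ^ p = 1 := by
    rintro _ ⟨f, hf, rfl⟩
    rw [← map_pow, hπ1]
    exact hpow f ((hFt' f).2 hf)
  have hKel : Cfsg.IsElementaryAbelian p K := by
    refine ⟨⟨⟨fun a b => Subtype.ext ?_⟩⟩, hKp⟩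
    obtain ⟨a', ha, hea⟩ := a.2
    obtain ⟨b', hb, heb⟩ := b.2
    show (a : ↥N ⧸ center ↥N) * b = b * a
    rw [← hea, ← heb, ← map_mul, ← map_mul]
    exact congrArg π (Subtype.ext (hFab a' ((hFt' a').2 ha) b' ((hFt' b').2 hb)))
  have hKP : IsPGroup p ↥K := fun q => ⟨1, Subtype.ext (by simpa using hKp q q.2)⟩
  -- the quotient by `F`
  haveI : Ft.Normal := Core.fittingSubgroup_normal' ↥N
  haveI : Nontrivial (↥N ⧸ Ft) := QuotientGroup.nontrivial_iff.2 fun e => hFne fun n hn =>
    (hFt' ⟨n, hn⟩).2 (e.ge (mem_top _))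
  have hzX : ∀ X : Subgroup ↥N, (X.map N.subtype).Normal → Ft ≤ X → X = Ft ∨ X = ⊤ := by
    intro X hX hle
    have hD := hDz p z hp hz hzn ⟨k, hk⟩
    rcases eq_or_eq_of_normalizes h (hFN hz) hzn (map_subtype_le X) (by rw [normalizer_eq_top]; exact le_top)
      (hD.le.trans (Subgroup.map_mono hle)) with e | e
    · exact Or.inl (Subgroup.map_injective N.subtype_injective (e.trans hD))
    · refine Or.inr (Subgroup.map_injective N.subtype_injective ?_)
      rw [e, ← MonoidHom.range_eq_map, range_subtype]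
  have habel : commutator ↥N ≤ Ft := by
    haveI : (commutator ↥N).Characteristic := inferInstance
    haveI hc : (Ft ⊔ commutator ↥N).Characteristic := characteristic_iff_map_eq.2 fun e => by
      rw [Subgroup.map_sup, characteristic_iff_map_eq.1 inferInstance e,
        characteristic_iff_map_eq.1 inferInstance e]
    rcases hzX (Ft ⊔ commutator ↥N) (Core.normal_map_char_of_normal _) le_sup_left with e | e
    · exact le_sup_right.trans e.le
    · exfalso
      refine (Group.IsSolvable.commutator_lt_top_of_nontrivial (↥N ⧸ Ft)).ne ?_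
      have := congrArg (Subgroup.map (QuotientGroup.mk' Ft)) e
      rw [Subgroup.map_sup, QuotientGroup.map_mk'_self, bot_sup_eq, Subgroup.map_top_of_surjective _
        (QuotientGroup.mk'_surjective Ft), _root_.commutator_def, Subgroup.map_commutator,
        Subgroup.map_top_of_surjective _ (QuotientGroup.mk'_surjective Ft)] at this
      exact this
  obtain ⟨r, hr, hrd⟩ := Nat.exists_prime_and_dvd (Finite.one_lt_card (α := ↥N ⧸ Ft)).ne'
  haveI hrf := Fact.mk hr
  have hrpow : ∀ n : ↥N, n ^ r ∈ Ft := by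
    have hcomm : ∀ a b : ↥N ⧸ Ft, a * b = b * a := fun a b =>
      (by
        obtain ⟨a, rfl⟩ := QuotientGroup.mk_surjective a
        obtain ⟨b, rfl⟩ := QuotientGroup.mk_surjective b
        rw [← QuotientGroup.mk_mul, ← QuotientGroup.mk_mul, QuotientGroup.eq]
        refine habel ?_
        have e : (a * b)⁻¹ * (b * a) = ⁅b⁻¹, a⁻¹⁆ := by simp [commutatorElement_def, mul_assoc]
        rw [e]
        exact commutator_mem_commutator (mem_top _) (mem_top _))
    let X : Subgroup ↥N :=
      { carrier := {n | (QuotientGroup.mk n : ↥N ⧸ Ft) ^ r = 1}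
        one_mem' := by simp
        mul_mem' := fun {a b} ha hb => by
          show (QuotientGroup.mk (a * b) : ↥N ⧸ Ft) ^ r = 1
          rw [QuotientGroup.mk_mul, (show Commute (QuotientGroup.mk a : ↥N ⧸ Ft) (QuotientGroup.mk b)
            from hcomm _ _).mul_pow, ha, hb, one_mul]
        inv_mem' := fun {a} ha => by
          show (QuotientGroup.mk a⁻¹ : ↥N ⧸ Ft) ^ r = 1
          rw [QuotientGroup.mk_inv, inv_pow, ha, inv_one] }
    have hX : ∀ n : ↥N, n ∈ X ↔ n ^ r ∈ Ft := fun n => by
      show (QuotientGroup.mk n : ↥N ⧸ Ft) ^ r = 1 ↔ _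
      rw [← QuotientGroup.mk_pow, QuotientGroup.eq_one_iff]
    have hXn : (X.map N.subtype).Normal := ⟨fun a ha g => by
      obtain ⟨a, haX, rfl⟩ := ha
      refine ⟨⟨g * a * g⁻¹, (inferInstance : N.Normal).conj_mem _ a.2 g⟩, (hX _).2 ((hFt' _).1 ?_), rfl⟩
      simp only [SubmonoidClass.coe_pow]
      rw [conj_pow]
      refine (inferInstance : F.Normal).conj_mem _ ?_ g
      have := (hFt' _).2 ((hX a).1 haX)
      simpa using this⟩
    rcases hzX X hXn (fun f hf => (hX f).2 (Ft.pow_mem hf r)) with e | e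
    · exfalso
      obtain ⟨q, hq⟩ := exists_prime_orderOf_dvd_card' r hrd
      obtain ⟨n, rfl⟩ := QuotientGroup.mk_surjective q
      have hn : n ∈ X := by
        show (QuotientGroup.mk n : ↥N ⧸ Ft) ^ r = 1
        rw [← hq]; exact pow_orderOf_eq_one _
      rw [e, ← QuotientGroup.eq_one_iff] at hn
      rw [hn, orderOf_one] at hq
      exact hr.ne_one hq.symm
    · exact fun n => (hX n).1 (e.ge (mem_top n))
  have hpr : r ≠ p := by
    rintro rfl
    refine hnn ?_
    have hQ : IsPGroup r (↥N ⧸ center ↥N) := by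
      intro q
      obtain ⟨n, rfl⟩ := QuotientGroup.mk_surjective q
      refine ⟨2, ?_⟩
      rw [pow_two, pow_mul]
      exact hKp _ ⟨n ^ r, hrpow n, by simp [hπ]⟩
    haveI := hQ.isNilpotent
    exact Subgroup.isNilpotent_of_ker_le_center (QuotientGroup.mk' (center ↥N)) (QuotientGroup.ker_mk' _).le
  -- the complement
  set E := ((centralizer ({y} : Set G)).subgroupOf N).map π with hE
  have hKE : K ⊓ E = ⊥ := by
    rw [eq_bot_iff]
    rintro _ ⟨hk', ⟨d, hd, rfl⟩⟩
    rw [mem_bot, hπ1]
    exact hfix _ ((hKF d).1 hk') y hy hyF (mem_centralizer_singleton_iff.1 (mem_subgroupOf.1 hd))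
  have hKEtop : K ⊔ E = ⊤ := by
    refine eq_top_iff.2 fun q _ => ?_
    obtain ⟨g, rfl⟩ := QuotientGroup.mk_surjective q
    obtain ⟨a, ha, d, hd, hg⟩ := (prod_of_normalizes h hy (hy0 y hy hyF).1 hFN (hFn _)).resolve_left
      (hy0 y hy hyF).2 g g.2
    have he : g = (⟨a, hFN ha⟩ : ↥N) * ⟨d, hd.1⟩ := Subtype.ext hg
    rw [he, QuotientGroup.mk_mul]
    exact mul_mem_sup ⟨⟨a, hFN ha⟩, (hFt' _).1 ha, rfl⟩ ⟨⟨d, hd.1⟩, mem_subgroupOf.2 hd.2, rfl⟩
  have hEK : ∀ e ∈ E, e ∈ K → e = 1 := fun e he hek => mem_bot.1 (hKE.le ⟨hek, he⟩)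
  have hEr : ∀ e ∈ E, e ^ r = 1 := fun e he => hEK _ (E.pow_mem he r) (by
    obtain ⟨n, rfl⟩ := QuotientGroup.mk_surjective e
    exact ⟨n ^ r, hrpow n, by simp [hπ]⟩)
  haveI hEab : IsMulCommutative ↥E := ⟨⟨fun a b => Subtype.ext (by
    have h1 : ⁅(a : ↥N ⧸ center ↥N), (b : ↥N ⧸ center ↥N)⁆ = 1 := hEK _
      (by rw [commutatorElement_def]; exact E.mul_mem (E.mul_mem (E.mul_mem a.2 b.2) (E.inv_mem a.2)) (E.inv_mem b.2))
      (by
        obtain ⟨a', ha'⟩ := QuotientGroup.mk_surjective (a : ↥N ⧸ center ↥N)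
        obtain ⟨b', hb'⟩ := QuotientGroup.mk_surjective (b : ↥N ⧸ center ↥N)
        refine ⟨⁅a', b'⁆, habel (commutator_mem_commutator (mem_top _) (mem_top _)), ?_⟩
        rw [map_commutatorElement, hπ, QuotientGroup.mk'_apply, QuotientGroup.mk'_apply, ha', hb'])
    exact commutatorElement_eq_one_iff_mul_comm.1 h1)⟩⟩
  have hyE : π ⟨y, hy⟩ ∈ E := ⟨⟨y, hy⟩, mem_subgroupOf.2 mem_centralizer_self, rfl⟩
  have hy1 : π ⟨y, hy⟩ ≠ 1 := fun e => hyF ((hKF ⟨y, hy⟩).1 (e ▸ one_mem K))
  have hKne : K ≠ ⊥ := fun e => hzn ((hπ1 ⟨z, hFN hz⟩).1 (mem_bot.1 (e.le ((hKF ⟨z, hFN hz⟩).2 hz))))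
  have hEP : IsPGroup r ↥E := fun e => ⟨1, Subtype.ext (by simpa using hEr e e.2)⟩
  obtain ⟨aK, haK⟩ := IsPGroup.iff_card.1 hKP
  obtain ⟨aE, haE⟩ := IsPGroup.iff_card.1 hEP
  have hEcyc : IsCyclic ↥E := by
    by_contra hnc
    refine hKne (eq_bot_iff.2 ((Cfsg.Lib.Coprime.le_iSup_centralizer_of_not_isCyclic hnc
      (by rw [normalizer_eq_top]; exact le_top)
      (by rw [haK, haE]; exact ((Nat.coprime_primes hr hp.out).2 hpr).pow _ _)).trans (iSup_le fun e => ?_)))
    rintro k' ⟨hk', hc⟩
    exact mem_bot.2 (hfpf e (fun h' => e.2.2 (hEK _ e.2.1 h')) k' hk' (mem_centralizer_singleton_iff.1 hc))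
  have hEcard : Nat.card ↥E = r := by
    have h1 : Nat.card ↥E ∣ r := by
      rw [← IsCyclic.exponent_eq_card]
      exact Monoid.exponent_dvd_of_forall_pow_eq_one fun e => Subtype.ext (by simpa using hEr e e.2)
    refine ((Nat.dvd_prime hr).1 h1).resolve_left fun e1 => hy1 ?_
    exact mem_bot.1 ((Subgroup.card_eq_one.1 e1).le hyE)
  have hdec : ∀ q : ↥N ⧸ center ↥N, ∃ a ∈ K, ∃ e ∈ E, a * e = q := fun q =>
    mem_sup_of_normal_left.1 (hKEtop.ge (mem_top q))
  refine ⟨E, K, p, hp.out, ⟨?_, ?_, ?_⟩, hEcard ▸ hr, inferInstance, ?_, hKel, ⟨aK, haK⟩,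
    hEcard ▸ hpr, ?_, ?_⟩
  · exact fun e => hy1 (mem_bot.1 (e.le hyE))
  · exact fun e => hKne (by rwa [e, inf_top_eq] at hKE)
  · intro g hg
    by_contra hne
    obtain ⟨a, ha, e, he, rfl⟩ := hdec g
    have hmap : MulAut.conj (a * e) • E = E.map (MulAut.conj (a * e)).toMonoidHom := rfl
    rw [hmap] at hne
    have hcard : Nat.card ↥(E.map (MulAut.conj (a * e)).toMonoidHom) = r := by
      rw [card_map_of_injective (MulAut.conj (a * e)).injective, hEcard]
    have hd : Nat.card ↥(E ⊓ E.map (MulAut.conj (a * e)).toMonoidHom) = r := by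
      refine ((Nat.dvd_prime hr).1 (hEcard ▸ card_dvd_of_le inf_le_left)).resolve_left fun e1 => ?_
      exact hne (Subgroup.card_eq_one.1 e1)
    have heq : E.map (MulAut.conj (a * e)).toMonoidHom = E :=
      (eq_of_le_of_card_ge inf_le_right (by rw [hd, hcard])).symm.trans
        (eq_of_le_of_card_ge inf_le_left (by rw [hd, hEcard]))
    have hn := (Core.mem_normalizer_iff_map_conj).2 heq
    have han : a ∈ normalizer (E : Set (↥N ⧸ center ↥N)) := by
      simpa using mul_mem hn (inv_mem (le_normalizer he))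
    set e0 := π ⟨y, hy⟩
    have h1 : a * e0 * a⁻¹ * e0⁻¹ = 1 := hEK _
      (E.mul_mem ((mem_normalizer_iff.1 han e0).1 hyE) (E.inv_mem hyE))
      (by
        have h2 := K.mul_mem ha ((inferInstance : K.Normal).conj_mem _ (K.inv_mem ha) e0)
        simpa [mul_assoc] using h2)
    have ha1 := hfpf e0 (fun h' => hy1 (hEK _ hyE h')) a ha (mul_inv_eq_iff_eq_mul.1 (mul_inv_eq_one.1 h1))
    exact hg (by rw [ha1, one_mul]; exact he)
  · ext q
    refine ⟨fun hq => ?_, fun hq => ?_⟩
    · by_cases hq1 : q = 1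
      · exact Or.inl hq1
      · refine Or.inr fun g hqg => hq1 ?_
        obtain ⟨e, he, rfl⟩ := hqg
        have he' : e ∈ K := by
          have h2 := (inferInstance : K.Normal).conj_mem _ hq g⁻¹
          simpa [mul_assoc] using h2
        rw [hEK e he he']
        simp
    · rcases hq with rfl | hq
      · exact one_mem K
      obtain ⟨a, ha, e, he, rfl⟩ := hdec q
      by_contra hnK
      have he1 : e ∉ K := fun h' => hnK (K.mul_mem ha h')
      have hinj : Function.Injective (fun b : ↥K => (⟨(b : ↥N ⧸ center ↥N) * (e * (b : ↥N ⧸ center ↥N)⁻¹ * e⁻¹),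
          K.mul_mem b.2 ((inferInstance : K.Normal).conj_mem _ (K.inv_mem b.2) e)⟩ : ↥K)) := by
        intro b c hbc
        have h1 : (b : ↥N ⧸ center ↥N) * (e * (b : ↥N ⧸ center ↥N)⁻¹ * e⁻¹) =
            (c : ↥N ⧸ center ↥N) * (e * (c : ↥N ⧸ center ↥N)⁻¹ * e⁻¹) := congrArg Subtype.val hbc
        have h2 : Commute ((c : ↥N ⧸ center ↥N)⁻¹ * b) e := by
          have := congrArg (fun w => (c : ↥N ⧸ center ↥N)⁻¹ * w * e * b) h1
          simp only [mul_assoc, inv_mul_cancel_left, inv_mul_cancel, mul_one] at this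
          simpa [Commute, SemiconjBy, mul_assoc] using this
        have := hfpf e he1 _ (K.mul_mem (K.inv_mem c.2) b.2) h2
        exact Subtype.ext (inv_mul_eq_one.1 this).symm
      obtain ⟨b, hb⟩ := (Finite.injective_iff_surjective.1 hinj) ⟨a, ha⟩
      refine hq (b : ↥N ⧸ center ↥N) ⟨e, he, ?_⟩
      have hb' : (b : ↥N ⧸ center ↥N) * (e * (b : ↥N ⧸ center ↥N)⁻¹ * e⁻¹) = a := congrArg Subtype.val hb
      rw [← hb']
      simp [mul_assoc]
  · have hcp : K.IsComplement' E := isComplement'_of_disjoint_and_mul_eq_univ (disjoint_iff.2 hKE)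
      (by rw [← normal_mul, hKEtop, coe_top])
    exact hcp.card_mul_card.symm
  · intro R hR hRK
    rcases hmin (R.map N.subtype) hR (by rintro _ ⟨g, hg, rfl⟩; exact (hKF g).1 (hRK ⟨g, hg, rfl⟩)) with e | e
    · refine Or.inl (eq_bot_iff.2 ?_)
      rintro _ ⟨g, hg, rfl⟩
      exact mem_bot.2 ((hπ1 g).2 (e ⟨g, hg, rfl⟩))
    · refine Or.inr (le_antisymm hRK ?_)
      rintro _ ⟨f, hf, rfl⟩
      obtain ⟨_, ⟨a, ha, rfl⟩, c, hc, hfe⟩ := e f ((hFt' f).2 hf)
      refine ⟨a, ha, ?_⟩
      have h1 : π (a⁻¹ * f) = 1 := by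
        rw [hπ1]
        simpa [hfe] using hc
      rw [map_mul, map_inv, inv_mul_eq_one] at h1
      exact h1

end Cfsg.Lib.Struct.MaxCent
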