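import Cfsg.Agent.S3912
import Cfsg.Agent.S4025
import Cfsg.Agent.Lib.Coprime.Generation
import Cfsg.Agent.Lib.Core.PSolvable

/-!
# Elementary abelian Sylow subgroups in solvable groups with conjugate abelian subgroups

If `R` is a normal elementary abelian Sylow `r`-subgroup with `C(R) = R`, the group has no elementary
abelian subgroup of order `p²`, `p ≠ r`, and a quaternion subgroup of order 8 fixes no proper non-trivial
subgroup of `R`.
-/

set_option autoImplicit false
set_option linter.style.haveILetI false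

open Subgroup
open scoped Pointwise commutatorElement

namespace Cfsg.Lib.Struct.AbelianConjSolv

open AbelianConj

theorem comm_of_le {G : Type*} [Group G] {H K : Subgroup G} (h : H ≤ K) (hK : IsMulCommutative ↥K) :
    IsMulCommutative ↥H :=
  ⟨⟨fun a b => Subtype.ext (setLike_mul_comm (h a.2) (h b.2))⟩⟩

universe u

/-! ### The semiaffine group of a field -/

section Semiaffine

variable {K : Type*} [Field K]

theorem sa_phi_unique {σ : Equiv.Perm K} {a a' : Kˣ} {b b' : K} {φ φ' : K ≃+* K}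
    (h : ∀ x, σ x = (a : K) * φ x + b) (h' : ∀ x, σ x = (a' : K) * φ' x + b') :
    a = a' ∧ b = b' ∧ φ = φ' := by
  have hb : b = b' := by
    have h0 := (h 0).symm.trans (h' 0)
    simpa using h0
  subst hb
  have ha : a = a' := by
    have h1 := (h 1).symm.trans (h' 1)
    exact Units.ext (by simpa using h1)
  subst ha
  refine ⟨rfl, rfl, RingEquiv.ext fun x => ?_⟩
  exact mul_left_cancel₀ a.ne_zero (add_right_cancel ((h x).symm.trans (h' x)))

/-- The field automorphism of a semiaffine permutation. -/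
noncomputable def saPhi : ↥(Cfsg.semiaffineGroup K) →* (K ≃+* K) :=
  MonoidHom.mk' (fun σ => σ.2.choose_spec.choose_spec.choose) fun σ τ => by
    have hσ := σ.2.choose_spec.choose_spec.choose_spec
    have hτ := τ.2.choose_spec.choose_spec.choose_spec
    have hστ := (σ * τ).2.choose_spec.choose_spec.choose_spec
    set a := σ.2.choose
    set b := σ.2.choose_spec.choose
    set φ := σ.2.choose_spec.choose_spec.choose
    set c := τ.2.choose
    set d := τ.2.choose_spec.choose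
    set ψ := τ.2.choose_spec.choose_spec.choose
    have h : ∀ x, ((σ * τ : ↥(Cfsg.semiaffineGroup K)) : Equiv.Perm K) x =
        ((a * Units.map (φ : K →* K) c : Kˣ) : K) * (φ * ψ) x + ((a : K) * φ d + b) := by
      intro x
      show (σ : Equiv.Perm K) ((τ : Equiv.Perm K) x) = _
      rw [hτ, hσ, map_add, map_mul]
      simp only [Units.val_mul, Units.coe_map, MonoidHom.coe_coe]
      show _ = (a : K) * φ (c : K) * φ (ψ x) + _
      ring
    exact (sa_phi_unique hστ h).2.2

theorem saPhi_spec (σ : ↥(Cfsg.semiaffineGroup K)) (h : saPhi σ = 1) :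
    ∃ a : Kˣ, ∃ b : K, ∀ x, (σ : Equiv.Perm K) x = (a : K) * x + b := by
  refine ⟨σ.2.choose, σ.2.choose_spec.choose, fun x => ?_⟩
  have hσ := σ.2.choose_spec.choose_spec.choose_spec x
  rw [show σ.2.choose_spec.choose_spec.choose = 1 from h] at hσ
  exact hσ

/-- The multiplier of an affine permutation. -/
noncomputable def saMul : ↥(saPhi (K := K)).ker →* Kˣ :=
  MonoidHom.mk' (fun σ => (saPhi_spec σ.1 σ.2).choose) fun σ τ => by
    obtain ⟨b, hb⟩ := (saPhi_spec σ.1 σ.2).choose_spec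
    obtain ⟨d, hd⟩ := (saPhi_spec τ.1 τ.2).choose_spec
    obtain ⟨e, he⟩ := (saPhi_spec (σ * τ).1 (σ * τ).2).choose_spec
    set a := (saPhi_spec σ.1 σ.2).choose
    set c := (saPhi_spec τ.1 τ.2).choose
    refine (sa_phi_unique (φ := RingEquiv.refl K) (φ' := RingEquiv.refl K) he (b' := (a : K) * d + b) ?_).1
    intro x
    show ((σ : ↥(Cfsg.semiaffineGroup K)) : Equiv.Perm K) (((τ : ↥(Cfsg.semiaffineGroup K)) : Equiv.Perm K) x) = _
    rw [hd, hb, Units.val_mul, RingEquiv.refl_apply]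
    ring

theorem saMul_spec (σ : ↥(saPhi (K := K)).ker) :
    ∃ b : K, ∀ x, ((σ : ↥(Cfsg.semiaffineGroup K)) : Equiv.Perm K) x = (saMul σ : K) * x + b :=
  (saPhi_spec σ.1 σ.2).choose_spec

/-- A translation of order prime to the characteristic is trivial. -/
theorem saMul_eq_one {σ : ↥(saPhi (K := K)).ker} (h : saMul σ = 1) {m : ℕ}
    (hm : σ ^ m = 1) (hmK : (m : K) ≠ 0) : σ = 1 := by
  obtain ⟨b, hb⟩ := saMul_spec σ
  rw [h] at hb
  have hpow : ∀ j : ℕ, ∀ x, (((σ : ↥(Cfsg.semiaffineGroup K)) : Equiv.Perm K) ^ j) x = x + (j : K) * b := by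
    intro j
    induction j with
    | zero => intro x; simp
    | succ j ih =>
      intro x
      rw [pow_succ', Equiv.Perm.mul_apply, ih, hb]
      push_cast
      ring
  have h1 := hpow m 0
  rw [← SubmonoidClass.coe_pow, ← SubmonoidClass.coe_pow, hm] at h1
  have hb0 : b = 0 := by
    simpa [hmK] using h1.symm
  refine Subtype.ext (Subtype.ext (Equiv.ext fun x => ?_))
  rw [hb, hb0]
  simp

variable [Finite K]

/-- A `p`-group of semiaffine permutations, `p` prime to the characteristic, is cyclic by a group of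
field automorphisms. -/
theorem sa_cyclic_kernel {E : Type*} [Group E] [Finite E] {p : ℕ} [Fact p.Prime] (hE : IsPGroup p E)
    (f : E →* ↥(Cfsg.semiaffineGroup K)) (hf : Function.Injective f) (hp : (p : K) ≠ 0) :
    IsCyclic ↥(saPhi.comp f).ker ∧ (saPhi.comp f).ker.index ∣ Nat.card (K ≃+* K) ∧
    ∀ (s : E) (hs : f s ∈ (saPhi (K := K)).ker), s ≠ 1 → saMul ⟨f s, hs⟩ ≠ 1 := by
  have hinj : ∀ (s : E) (hs : f s ∈ (saPhi (K := K)).ker), saMul ⟨f s, hs⟩ = 1 → s = 1 := by
    intro s hs h1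
    obtain ⟨k, hk⟩ := hE s
    refine hf (((map_one f).symm) ▸ ?_)
    refine congrArg Subtype.val (saMul_eq_one h1 (m := p ^ k) (Subtype.ext ?_) ?_ :
      (⟨f s, hs⟩ : ↥(saPhi (K := K)).ker) = 1)
    · show f s ^ p ^ k = 1
      rw [← map_pow, hk, map_one]
    · rw [Nat.cast_pow]; exact pow_ne_zero _ hp
  refine ⟨?_, ?_, fun s hs hs1 h1 => hs1 (hinj s hs h1)⟩
  · let g : ↥(saPhi.comp f).ker →* Kˣ :=
      saMul.comp ((f.comp (saPhi.comp f).ker.subtype).codRestrict _ fun x => x.2)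
    refine isCyclic_of_injective g ((injective_iff_map_eq_one g).2 fun x hx => ?_)
    exact Subtype.ext (hinj _ x.2 hx)
  · rw [index_ker]
    exact card_subgroup_dvd_card _

/-- A commuting pair of an affine non-translation and an element of order `r`, `r` the characteristic. -/
theorem sa_commute_false {r : ℕ} [Fact r.Prime] [CharP K r]
    (hr : ¬ r ∣ Nat.card (K ≃+* K)) {s t : ↥(Cfsg.semiaffineGroup K)} (hs : s ∈ (saPhi (K := K)).ker)
    (hs1 : saMul ⟨s, hs⟩ ≠ 1) (ht : t ^ r = 1) (hst : Commute s t) : t = 1 := by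
  have htk : t ∈ (saPhi (K := K)).ker := by
    refine MonoidHom.mem_ker.2 (orderOf_eq_one_iff.1 (Nat.eq_one_of_dvd_coprimes
      ((Nat.Prime.coprime_iff_not_dvd Fact.out).2 hr) (orderOf_dvd_of_pow_eq_one ?_)
      (orderOf_dvd_natCard _)))
    rw [← map_pow, ht, map_one]
  have hmt : saMul ⟨t, htk⟩ = 1 := by
    have h := congrArg (fun u : Kˣ => (u : K)) (map_pow saMul (⟨t, htk⟩ : ↥(saPhi (K := K)).ker) r)
    rw [show (⟨t, htk⟩ : ↥(saPhi (K := K)).ker) ^ r = 1 from Subtype.ext ht, map_one] at h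
    simp only [Units.val_one, Units.val_pow_eq_pow_val] at h
    have h2 : ((saMul ⟨t, htk⟩ : K) - 1) ^ r = 0 := by rw [sub_pow_char, ← h, one_pow, sub_self]
    exact Units.ext (sub_eq_zero.1 (pow_eq_zero_iff (Fact.out : r.Prime).ne_zero |>.1 h2))
  obtain ⟨b, hb⟩ := saMul_spec ⟨t, htk⟩
  obtain ⟨d, hd⟩ := saMul_spec ⟨s, hs⟩
  rw [hmt] at hb
  have h0 := congrArg (fun σ : ↥(Cfsg.semiaffineGroup K) => (σ : Equiv.Perm K) 0) hst.eq
  simp only [Subgroup.coe_mul, Equiv.Perm.mul_apply] at h0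
  rw [hb, hd, hd, hb] at h0
  simp only [Units.val_one, one_mul, mul_zero, zero_add] at h0
  have hb0 : b = 0 := by
    have h3 : ((saMul ⟨s, hs⟩ : K) - 1) * b = 0 := by linear_combination h0
    refine (mul_eq_zero.1 h3).resolve_left fun h4 => hs1 (Units.ext (sub_eq_zero.1 h4))
  refine Subtype.ext (Equiv.ext fun x => ?_)
  rw [hb, hb0]
  simp

end Semiaffine

/-! ### Faithful action on a normal elementary abelian Sylow subgroup -/

variable {G : Type u} [Group G] [Finite G]

theorem le_normal_sylow {r : ℕ} [Fact r.Prime] (R : Sylow r G) [(R : Subgroup G).Normal] {H : Subgroup G}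
    (hH : IsPGroup r H) : H ≤ (R : Subgroup G) := by
  obtain ⟨Q, hQ⟩ := hH.exists_le_sylow
  obtain ⟨g, hg⟩ := MulAction.exists_smul_eq G R Q
  rw [Sylow.smul_eq_of_normal] at hg
  exact hg ▸ hQ

theorem card_inf_centralizer_eq (hB : Conj G) (R : Subgroup G) [R.Normal] {x y : G}
    (h : orderOf x = orderOf y) :
    Nat.card ↥(R ⊓ centralizer ({x} : Set G)) = Nat.card ↥(R ⊓ centralizer ({y} : Set G)) := by
  suffices key : ∀ x y : G, orderOf x = orderOf y →
      Nat.card ↥(R ⊓ centralizer ({x} : Set G)) ≤ Nat.card ↥(R ⊓ centralizer ({y} : Set G)) from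
    le_antisymm (key x y h) (key y x h.symm)
  intro x y h
  obtain ⟨g, hg⟩ := hB (zpowers x) (zpowers y) inferInstance inferInstance
    (by rw [Nat.card_zpowers, Nat.card_zpowers, h])
  rw [← card_map_of_injective (K := R ⊓ centralizer ({x} : Set G)) (f := (MulAut.conj g).toMonoidHom) (MulAut.conj g).injective]
  refine Nat.le_of_dvd Nat.card_pos (card_dvd_of_le ?_)
  rintro _ ⟨z, hz, rfl⟩
  refine ⟨(inferInstance : R.Normal).conj_mem z hz.1 g, mem_centralizer_singleton_iff.2 ?_⟩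
  obtain ⟨_, ⟨k, rfl⟩, hy⟩ := hg.le (mem_zpowers y)
  rw [← hy]
  have hc : Commute z x := mem_centralizer_singleton_iff.1 hz.2
  exact ((hc.zpow_right k).map (MulAut.conj g).toMonoidHom).eq

theorem centralizer_sylow_le [Group.IsSolvable G] {r : ℕ} [Fact r.Prime] (R : Sylow r G)
    [(R : Subgroup G).Normal] (hO : Cfsg.pPrimeCore r G = ⊥) :
    centralizer ((R : Subgroup G) : Set G) ≤ R := by
  have h1 : Cfsg.pCore r G = (R : Subgroup G) :=
    le_antisymm (Core.pCore_le_sylow R) (Core.le_pCore R.2)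
  have h2 := Core.centralizer_pCore_le_of_isPSolvable
    (Core.isPSolvable_of_isSolvable (p := r) (G := G)) hO
  rwa [h1] at h2

/-- For dimension at least three the group embeds in a semiaffine group. -/
theorem exists_semiaffine [Group.IsSolvable G] (hB : Conj G) {r : ℕ} [Fact r.Prime] (R : Sylow r G)
    [(R : Subgroup G).Normal] (hR : Cfsg.IsElementaryAbelian r (R : Subgroup G))
    (hO : Cfsg.pPrimeCore r G = ⊥) {n : ℕ} (hcard : Nat.card (R : Subgroup G) = r ^ n) (hn : 3 ≤ n) :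
    (n = 3 ∧ ∃ f : G →* ↥(Cfsg.semiaffineGroup (GaloisField r 3)), Function.Injective f) ∨
      (n = 5 ∧ r = 2 ∧ ∃ f : G →* ↥(Cfsg.semiaffineGroup (GaloisField 2 5)), Function.Injective f) := by
  have hC : ∀ H K : Subgroup G, IsPGroup r H → IsPGroup r K → Nat.card H = Nat.card K →
      ∃ g : G, K = H.map (MulAut.conj g).toMonoidHom := by
    intro H K hH hK h
    exact hB H K (comm_of_le (le_normal_sylow R hH) hR.1)
      (comm_of_le (le_normal_sylow R hK) hR.1) h
  haveI : Group.IsSolvable (↥(⊤ : Subgroup G) ⧸ Cfsg.pPrimeCore r ↥(⊤ : Subgroup G)) := inferInstance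
  have hker : Cfsg.pPrimeCore r ↥(⊤ : Subgroup G) = ⊥ := by
    rw [← Core.map_pPrimeCore_equiv (topEquiv (G := G)).symm, hO, Subgroup.map_bot]
  let q : G →* ↥(⊤ : Subgroup G) ⧸ Cfsg.pPrimeCore r ↥(⊤ : Subgroup G) :=
    (QuotientGroup.mk' _).comp (topEquiv (G := G)).symm.toMonoidHom
  have hq : Function.Injective q := (injective_iff_map_eq_one q).2 fun x hx => by
    have h1 : (topEquiv (G := G)).symm x ∈ Cfsg.pPrimeCore r ↥(⊤ : Subgroup G) :=
      (QuotientGroup.eq_one_iff _).1 hx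
    rw [hker, mem_bot] at h1
    simpa using h1
  rcases Cfsg.Agent.S4025.result hC R n hn hR hcard ⊤ (normalizer_eq_top _).symm inferInstance with
    ⟨h3, ⟨f, hf⟩, -⟩ | ⟨h5, h2, ⟨e⟩⟩
  · exact Or.inl ⟨h3, f.comp q, hf.comp hq⟩
  · exact Or.inr ⟨h5, h2, e.toMonoidHom.comp q, e.injective.comp hq⟩

theorem natCast_ne_zero {r n p : ℕ} [Fact r.Prime] [hp : Fact p.Prime] (hpr : p ≠ r) :
    (p : GaloisField r n) ≠ 0 := by
  rw [Ne, CharP.cast_eq_zero_iff (GaloisField r n) r]
  exact fun h => hpr ((Nat.prime_dvd_prime_iff_eq Fact.out hp.out).1 h).symm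

theorem not_isCyclic_elementary {p : ℕ} [hp : Fact p.Prime] {E : Subgroup G}
    (hE : Cfsg.IsElementaryAbelian p E) (hc : Nat.card E = p ^ 2) : ¬ IsCyclic E := by
  intro h
  obtain ⟨g, hg⟩ := IsCyclic.exists_generator (α := ↥E)
  have h1 : Nat.card ↥E ∣ p := by
    rw [← orderOf_eq_card_of_forall_mem_zpowers hg]
    exact orderOf_dvd_of_pow_eq_one (Subtype.ext (hE.2 g g.2))
  rw [hc] at h1
  have := (Nat.pow_dvd_pow_iff_le_right hp.out.one_lt).1 (by rwa [pow_one] : p ^ 2 ∣ p ^ 1)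
  omega

theorem no_rank_two [Group.IsSolvable G] (hB : Conj G) {r : ℕ} [Fact r.Prime] (R : Sylow r G)
    [(R : Subgroup G).Normal] (hR : Cfsg.IsElementaryAbelian r (R : Subgroup G))
    (hO : Cfsg.pPrimeCore r G = ⊥) {p : ℕ} [hp : Fact p.Prime] (hpr : p ≠ r) (E : Subgroup G)
    (hE : Cfsg.IsElementaryAbelian p E) (hc : Nat.card E = p ^ 2) : False := by
  haveI := hE.1
  obtain ⟨n, hn⟩ := IsPGroup.iff_card.1 R.2
  set R' := (R : Subgroup G) with hR'
  have hnc := not_isCyclic_elementary hE hc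
  have hEp : IsPGroup p E := IsPGroup.of_card hc
  have hcop : (Nat.card E).Coprime (Nat.card R') := by
    rw [hc, hn]
    exact Nat.Coprime.pow _ _ ((Nat.coprime_primes hp.out Fact.out).2 hpr)
  have hord : ∀ e ∈ E, e ≠ 1 → orderOf e = p := fun e he h1 => orderOf_eq_prime (hE.2 e he) h1
  -- fixed points are non-trivial and proper
  have hne : ∀ e ∈ E, e ≠ 1 → R' ⊓ centralizer ({e} : Set G) ≠ R' := by
    intro e he h1 h
    have h2 : e ∈ R' := centralizer_sylow_le R hO (mem_centralizer_iff.2 fun t ht =>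
      mem_centralizer_singleton_iff.1 (h.ge ht).2)
    exact h1 (disjoint_def.1 (IsPGroup.disjoint_of_ne _ _ hpr E R' hEp R.2) he h2)
  have hgen := Coprime.le_iSup_centralizer_of_not_isCyclic hnc (le_normalizer_of_normal (H := R')) hcop
  have hR1 : R' ≠ ⊥ := by
    intro h
    obtain ⟨e, he, he1⟩ := E.bot_or_exists_ne_one.resolve_left fun h0 => hnc (h0 ▸ inferInstance)
    exact hne e he he1 (by rw [h, bot_inf_eq])
  have hbot : ∀ e ∈ E, e ≠ 1 → R' ⊓ centralizer ({e} : Set G) ≠ ⊥ := by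
    intro e he he1 h
    refine hR1 (le_bot_iff.1 (hgen.trans (iSup_le fun a => le_of_eq ?_)))
    have := card_inf_centralizer_eq hB R' ((hord e he he1).trans (hord a.1 a.2.1 a.2.2).symm)
    rw [h, card_bot] at this
    exact card_eq_one.1 this.symm
  rcases Nat.lt_or_ge n 3 with hn3 | hn3
  swap
  · rcases exists_semiaffine hB R hR hO hn hn3 with ⟨h3, f, hf⟩ | ⟨h5, h2, f, hf⟩
    · have hK : (p : GaloisField r 3) ≠ 0 := natCast_ne_zero hpr
      obtain ⟨hcy, hidx, hmul⟩ := sa_cyclic_kernel hEp (f.comp E.subtype) (hf.comp E.subtype_injective) hK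
      set N := (saPhi.comp (f.comp E.subtype)).ker with hN
      rw [Cfsg.Agent.S4025.card_ringAut r 3 (by norm_num)] at hidx
      have hN1 : N ≠ ⊥ := by
        intro h
        rw [h, index_bot, hc] at hidx
        rcases (Nat.dvd_prime Nat.prime_three).1 hidx with h' | h' <;> nlinarith [hp.out.two_le]
      by_cases hr3 : r = 3
      · subst hr3
        refine hnc ?_
        have hNtop : N = ⊤ := index_eq_one.1 (Nat.eq_one_of_dvd_coprimes
          ((Nat.coprime_primes hp.out Nat.prime_three).2 hpr |>.pow_left 2) (hc ▸ N.index_dvd_card) hidx)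
        exact (MulEquiv.isCyclic ((MulEquiv.subgroupCongr hNtop).trans topEquiv)).1 hcy
      obtain ⟨e, heN, he1⟩ := N.bot_or_exists_ne_one.resolve_left hN1
      refine hbot e e.2 (fun h => he1 (Subtype.ext h)) (eq_bot_iff.2 fun t ht => mem_bot.2 ?_)
      refine hf ((sa_commute_false (K := GaloisField r 3) (r := r) ?_ (s := f e) (t := f t) heN
        (hmul e heN he1) ?_ ?_).trans (map_one f).symm)
      · rw [Cfsg.Agent.S4025.card_ringAut r 3 (by norm_num)]
        exact fun h => hr3 ((Nat.prime_dvd_prime_iff_eq Fact.out Nat.prime_three).1 h)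
      · rw [← map_pow, hR.2 t ht.1, map_one]
      · exact (Commute.symm (mem_centralizer_singleton_iff.1 ht.2)).map f
    · subst h2
      have hK : (p : GaloisField 2 5) ≠ 0 := natCast_ne_zero hpr
      obtain ⟨hcy, hidx, -⟩ := sa_cyclic_kernel hEp (f.comp E.subtype) (hf.comp E.subtype_injective) hK
      set N := (saPhi.comp (f.comp E.subtype)).ker with hN
      rw [Cfsg.Agent.S4025.card_ringAut 2 5 (by norm_num)] at hidx
      by_cases hp5 : p = 5
      · subst hp5
        haveI := hcy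
        have h31 : Nat.card ↥N ∣ 31 := by
          let g : ↥N →* (GaloisField 2 5)ˣ :=
            saMul.comp (((f.comp E.subtype).comp N.subtype).codRestrict _ fun x => x.2)
          have hg : Function.Injective g := (injective_iff_map_eq_one g).2 fun x hx => by
            by_contra hx1
            exact (sa_cyclic_kernel hEp (f.comp E.subtype) (hf.comp E.subtype_injective) hK).2.2 _ x.2
              (fun h => hx1 (Subtype.ext h)) hx
          refine (card_dvd_of_injective g hg).trans (dvd_of_eq ?_)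
          rw [Nat.card_units, GaloisField.card 2 5 (by norm_num)]; norm_num
        have h1 := N.card_mul_index
        rw [hc] at h1
        have := (mul_dvd_mul h31 hidx)
        rw [h1] at this
        norm_num at this
      · refine hnc ?_
        have hNtop : N = ⊤ := index_eq_one.1 (Nat.eq_one_of_dvd_coprimes
          ((Nat.coprime_primes hp.out (by norm_num)).2 hp5 |>.pow_left 2) (hc ▸ N.index_dvd_card) hidx)
        exact (MulEquiv.isCyclic ((MulEquiv.subgroupCongr hNtop).trans topEquiv)).1 hcy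
  -- lines
  have hline : ∀ e ∈ E, e ≠ 1 → Nat.card ↥(R' ⊓ centralizer ({e} : Set G)) = r ∧ n = 2 := by
    intro e he he1
    obtain ⟨j, hj, hje⟩ := (Nat.dvd_prime_pow (Fact.out : r.Prime)).1
      (hn ▸ card_dvd_of_le (inf_le_left : R' ⊓ centralizer ({e} : Set G) ≤ R'))
    have hj0 : j ≠ 0 := fun h => hbot e he he1 (card_eq_one.1 (by rw [hje, h, pow_zero]))
    have hjn : j ≠ n := fun h => hne e he he1 (eq_of_le_of_card_ge inf_le_left (by rw [hje, h, hn]))
    have : j = 1 ∧ n = 2 := by omega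
    exact ⟨by rw [hje, this.1, pow_one], this.2⟩
  obtain ⟨x, hx, hx1⟩ := E.bot_or_exists_ne_one.resolve_left fun h0 => hnc (h0 ▸ inferInstance)
  obtain ⟨hLx, hn2⟩ := hline x hx hx1
  obtain ⟨y, hy, hyx⟩ : ∃ y ∈ E, y ∉ zpowers x := by
    by_contra h
    push Not at h
    have := card_le_of_le (show E ≤ zpowers x from h)
    rw [hc, Nat.card_zpowers, hord x hx hx1] at this
    nlinarith [hp.out.two_le]
  have hy1 : y ≠ 1 := fun h => hyx (h ▸ one_mem _)
  have hyx' : x * y ≠ 1 := fun h => hyx (by rw [(eq_inv_of_mul_eq_one_right h)]; exact inv_mem (mem_zpowers x))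
  have hEc : ∀ a ∈ E, ∀ b ∈ E, Commute a b := fun a ha b hb => setLike_mul_comm ha hb
  set L := fun e : G => R' ⊓ centralizer ({e} : Set G) with hL
  have hinv : ∀ a ∈ E, ∀ b ∈ E, ∀ t ∈ L b, a * t * a⁻¹ ∈ L b := by
    intro a ha b hb t ht
    refine ⟨(inferInstance : R'.Normal).conj_mem t ht.1 a, mem_centralizer_singleton_iff.2 ?_⟩
    have h2 : Commute t b := mem_centralizer_singleton_iff.1 ht.2
    exact (((hEc a ha b hb).mul_left h2).mul_left (hEc a ha b hb).inv_left).eq
  -- the three lines are distinct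
  have hdist : ∀ a ∈ E, ∀ b ∈ E, a ≠ 1 → b ≠ 1 → b ∉ zpowers a → L a ⊓ L b = ⊥ := by
    intro a ha b hb ha1 hb1 hab
    rw [eq_bot_iff]
    intro t ht
    by_contra ht1
    have hLab : L a = L b := by
      have hpr' : ∀ e ∈ E, e ≠ 1 → zpowers t = L e ∨ t ∉ L e := by
        intro e he he1
        by_cases hte : t ∈ L e
        · refine Or.inl (eq_of_le_of_card_ge (zpowers_le.2 hte) ?_)
          rw [Nat.card_zpowers, orderOf_eq_prime (hR.2 t hte.1) ht1, (hline e he he1).1]
        · exact Or.inr hte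
      exact ((hpr' a ha ha1).resolve_right (fun h => h ht.1)).symm.trans
        ((hpr' b hb hb1).resolve_right fun h => h ht.2)
    -- every element of `E` fixes the line
    have hEab : E ≤ zpowers a ⊔ zpowers b := by
      refine (eq_of_le_of_card_ge (sup_le (zpowers_le.2 ha) (zpowers_le.2 hb)) ?_).ge
      have hlt : zpowers a < zpowers a ⊔ zpowers b :=
        lt_of_le_of_ne le_sup_left fun h => hab (h ▸ mem_sup_right (mem_zpowers b))
      have h1 := Fusion.card_lt_card_of_lt hlt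
      rw [Nat.card_zpowers, hord a ha ha1] at h1
      obtain ⟨i, hi, hie⟩ := (Nat.dvd_prime_pow hp.out).1
        (hc ▸ card_dvd_of_le (sup_le (zpowers_le.2 ha) (zpowers_le.2 hb)))
      have : i = 2 := by
        rcases (by omega : i = 0 ∨ i = 1 ∨ i = 2) with rfl | rfl | rfl
        · rw [hie, pow_zero] at h1; have := hp.out.two_le; omega
        · rw [hie, pow_one] at h1; omega
        · rfl
      rw [hie, this, hc]
    have hall : ∀ e ∈ E, t ∈ centralizer ({e} : Set G) := by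
      intro e he
      have hec : e ∈ centralizer ({t} : Set G) :=
        (sup_le (zpowers_le.2 (mem_centralizer_singleton_iff.2 (mem_centralizer_singleton_iff.1 ht.1.2).symm))
          (zpowers_le.2 (mem_centralizer_singleton_iff.2 (mem_centralizer_singleton_iff.1 ht.2.2).symm))
          : zpowers a ⊔ zpowers b ≤ centralizer ({t} : Set G)) (hEab he)
      exact mem_centralizer_singleton_iff.2 (mem_centralizer_singleton_iff.1 hec).symm
    have hsame : ∀ e ∈ E, e ≠ 1 → L e = L a := by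
      intro e he he1
      refine (eq_of_le_of_card_ge (zpowers_le.2 (show t ∈ L e from ⟨ht.1.1, hall e he⟩)) ?_).symm.trans
        (eq_of_le_of_card_ge (zpowers_le.2 ht.1) ?_)
      · rw [Nat.card_zpowers, orderOf_eq_prime (hR.2 t ht.1.1) ht1, (hline e he he1).1]
      · rw [Nat.card_zpowers, orderOf_eq_prime (hR.2 t ht.1.1) ht1, (hline a ha ha1).1]
    refine hne a ha ha1 (le_antisymm inf_le_left ?_)
    exact hgen.trans (iSup_le fun e => (hsame e.1 e.2.1 e.2.2).le)
  have hxy : L x ⊓ L y = ⊥ := hdist x hx y hy hx1 hy1 hyx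
  have hxyx : L x ⊓ L (x * y) = ⊥ := hdist x hx _ (E.mul_mem hx hy) hx1 hyx' fun h =>
    hyx (by simpa using mul_mem (inv_mem (mem_zpowers x)) h)
  have hxyy : L (x * y) ⊓ L y = ⊥ := hdist _ (E.mul_mem hx hy) y hy hyx' hy1 fun h => by
    obtain ⟨k, hk⟩ := mem_zpowers_iff.1 h
    rw [(hEc x hx y hy).mul_zpow] at hk
    have h1 : x ^ k = y ^ (1 - k) := by
      rw [zpow_sub, zpow_one, eq_mul_inv_iff_mul_eq]
      exact hk
    by_cases hkp : (p : ℤ) ∣ k
    · obtain ⟨l, rfl⟩ := hkp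
      rw [zpow_mul, zpow_natCast, hE.2 x hx, one_zpow, one_mul, zpow_mul, zpow_natCast, hE.2 y hy, one_zpow] at hk
      exact hy1 hk.symm
    · refine hyx (?_ : y ∈ zpowers x)
      have hc' : IsCoprime k (p : ℤ) := by
        rw [Int.isCoprime_iff_nat_coprime, Int.natAbs_natCast]
        exact (hp.out.coprime_iff_not_dvd.2 fun h => hkp (Int.natCast_dvd.2 h)).symm
      by_cases hkp' : (p : ℤ) ∣ 1 - k
      · exfalso
        obtain ⟨l, hl⟩ := hkp'
        rw [hl, zpow_mul, zpow_natCast, hE.2 y hy, one_zpow] at h1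
        obtain ⟨u, v, huv⟩ := hc'
        refine hx1 ?_
        rw [← zpow_one x, ← huv, zpow_add, mul_comm u k, zpow_mul, h1, one_zpow, mul_comm v, zpow_mul,
          zpow_natCast, hE.2 x hx, one_zpow, one_mul]
      · have hc'' : IsCoprime (1 - k) (p : ℤ) := by
          rw [Int.isCoprime_iff_nat_coprime, Int.natAbs_natCast]
          exact (hp.out.coprime_iff_not_dvd.2 fun h => hkp' (Int.natCast_dvd.2 h)).symm
        obtain ⟨u, v, huv⟩ := hc''
        rw [← zpow_one y, ← huv, zpow_add, mul_comm u, zpow_mul, ← h1, mul_comm v, zpow_mul y, zpow_natCast,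
          hE.2 y hy, one_zpow, mul_one]
        exact zpow_mem (zpow_mem (mem_zpowers x) _) _
  -- `x` centralizes `R`
  refine hne x hx hx1 (le_antisymm inf_le_left fun t ht => ?_)
  have hsup : L x ⊔ L y = R' := by
    refine eq_of_le_of_card_ge (sup_le inf_le_left inf_le_left) ?_
    obtain ⟨i, hi, hie⟩ := (Nat.dvd_prime_pow (Fact.out : r.Prime)).1
      (hn ▸ card_dvd_of_le (sup_le (inf_le_left : L x ≤ R') (inf_le_left : L y ≤ R')))
    have hlt : L x < L x ⊔ L y := by
      refine lt_of_le_of_ne le_sup_left fun h => hbot y hy hy1 ?_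
      rw [← hxy]
      exact (inf_eq_right.2 (le_sup_right.trans h.ge)).symm
    have h1 := Fusion.card_lt_card_of_lt hlt
    have : i = 2 := by
      rw [show Nat.card ↥(L x) = r from hLx, hie] at h1
      rcases (by omega : i = 0 ∨ i = 1 ∨ i = 2) with rfl | rfl | rfl
      · rw [pow_zero] at h1; have := (Fact.out : r.Prime).two_le; omega
      · rw [pow_one] at h1; omega
      · rfl
    rw [hie, this, hn, hn2]
  obtain ⟨v, hv, hv1⟩ := (L (x * y)).bot_or_exists_ne_one.resolve_left (hbot _ (E.mul_mem hx hy) hyx')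
  haveI := hR.1
  have hmemsup : ∀ w ∈ R', ∃ a ∈ L x, ∃ b ∈ L y, a * b = w := by
    intro w hw
    rw [← hsup, ← SetLike.mem_coe,
      coe_mul_of_right_le_normalizer_left (L x) (L y) (fun b hb => centralizer_le_normalizer _
        (mem_centralizer_iff.2 fun a ha => setLike_mul_comm (s := R') ha.1 hb.1))] at hw
    obtain ⟨a, ha, b, hb, e⟩ := hw
    exact ⟨a, ha, b, hb, e⟩
  obtain ⟨a, ha, b, hb, hab⟩ := hmemsup v hv.1
  have hxa : x * a * x⁻¹ = a := by
    rw [← mem_centralizer_singleton_iff.1 ha.2, mul_inv_cancel_right]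
  have hxb : x * b * x⁻¹ = b := by
    have h1 := hinv x hx y hy b hb
    have h2 := hinv x hx _ (E.mul_mem hx hy) v hv
    rw [← hab, show x * (a * b) * x⁻¹ = (x * a * x⁻¹) * (x * b * x⁻¹) by group, hxa] at h2
    have h3 : b⁻¹ * (x * b * x⁻¹) ∈ L (x * y) := by
      have := (L (x * y)).mul_mem ((L (x * y)).inv_mem hv) h2
      rwa [← hab, show (a * b)⁻¹ * (a * (x * b * x⁻¹)) = b⁻¹ * (x * b * x⁻¹) by group] at this
    have h4 : b⁻¹ * (x * b * x⁻¹) ∈ L (x * y) ⊓ L y := ⟨h3, (L y).mul_mem ((L y).inv_mem hb) h1⟩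
    rw [hxyy, mem_bot, inv_mul_eq_one] at h4
    exact h4.symm
  have hbL : b ∈ L x := ⟨hb.1, mem_centralizer_singleton_iff.2 (mul_inv_eq_iff_eq_mul.1 hxb).symm⟩
  have hb1 : b = 1 := mem_bot.1 (hxy ▸ (⟨hbL, hb⟩ : b ∈ L x ⊓ L y))
  exfalso
  rw [hb1, mul_one] at hab
  exact hv1 (mem_bot.1 (hxyx ▸ (⟨hab ▸ ha, hv⟩ : v ∈ L x ⊓ L (x * y))))

/-- An element acts as a power map on a section of prime order. -/
theorem exists_power_map {A B : Subgroup G} (hA : IsMulCommutative ↥A) (hBA : B ≤ A) {r : ℕ}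
    [Fact r.Prime] (hAB : Nat.card A = Nat.card B * r) {x : G} (hxA : x ∈ normalizer (A : Set G))
    (hxB : x ∈ normalizer (B : Set G)) : ∃ k : ℤ, ∀ v ∈ A, x * v * x⁻¹ * (v ^ k)⁻¹ ∈ B := by
  haveI := hA
  obtain ⟨t, ht, htB⟩ : ∃ t ∈ A, t ∉ B := by
    by_contra h
    push Not at h
    have h1 := card_le_of_le (show A ≤ B from h)
    rw [hAB] at h1
    have := (Fact.out : r.Prime).two_le
    have := Nat.card_pos (α := ↥B)
    nlinarith
  have hsup : zpowers t ⊔ B = A := by
    refine eq_of_le_of_card_ge (sup_le (zpowers_le.2 ht) hBA) (le_of_eq ?_)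
    have hle : zpowers t ⊔ B ≤ A := sup_le (zpowers_le.2 ht) hBA
    obtain ⟨m, hm⟩ := card_dvd_of_le (le_sup_right : B ≤ zpowers t ⊔ B)
    have h2 := card_dvd_of_le hle
    rw [hAB, hm, mul_dvd_mul_iff_left Nat.card_pos.ne'] at h2
    rcases (Nat.dvd_prime (Fact.out : r.Prime)).1 h2 with rfl | rfl
    · rw [mul_one] at hm
      exact absurd ((eq_of_le_of_card_ge le_sup_right hm.le).ge (mem_sup_left (mem_zpowers t))) htB
    · rw [hAB, hm]
  have hdec : ∀ v ∈ A, ∃ (i : ℤ) (b : G), b ∈ B ∧ v = t ^ i * b := by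
    intro v hv
    rw [← hsup, ← SetLike.mem_coe,
      coe_mul_of_left_le_normalizer_right (zpowers t) B (zpowers_le.2
        (mem_normalizer_iff.2 fun b => ⟨fun hb => by
          rw [setLike_mul_comm (s := A) ht (hBA hb), mul_inv_cancel_right]; exact hb,
          fun hb => by
            have h := setLike_mul_comm (s := A) (inv_mem ht) (hBA hb)
            have h' : b = t⁻¹ * (t * b * t⁻¹) * t := by group
            rw [h', h, inv_mul_cancel_right]
            exact hb⟩))] at hv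
    obtain ⟨_, ⟨i, rfl⟩, b, hb, e⟩ := hv
    exact ⟨i, b, hb, e.symm⟩
  obtain ⟨k, c, hc, hk⟩ := hdec _ ((mem_normalizer_iff.1 hxA t).1 ht)
  refine ⟨k, fun v hv => ?_⟩
  obtain ⟨i, b, hb, rfl⟩ := hdec v hv
  have hcomm : ∀ a ∈ A, ∀ a' ∈ A, Commute a a' := fun a ha a' ha' => setLike_mul_comm ha ha'
  have e1 : x * (t ^ i * b) * x⁻¹ = t ^ (k * i) * (c ^ i * (x * b * x⁻¹)) := by
    rw [show x * (t ^ i * b) * x⁻¹ = (x * t * x⁻¹) ^ i * (x * b * x⁻¹) by rw [conj_zpow]; group, hk,
      (hcomm _ (zpow_mem ht k) _ (hBA hc)).mul_zpow, ← zpow_mul, mul_assoc]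
  have e2 : (t ^ i * b) ^ k = t ^ (k * i) * b ^ k := by
    rw [(hcomm _ (zpow_mem ht i) _ (hBA hb)).mul_zpow, ← zpow_mul, mul_comm i k]
  rw [e1, e2]
  have h4 : c ^ i * (x * b * x⁻¹) * (b ^ k)⁻¹ ∈ B :=
    mul_mem (mul_mem (zpow_mem hc i) ((mem_normalizer_iff.1 hxB b).1 hb)) (inv_mem (zpow_mem hb k))
  have e3 : t ^ (k * i) * (c ^ i * (x * b * x⁻¹)) * (t ^ (k * i) * b ^ k)⁻¹ =
      t ^ (k * i) * (c ^ i * (x * b * x⁻¹) * (b ^ k)⁻¹) * (t ^ (k * i))⁻¹ := by group
  rw [e3, (hcomm _ (zpow_mem ht _) _ (hBA h4)).eq, mul_inv_cancel_right]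
  exact h4

/-- A quaternion group of order 8 fixes no proper non-trivial subgroup of `R`. -/
theorem no_invariant [Group.IsSolvable G] (hB : Conj G) {r : ℕ} [Fact r.Prime] (R : Sylow r G)
    [(R : Subgroup G).Normal] (hR : Cfsg.IsElementaryAbelian r (R : Subgroup G))
    (hO : Cfsg.pPrimeCore r G = ⊥) (hr : r ≠ 2) (S : Subgroup G) (hS : Nat.card S = 8)
    (hna : ¬ IsMulCommutative S) (U : Subgroup G) (hU : U ≤ R) (hSU : S ≤ normalizer (U : Set G))
    (hU1 : U ≠ ⊥) : U = R := by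
  haveI : Fact (Nat.Prime 2) := ⟨Nat.prime_two⟩
  have hSp : IsPGroup 2 S := IsPGroup.of_card (n := 3) (by rw [hS]; rfl)
  by_contra hUR
  obtain ⟨n, hn⟩ := IsPGroup.iff_card.1 R.2
  rcases Nat.lt_or_ge n 3 with hn3 | hn3
  swap
  · rcases exists_semiaffine hB R hR hO hn hn3 with ⟨h3, f, hf⟩ | ⟨h5, h2, -⟩
    · obtain ⟨hcy, hidx, -⟩ := sa_cyclic_kernel hSp (f.comp S.subtype) (hf.comp S.subtype_injective)
        (natCast_ne_zero (n := 3) (Ne.symm hr))
      rw [Cfsg.Agent.S4025.card_ringAut r 3 (by norm_num)] at hidx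
      set N := (saPhi.comp (f.comp S.subtype)).ker with hN
      have hNtop : N = ⊤ := index_eq_one.1 (Nat.eq_one_of_dvd_coprimes
        (by norm_num : Nat.Coprime 8 3) (hS ▸ N.index_dvd_card) hidx)
      haveI : IsCyclic ↥S := (MulEquiv.isCyclic ((MulEquiv.subgroupCongr hNtop).trans topEquiv)).1 hcy
      exact hna inferInstance
    · exact hr h2
  obtain ⟨j, hj, hje⟩ := (Nat.dvd_prime_pow (Fact.out : r.Prime)).1 (hn ▸ card_dvd_of_le hU)
  have hj0 : j ≠ 0 := fun h => hU1 (card_eq_one.1 (by rw [hje, h, pow_zero]))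
  have hjn : j ≠ n := fun h => hUR (eq_of_le_of_card_ge hU (by rw [hje, h, hn]))
  obtain ⟨rfl, rfl⟩ : j = 1 ∧ n = 2 := by omega
  haveI := hR.1
  refine hna ⟨⟨fun a b => ?_⟩⟩
  obtain ⟨x, hx⟩ := a
  obtain ⟨y, hy⟩ := b
  set c := ⁅x, y⁆ with hc
  have hcS : c ∈ S := by
    rw [hc, commutatorElement_def]
    exact S.mul_mem (S.mul_mem (S.mul_mem hx hy) (S.inv_mem hx)) (S.inv_mem hy)
  have hact : ∀ (A B : Subgroup G), B ≤ A → IsMulCommutative ↥A → Nat.card A = Nat.card B * r →
      S ≤ normalizer (A : Set G) → S ≤ normalizer (B : Set G) → ∀ v ∈ A, c * v * c⁻¹ * v⁻¹ ∈ B := by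
    intro A B hBA hA hAB hSA hSB v hv
    obtain ⟨k, hk⟩ := exists_power_map hA hBA hAB (hSA hx) (hSB hx)
    obtain ⟨l, hl⟩ := exists_power_map hA hBA hAB (hSA hy) (hSB hy)
    have hAm : ∀ s ∈ S, ∀ a ∈ A, s * a * s⁻¹ ∈ A := fun s hs a ha => (mem_normalizer_iff.1 (hSA hs) a).1 ha
    have hBm : ∀ s ∈ S, ∀ a ∈ B, s * a * s⁻¹ ∈ B := fun s hs a ha => (mem_normalizer_iff.1 (hSB hs) a).1 ha
    -- `x y` and `y x` induce the same power map
    have hcomp : ∀ (s u : G) (i j : ℤ), s ∈ S → u ∈ S → (∀ a ∈ A, s * a * s⁻¹ * (a ^ i)⁻¹ ∈ B) →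
        (∀ a ∈ A, u * a * u⁻¹ * (a ^ j)⁻¹ ∈ B) → ∀ a ∈ A, s * u * a * (s * u)⁻¹ * (a ^ (j * i))⁻¹ ∈ B := by
      intro s u i j hs hu h1 h2 a ha
      have e : s * u * a * (s * u)⁻¹ * (a ^ (j * i))⁻¹ =
          s * (u * a * u⁻¹ * (a ^ j)⁻¹) * s⁻¹ * (s * a ^ j * s⁻¹ * ((a ^ j) ^ i)⁻¹) := by
        rw [← zpow_mul]; group
      rw [e]
      exact mul_mem (hBm s hs _ (h2 a ha)) (h1 _ (zpow_mem ha j))
    set w := (y * x)⁻¹ * v * (y * x) with hw
    have hwA : w ∈ A := by
      have := hAm (y * x)⁻¹ (S.inv_mem (S.mul_mem hy hx)) v hv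
      rwa [inv_inv] at this
    have h1 := hcomp x y k l hx hy hk hl w hwA
    have h2 := hcomp y x l k hy hx hl hk w hwA
    rw [mul_comm k l] at h2
    have e1 : x * y * w * (x * y)⁻¹ = c * v * c⁻¹ := by
      rw [hw, hc, commutatorElement_def]; group
    have e2 : y * x * w * (y * x)⁻¹ = v := by rw [hw]; group
    rw [e1] at h1
    rw [e2] at h2
    have := mul_mem h1 (inv_mem h2)
    rwa [show c * v * c⁻¹ * (w ^ (l * k))⁻¹ * (v * (w ^ (l * k))⁻¹)⁻¹ = c * v * c⁻¹ * v⁻¹ by group] at this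
  have hUcard : Nat.card ↥U = r := by rw [hje, pow_one]
  have hcU := hact U ⊥ bot_le (comm_of_le hU hR.1)
    (by rw [card_bot, one_mul, hUcard]) hSU (le_normalizer_of_normal)
  have hcR := hact R U hU hR.1 (by rw [hUcard, hn]; ring) le_normalizer_of_normal hSU
  have hccent : c ∈ (R : Subgroup G) := by
    refine centralizer_sylow_le R hO (mem_centralizer_iff.2 fun v hv => ?_)
    set d := c * v * c⁻¹ * v⁻¹ with hd
    have hdU : d ∈ U := hcR v hv
    have hcd : c * d * c⁻¹ = d := by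
      have := mem_bot.1 (hcU d hdU)
      rwa [mul_inv_eq_one] at this
    have hiter : ∀ j : ℕ, c ^ j * v * (c ^ j)⁻¹ = d ^ j * v := by
      intro j
      induction j with
      | zero => simp
      | succ j ih =>
        rw [pow_succ' c, show c * c ^ j * v * (c * c ^ j)⁻¹ = c * (c ^ j * v * (c ^ j)⁻¹) * c⁻¹ by group,
          ih, show c * (d ^ j * v) * c⁻¹ = (c * d * c⁻¹) ^ j * (c * v * c⁻¹) by rw [conj_pow]; group, hcd,
          pow_succ d, mul_assoc, hd]; group
    obtain ⟨i, hi⟩ := hSp ⟨c, hcS⟩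
    have hi' : c ^ 2 ^ i = 1 := congrArg Subtype.val hi
    have h1 := hiter (2 ^ i)
    rw [hi', one_mul, inv_one, mul_one] at h1
    have hd1 : d ^ 2 ^ i = 1 := mul_right_cancel (h1.symm.trans (one_mul v).symm)
    have hd2 : orderOf d ∣ r := orderOf_dvd_of_pow_eq_one (hR.2 d (hU hdU))
    have : d = 1 := orderOf_eq_one_iff.1 (Nat.eq_one_of_dvd_coprimes
      (((Nat.coprime_primes Nat.prime_two Fact.out).2 (Ne.symm hr)).pow_left i)
      (orderOf_dvd_of_pow_eq_one hd1) hd2)
    rw [hd, mul_inv_eq_one, mul_inv_eq_iff_eq_mul] at this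
    exact this.symm
  have := disjoint_def.1 (IsPGroup.disjoint_of_ne _ _ (Ne.symm hr) S (R : Subgroup G) hSp R.2) hcS hccent
  exact Subtype.ext (commutatorElement_eq_one_iff_mul_comm.1 this)

end Cfsg.Lib.Struct.AbelianConjSolv
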