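import Cfsg.Agent.Lib.Struct.ValueSimple
import Cfsg.Agent.Lib.Solv.Frattini
import Cfsg.Agent.Lib.Invol.Quaternion

/-!
# Quotients of groups whose abelian subgroups of equal order are conjugate

A minimal supplement of a normal subgroup in the preimage of an abelian subgroup is nilpotent, and its
order is determined by the order of the abelian subgroup, as soon as the Sylow subgroups for the primes
dividing both `#M` and `#(G/M)` are cyclic or quaternion of order 8.
-/

set_option autoImplicit false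
set_option linter.style.haveILetI false

open Subgroup
open scoped commutatorElement Pointwise

namespace Cfsg.Lib.Struct.AbelianConj

universe u

variable {G : Type u} [Group G]

/-- Any two abelian subgroups of the same order are conjugate. -/
def Conj (G : Type u) [Group G] : Prop :=
  ∀ A B : Subgroup G, IsMulCommutative ↥A → IsMulCommutative ↥B → Nat.card ↥A = Nat.card ↥B →
    ∃ g : G, B = A.map (MulAut.conj g).toMonoidHom

theorem mem_of_orderOf (hB : Conj G) (M : Subgroup G) [M.Normal] {a m : G} (hm : m ∈ M)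
    (h : orderOf m = orderOf a) : a ∈ M := by
  obtain ⟨g, hg⟩ := hB (zpowers m) (zpowers a) inferInstance inferInstance
    (by rw [Nat.card_zpowers, Nat.card_zpowers, h])
  obtain ⟨z, hz, rfl⟩ := hg.le (mem_zpowers a)
  exact (inferInstance : M.Normal).conj_mem z (zpowers_le.2 hm hz) g

/-- The shape of a Sylow subgroup for a prime dividing both `#M` and `#(G/M)`. -/
def Nice (p : ℕ) (P : Subgroup G) : Prop :=
  IsCyclic ↥P ∨
    (p = 2 ∧ Nat.card ↥P = 8 ∧ (∀ x ∈ P, x ^ (2 ^ 2) = 1) ∧ ∀ x ∈ P, ∀ y ∈ P, orderOf x = 2 → orderOf y = 2 → x = y)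

variable [Finite G]

theorem Nice.inter_le {p : ℕ} [hp : Fact p.Prime] {P : Sylow p G} (hN : Nice p (P : Subgroup G))
    (hB : Conj G) (M : Subgroup G) [M.Normal] {a : G} (ha : a ∈ (P : Subgroup G)) (haM : a ∉ M)
    {m : G} (hmP : m ∈ (P : Subgroup G)) (hm : m ∈ M) : m ∈ zpowers a := by
  obtain ⟨i, hi⟩ := IsPGroup.iff_orderOf.1 P.2 ⟨a, ha⟩
  obtain ⟨j, hj⟩ := IsPGroup.iff_orderOf.1 P.2 ⟨m, hmP⟩
  rw [Subgroup.orderOf_mk] at hi hj
  have hji : j < i := by
    by_contra h
    push Not at h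
    refine haM (mem_of_orderOf hB M (pow_mem hm (p ^ (j - i))) ?_)
    rw [orderOf_pow' _ (pow_ne_zero _ hp.out.ne_zero), hj,
      Nat.gcd_eq_right (pow_dvd_pow p (Nat.sub_le j i)), Nat.pow_div (Nat.sub_le j i) hp.out.pos, hi]
    congr 1
    omega
  have ho : orderOf (a ^ p ^ (i - j)) = orderOf m := by
    rw [orderOf_pow' _ (pow_ne_zero _ hp.out.ne_zero), hi,
      Nat.gcd_eq_right (pow_dvd_pow p (Nat.sub_le i j)), Nat.pow_div (Nat.sub_le i j) hp.out.pos, hj]
    congr 1
    omega
  rcases hN with hc | ⟨rfl, -, hexp, huniq⟩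
  · haveI := hc
    have := Cfsg.Lib.Invol.zpowers_eq_of_cyclic (T := ↥(P : Subgroup G))
      (x := ⟨m, hmP⟩) (y := ⟨a ^ p ^ (i - j), pow_mem ha _⟩)
      (by rw [Subgroup.orderOf_mk, Subgroup.orderOf_mk, ho])
    obtain ⟨e, he⟩ := mem_zpowers_iff.1 (this.le (mem_zpowers _))
    have he' : (a ^ p ^ (i - j)) ^ e = m := congrArg Subtype.val he
    rw [← he']
    exact zpow_mem (pow_mem (mem_zpowers a) _) e
  · by_cases hm1 : m = 1
    · rw [hm1]; exact one_mem _
    have hj0 : j ≠ 0 := fun h0 => hm1 (by rw [h0, pow_zero, orderOf_eq_one_iff] at hj; exact hj)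
    have hi2 : i ≤ 2 := by
      refine (Nat.pow_dvd_pow_iff_le_right (by norm_num : 1 < 2)).1 ?_
      rw [← hi]
      exact orderOf_dvd_of_pow_eq_one (hexp a ha)
    have hj1 : j = 1 := by omega
    rw [hj1, pow_one] at hj
    rw [huniq _ hmP _ (pow_mem ha _) hj (ho.trans hj)]
    exact pow_mem (mem_zpowers a) _

/-- A smallest subgroup mapping onto a given subgroup of a homomorphic image. -/
theorem exists_supplement {H : Type*} [Group H] (π : G →* H) (hπ : Function.Surjective π)
    (A : Subgroup H) (hA : Group.IsNilpotent ↥A) :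
    ∃ A0 : Subgroup G, A0.map π = A ∧ Group.IsNilpotent ↥A0 ∧
      ∀ B ≤ A0, B.map π = A → B = A0 := by
  obtain ⟨A0, hA0, hmin⟩ := Set.exists_min_image {B : Subgroup G | B.map π = A}
    (fun B => Nat.card ↥B) (Set.toFinite _) ⟨A.comap π, map_comap_eq_self_of_surjective hπ A⟩
  simp only [Set.mem_setOf_eq] at hA0 hmin
  have hmin' : ∀ B ≤ A0, B.map π = A → B = A0 := fun B hB hBA =>
    eq_of_le_of_card_ge hB (hmin B hBA)
  refine ⟨A0, hA0, ?_, hmin'⟩
  haveI : Finite H := Finite.of_surjective π hπ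
  let f : ↥A0 →* ↥A := (π.comp A0.subtype).codRestrict A fun x => hA0 ▸ ⟨x, x.2, rfl⟩
  have hf : Function.Surjective f := by
    rintro ⟨y, hy⟩
    rw [← hA0] at hy
    obtain ⟨x, hx, rfl⟩ := hy
    exact ⟨⟨x, hx⟩, rfl⟩
  have hker : f.ker ≤ frattini ↥A0 := by
    refine le_iInf₂ fun L (hL : IsCoatom L) => ?_
    by_contra hle
    have htop : L ⊔ f.ker = ⊤ := hL.2 _ (lt_of_le_of_ne le_sup_left fun e => hle (e ▸ le_sup_right))
    refine hL.1 (map_injective A0.subtype_injective ?_)
    rw [← MonoidHom.range_eq_map, range_subtype]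
    refine hmin' _ (map_subtype_le L) ?_
    refine le_antisymm ((map_mono (map_subtype_le L)).trans hA0.le) ?_
    rintro y hy
    obtain ⟨x, hx⟩ := hf ⟨y, hy⟩
    obtain ⟨l, hl, z, hz, rfl⟩ := mem_sup_of_normal_right.1 (htop ▸ mem_top x : x ∈ L ⊔ f.ker)
    refine ⟨(l : G), ⟨l, hl, rfl⟩, ?_⟩
    rw [map_mul, MonoidHom.mem_ker.1 hz, mul_one] at hx
    exact congrArg Subtype.val hx
  refine Group.isNilpotent_top.1 (Solv.isNilpotent_of_map_of_le_frattini f hf hker ⊤ ?_)
  rw [map_top_of_surjective f hf]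
  exact Group.isNilpotent_top.2 hA

/-- A minimal supplement has no primes outside those of its image. -/
theorem dvd_of_dvd_supplement {H : Type*} [Group H] {π : G →* H} {A : Subgroup H} {A0 : Subgroup G}
    (hA0 : A0.map π = A) (hn : Group.IsNilpotent ↥A0) (hmin : ∀ B ≤ A0, B.map π = A → B = A0)
    {p : ℕ} [hp : Fact p.Prime] (hd : p ∣ Nat.card ↥A0) : p ∣ Nat.card ↥A := by
  by_contra hdA
  obtain ⟨P, C, hCn, hc⟩ := hasNormalPComplement_of_nilpotent hn (p := p)
  refine P.ne_bot_of_dvd_card hd ?_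
  have hCtop : C.map A0.subtype = A0 := by
    refine hmin _ (map_subtype_le C) (le_antisymm ((map_mono (map_subtype_le C)).trans hA0.le) ?_)
    rw [← hA0]
    rintro _ ⟨x, hx, rfl⟩
    obtain ⟨c, hcC, t, ht, hct⟩ := mem_sup_of_normal_left.1
      (hc.sup_eq_top ▸ mem_top (⟨x, hx⟩ : ↥A0) : (⟨x, hx⟩ : ↥A0) ∈ C ⊔ (P : Subgroup ↥A0))
    have hx' : x = (c : G) * (t : G) := (congrArg Subtype.val hct).symm
    refine ⟨(c : G), ⟨c, hcC, rfl⟩, ?_⟩
    have htA : π (t : G) ∈ A := hA0 ▸ ⟨_, t.2, rfl⟩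
    have ht1 : π (t : G) = 1 := by
      obtain ⟨i, hi⟩ := IsPGroup.iff_orderOf.1 P.2 ⟨t, ht⟩
      rw [Subgroup.orderOf_mk, ← Subgroup.orderOf_coe] at hi
      obtain ⟨j, _, hj⟩ := (Nat.dvd_prime_pow hp.out).1 (hi ▸ orderOf_map_dvd π (t : G))
      rcases Nat.eq_zero_or_pos j with h0 | h0
      · rwa [h0, pow_zero, orderOf_eq_one_iff] at hj
      · refine absurd ((dvd_pow_self p h0.ne').trans (hj ▸ ?_)) hdA
        rw [← Subgroup.orderOf_mk (π (t : G)) htA]
        exact orderOf_dvd_natCard _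
    rw [hx', map_mul, ht1, mul_one]
  have hC : C = ⊤ := map_injective A0.subtype_injective
    (hCtop.trans (by rw [← MonoidHom.range_eq_map, range_subtype]))
  exact isComplement'_top_left.1 (hC ▸ hc)

/-- The intersection with the kernel is determined by the image. -/
theorem factorization_inf {M : Subgroup G} [M.Normal] (hB : Conj G)
    (hnice : ∀ (p : ℕ) [Fact p.Prime], p ∣ Nat.card ↥M → p ∣ M.index →
      ∀ P : Sylow p G, Nice p (P : Subgroup G))
    {A : Subgroup (G ⧸ M)} {A0 : Subgroup G} (hA0 : A0.map (QuotientGroup.mk' M) = A)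
    (hn : Group.IsNilpotent ↥A0) (hmin : ∀ B ≤ A0, B.map (QuotientGroup.mk' M) = A → B = A0)
    (p : ℕ) [hp : Fact p.Prime] :
    (Nat.card ↥(A0 ⊓ M)).factorization p =
      if p ∣ Nat.card ↥A then (Nat.card ↥M).factorization p else 0 := by
  have hdvd : Nat.card ↥(A0 ⊓ M) ∣ Nat.card ↥M := card_dvd_of_le inf_le_right
  split_ifs with hd
  · refine le_antisymm (Nat.factorization_le_iff_dvd Nat.card_pos.ne' Nat.card_pos.ne' |>.2 hdvd p) ?_
    by_cases hpM : p ∣ Nat.card ↥M
    swap
    · rw [Nat.factorization_eq_zero_of_not_dvd hpM]; exact Nat.zero_le _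
    have hpi : p ∣ M.index := hd.trans ((card_subgroup_dvd_card A).trans (by rw [index_eq_card]))
    obtain ⟨T⟩ : Nonempty (Sylow p ↥A0) := inferInstance
    obtain ⟨P, hP⟩ := (T.2.map A0.subtype).exists_le_sylow
    obtain ⟨a, ha, haM⟩ : ∃ a ∈ (T : Subgroup ↥A0).map A0.subtype, a ∉ M := by
      by_contra hcon
      push Not at hcon
      let f : ↥A0 →* ↥A := ((QuotientGroup.mk' M).comp A0.subtype).codRestrict A
        fun x => hA0 ▸ ⟨x, x.2, rfl⟩
      have hf : Function.Surjective f := by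
        rintro ⟨y, hy⟩
        rw [← hA0] at hy
        obtain ⟨x, hx, rfl⟩ := hy
        exact ⟨⟨x, hx⟩, rfl⟩
      refine (T.mapSurjective hf).ne_bot_of_dvd_card hd ?_
      rw [Sylow.coe_mapSurjective, Subgroup.map_eq_bot_iff]
      exact fun t ht => MonoidHom.mem_ker.2 (Subtype.ext
        ((QuotientGroup.eq_one_iff (t : G)).2 (hcon _ ⟨t, ht, rfl⟩)))
    have hle : (P : Subgroup G) ⊓ M ≤ A0 ⊓ M := fun m hm =>
      ⟨(zpowers_le.2 (map_subtype_le _ ha))
        ((hnice p hpM hpi P).inter_le hB M (hP ha) haM hm.1 hm.2), hm.2⟩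
    have hPM : p ^ (Nat.card ↥M).factorization p ∣ Nat.card ↥((P : Subgroup G) ⊓ M : Subgroup G) := by
      obtain ⟨Q⟩ : Nonempty (Sylow p ↥M) := inferInstance
      obtain ⟨P', hP'⟩ := (Q.2.map M.subtype).exists_le_sylow
      obtain ⟨g, hg⟩ := MulAction.exists_smul_eq G P' P
      rw [← Sylow.card_eq_multiplicity Q]
      refine (card_map_of_injective (K := (Q : Subgroup ↥M)) M.subtype_injective).symm.dvd.trans ?_
      refine (card_map_of_injective (K := (Q : Subgroup ↥M).map M.subtype)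
        (f := (MulAut.conj g).toMonoidHom) (MulAut.conj g).injective).symm.dvd.trans (card_dvd_of_le ?_)
      rintro _ ⟨y, hy, rfl⟩
      refine ⟨?_, (inferInstance : M.Normal).conj_mem y (map_subtype_le _ hy) g⟩
      rw [← hg, Sylow.coe_subgroup_smul]
      exact ⟨y, hP' hy, rfl⟩
    exact (hp.out.pow_dvd_iff_le_factorization Nat.card_pos.ne').1 (hPM.trans (card_dvd_of_le hle))
  · refine Nat.factorization_eq_zero_of_not_dvd fun h => hd ?_
    exact dvd_of_dvd_supplement hA0 hn hmin (h.trans (card_dvd_of_le inf_le_left))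

theorem card_eq_mul {M : Subgroup G} [M.Normal] {A : Subgroup (G ⧸ M)} {A0 : Subgroup G}
    (hA0 : A0.map (QuotientGroup.mk' M) = A) :
    Nat.card ↥A0 = Nat.card ↥A * Nat.card ↥(A0 ⊓ M) := by
  have h1 := Core.card_mul_relIndex (inf_le_left : A0 ⊓ M ≤ A0)
  have h2 : (A0 ⊓ M).relIndex A0 = Nat.card ↥A := by
    let f : ↥A0 →* G ⧸ M := (QuotientGroup.mk' M).comp A0.subtype
    have hr : f.range = A := by rw [MonoidHom.range_comp, range_subtype, hA0]
    have hk : f.ker = (A0 ⊓ M).subgroupOf A0 := by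
      ext x
      simp [f, MonoidHom.mem_ker, mem_subgroupOf]
    rw [relIndex, ← hk, index_ker, hr]
  rw [← h1, h2, mul_comm]

/-- Sylow subgroups of a supplement are abelian or quaternion of order 8. -/
theorem commute_of_primary {M : Subgroup G} [M.Normal]
    (hnice : ∀ (p : ℕ) [Fact p.Prime], p ∣ Nat.card ↥M → p ∣ M.index →
      ∀ P : Sylow p G, Nice p (P : Subgroup G))
    {A : Subgroup (G ⧸ M)} (hA : IsMulCommutative ↥A) {A0 : Subgroup G}
    (hA0 : A0.map (QuotientGroup.mk' M) = A)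
    (hn : Group.IsNilpotent ↥A0) (hmin : ∀ B ≤ A0, B.map (QuotientGroup.mk' M) = A → B = A0)
    {p : ℕ} [hp : Fact p.Prime] (h8 : ¬ (p = 2 ∧ 8 ∣ Nat.card ↥A0 ∧ 2 ∣ Nat.card ↥M ∧
      ∃ P : Sylow 2 G, ¬ IsCyclic ↥(P : Subgroup G)))
    {a b : ↥A0} {i j : ℕ} (ha : orderOf a = p ^ i) (hb : orderOf b = p ^ j) : Commute a b := by
  by_cases ha1 : a = 1
  · rw [ha1]; exact Commute.one_left b
  have hnorm := (Group.isNilpotent_of_finite_tfae.out 0 3 rfl rfl).mp hn
  obtain ⟨T⟩ : Nonempty (Sylow p ↥A0) := inferInstance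
  haveI := hnorm p hp T
  have hmem : ∀ (c : ↥A0) (l : ℕ), orderOf c = p ^ l → c ∈ (T : Subgroup ↥A0) := fun c l hc => by
    obtain ⟨Q, hQ⟩ := (zpowers_isPGroup ⟨l, hc⟩).exists_le_sylow
    obtain ⟨g, hg⟩ := MulAction.exists_smul_eq (↥A0) T Q
    rw [Sylow.smul_eq_of_normal] at hg
    exact hg ▸ hQ (mem_zpowers c)
  have haT := hmem a i ha
  have hbT := hmem b j hb
  obtain ⟨P, hP⟩ := (T.2.map A0.subtype).exists_le_sylow
  have hpA0 : p ∣ Nat.card ↥A0 := by
    refine (?_ : p ∣ orderOf a).trans (orderOf_dvd_natCard a)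
    rw [ha]
    exact dvd_pow_self p fun h0 => ha1 (by rw [h0, pow_zero, orderOf_eq_one_iff] at ha; exact ha)
  have hpA := dvd_of_dvd_supplement hA0 hn hmin hpA0
  have hpi : p ∣ M.index := hpA.trans ((card_subgroup_dvd_card A).trans (by rw [index_eq_card]))
  by_cases hpM : p ∣ Nat.card ↥M
  · have hcyc : IsCyclic ↥(T : Subgroup ↥A0) := by
      set T' := (T : Subgroup ↥A0).map A0.subtype with hT'
      suffices IsCyclic ↥T' from (MulEquiv.isCyclic
        ((T : Subgroup ↥A0).equivMapOfInjective A0.subtype A0.subtype_injective)).2 this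
      rcases hnice p hpM hpi P with h | ⟨rfl, h8', hexp, huniq⟩
      · haveI := h
        exact isCyclic_of_injective (Subgroup.inclusion hP) (Subgroup.inclusion_injective hP)
      · rcases eq_or_ne T' (P : Subgroup G) with e | e
        · by_cases hPc : IsCyclic ↥(P : Subgroup G)
          · rw [e]; exact hPc
          · exact absurd ⟨rfl, h8' ▸ e ▸ card_dvd_of_le (map_subtype_le _), hpM, P, hPc⟩ h8
        · by_contra hnc
          obtain ⟨l, hl⟩ := IsPGroup.iff_card.1 (T.2.map A0.subtype)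
          have hlt : Nat.card ↥T' < 8 := h8' ▸ Fusion.card_lt_card_of_lt (lt_of_le_of_ne hP e)
          have hl2 : l ≤ 2 := by
            by_contra hl2
            push Not at hl2
            have : 2 ^ 3 ≤ 2 ^ l := Nat.pow_le_pow_right (by norm_num) hl2
            rw [hl] at hlt
            omega
          have hsq : ∀ x : ↥T', x ^ 2 = 1 := fun x => by
            have hx4 : orderOf x ∣ 2 ^ l := hl ▸ orderOf_dvd_natCard x
            obtain ⟨e', he', hxe⟩ := (Nat.dvd_prime_pow Nat.prime_two).1 hx4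
            refine orderOf_dvd_iff_pow_eq_one.1 ?_
            rw [hxe]
            have : e' ≠ 2 := fun e2 => hnc (isCyclic_of_orderOf_eq_card x (by
              rw [hxe, hl, e2, show l = 2 by omega]))
            exact (pow_dvd_pow 2 (show e' ≤ 1 by omega)).trans (by norm_num)
          refine hnc ?_
          by_cases hex : ∃ x : ↥T', x ≠ 1
          · obtain ⟨x, hx⟩ := hex
            refine ⟨x, fun y => ?_⟩
            by_cases hy : y = 1
            · exact ⟨0, by simp [hy]⟩
            have : y = x := Subtype.ext (huniq _ (hP y.2) _ (hP x.2)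
              ((Subgroup.orderOf_coe y).trans (orderOf_eq_prime (hsq y) hy))
              ((Subgroup.orderOf_coe x).trans (orderOf_eq_prime (hsq x) hx)))
            rw [this]; exact mem_zpowers x
          · push Not at hex
            exact ⟨1, fun y => ⟨0, by simp [hex y]⟩⟩
    haveI := hcyc
    exact (congrArg Subtype.val ((IsCyclic.isMulCommutative (α := ↥(T : Subgroup ↥A0))).is_comm.comm (⟨a, haT⟩ : ↥(T : Subgroup ↥A0)) ⟨b, hbT⟩) :)
  · refine commutatorElement_eq_one_iff_commute.1 (Subtype.ext ?_)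
    have h1 : ((⁅a, b⁆ : ↥A0) : G) ∈ M := by
      rw [← QuotientGroup.eq_one_iff]
      show QuotientGroup.mk' M (A0.subtype ⁅a, b⁆) = 1
      rw [map_commutatorElement, map_commutatorElement, commutatorElement_eq_one_iff_commute]
      exact congrArg Subtype.val (hA.is_comm.comm
        (⟨_, hA0 ▸ ⟨_, a.2, rfl⟩⟩ : ↥A) ⟨_, hA0 ▸ ⟨_, b.2, rfl⟩⟩)
    obtain ⟨l, hl⟩ := IsPGroup.iff_orderOf.1 T.2
      ⟨⁅a, b⁆, mul_mem (mul_mem (mul_mem haT hbT) (inv_mem haT)) (inv_mem hbT)⟩
    rw [Subgroup.orderOf_mk, ← Subgroup.orderOf_coe] at hl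
    have h2 : orderOf ((⁅a, b⁆ : ↥A0) : G) ∣ Nat.card ↥M := by
      rw [← Subgroup.orderOf_mk _ h1]; exact orderOf_dvd_natCard _
    refine orderOf_eq_one_iff.1 (Nat.eq_one_of_dvd_coprimes ?_ (hl.dvd) h2)
    exact Nat.Coprime.pow_left l ((Nat.Prime.coprime_iff_not_dvd hp.out).2 hpM)

/-- The quotient inherits the property. -/
theorem conj_quotient {M : Subgroup G} [M.Normal] (hB : Conj G)
    (hnice : ∀ (p : ℕ) [Fact p.Prime], p ∣ Nat.card ↥M → p ∣ M.index →
      ∀ P : Sylow p G, Nice p (P : Subgroup G)) :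
    Conj (G ⧸ M) := by
  intro A B hA hB' hAB
  set π := QuotientGroup.mk' M with hπ
  have hπs : Function.Surjective π := QuotientGroup.mk'_surjective M
  haveI : Group.IsNilpotent ↥A := Core.isNilpotent_of_isMulCommutative _
  haveI : Group.IsNilpotent ↥B := Core.isNilpotent_of_isMulCommutative _
  obtain ⟨A0, hA0, hAn, hAmin⟩ := exists_supplement π hπs A inferInstance
  obtain ⟨B0, hB0, hBn, hBmin⟩ := exists_supplement π hπs B inferInstance
  have hcard : Nat.card ↥A0 = Nat.card ↥B0 := by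
    rw [card_eq_mul hA0, card_eq_mul hB0, hAB]
    congr 1
    refine Nat.factorization_inj Nat.card_pos.ne' Nat.card_pos.ne' (Finsupp.ext fun p => ?_)
    by_cases hp : p.Prime
    · haveI : Fact p.Prime := ⟨hp⟩
      rw [factorization_inf hB hnice hA0 hAn hAmin, factorization_inf hB hnice hB0 hBn hBmin, hAB]
    · rw [Nat.factorization_eq_zero_of_not_prime _ hp, Nat.factorization_eq_zero_of_not_prime _ hp]
  have hfinish : ∀ g : G, B0 = A0.map (MulAut.conj g).toMonoidHom →
      ∃ g : G ⧸ M, B = A.map (MulAut.conj g).toMonoidHom := by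
    intro g hg
    refine ⟨π g, ?_⟩
    rw [← hA0, ← hB0, hg, Subgroup.map_map, Subgroup.map_map]
    congr 1
  by_cases h8 : 8 ∣ Nat.card ↥A0 ∧ 2 ∣ Nat.card ↥M ∧ ∃ P : Sylow 2 G, ¬ IsCyclic ↥(P : Subgroup G)
  swap
  · have hab : ∀ (C : Subgroup (G ⧸ M)) (C0 : Subgroup G), IsMulCommutative ↥C → C0.map π = C →
        Group.IsNilpotent ↥C0 → (∀ D ≤ C0, D.map π = C → D = C0) →
        Nat.card ↥C0 = Nat.card ↥A0 → IsMulCommutative ↥C0 := by
      intro C C0 hC hC0 hn hmin hc
      refine ⟨⟨fun a b => ?_⟩⟩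
      refine mem_centralizer_singleton_iff.1 (Cfsg.Lib.Struct.MaxCent.mem_of_primary_parts
        (H := centralizer ({b} : Set ↥C0)) fun s z hs hz hzk => ?_)
      obtain ⟨i, hi⟩ := hzk
      rw [mem_centralizer_singleton_iff]
      refine (mem_centralizer_singleton_iff.1 (Cfsg.Lib.Struct.MaxCent.mem_of_primary_parts
        (H := centralizer ({z} : Set ↥C0)) fun t w ht hw hwk => ?_)).symm
      obtain ⟨j, hj⟩ := hwk
      rw [mem_centralizer_singleton_iff]
      by_cases hts : t = s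
      · subst hts
        exact commute_of_primary hnice hC hC0 hn hmin
          (fun h => h8 ⟨hc ▸ h.2.1, h.2.2⟩) hj hi
      · exact Cfsg.Lib.Struct.MaxCent.commute_of_nilpotent hn hts hj hi
    obtain ⟨g, hg⟩ := hB A0 B0 (hab A A0 hA hA0 hAn hAmin rfl) (hab B B0 hB' hB0 hBn hBmin hcard.symm) hcard
    exact hfinish g hg
  -- quaternion Sylow subgroups of order eight
  obtain ⟨h8, h2M, P0, hP0⟩ := h8
  haveI : Fact (Nat.Prime 2) := ⟨Nat.prime_two⟩
  have h2A : 2 ∣ Nat.card ↥A := dvd_of_dvd_supplement hA0 hAn hAmin (Dvd.dvd.trans (by norm_num) h8)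
  have h2i : 2 ∣ M.index := h2A.trans ((card_subgroup_dvd_card A).trans (by rw [index_eq_card]))
  obtain ⟨-, hP8, -, -⟩ := (hnice 2 h2M h2i P0).resolve_left hP0
  have hsplit : ∀ (C : Subgroup (G ⧸ M)) (C0 : Subgroup G), IsMulCommutative ↥C → C0.map π = C →
      Group.IsNilpotent ↥C0 → (∀ D ≤ C0, D.map π = C → D = C0) → Nat.card ↥C0 = Nat.card ↥A0 →
      ∃ (T : Sylow 2 G) (O : Subgroup G), IsMulCommutative ↥O ∧ (Nat.card ↥O).Coprime 2 ∧
        (T : Subgroup G) ≤ C0 ∧ O ≤ C0 ∧ (T : Subgroup G) ⊔ O = C0 ∧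
        (∀ t ∈ (T : Subgroup G), ∀ o ∈ O, Commute t o) ∧ Nat.card ↥O * 8 = Nat.card ↥A0 := by
    intro C C0 hC hC0 hn hmin hc
    obtain ⟨T, O, hOn, hcompl⟩ := hasNormalPComplement_of_nilpotent hn (p := 2)
    have hTc : Nat.card ↥((T : Subgroup ↥C0).map C0.subtype) = 8 := by
      rw [card_map_of_injective C0.subtype_injective]
      obtain ⟨P, hP⟩ := (T.2.map C0.subtype).exists_le_sylow
      refine Nat.dvd_antisymm ?_ ?_
      · rw [← card_map_of_injective (K := (T : Subgroup ↥C0)) C0.subtype_injective, ← hP8,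
          Sylow.card_eq_multiplicity P0, ← Sylow.card_eq_multiplicity P]
        exact card_dvd_of_le hP
      · rw [Sylow.card_eq_multiplicity T, show (8 : ℕ) = 2 ^ 3 from rfl]
        exact pow_dvd_pow 2 ((Nat.prime_two.pow_dvd_iff_le_factorization Nat.card_pos.ne').1
          (hc.symm ▸ h8))
    have hTi : ¬ 2 ∣ ((T : Subgroup ↥C0).map C0.subtype).index := by
      intro h
      have h1 := Subgroup.card_mul_index ((T : Subgroup ↥C0).map C0.subtype)
      have h2 := Subgroup.card_mul_index (P0 : Subgroup G)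
      rw [hTc] at h1
      rw [hP8] at h2
      exact P0.not_dvd_index (by rwa [show (P0 : Subgroup G).index =
        ((T : Subgroup ↥C0).map C0.subtype).index from by omega])
    refine ⟨(T.2.map C0.subtype).toSylow hTi, O.map C0.subtype, ?_, ?_, map_subtype_le _,
      map_subtype_le _, ?_, ?_, ?_⟩
    · refine ⟨⟨?_⟩⟩
      rintro ⟨_, a, ha, rfl⟩ ⟨_, b, hb, rfl⟩
      apply Subtype.ext
      show ((a * b : ↥C0) : G) = ((b * a : ↥C0) : G)
      have hOodd : (Nat.card ↥O).Coprime 2 := Fusion.coprime_card_of_complement hcompl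
      refine congrArg Subtype.val (mem_centralizer_singleton_iff.1
        (Cfsg.Lib.Struct.MaxCent.mem_of_primary_parts (H := centralizer ({b} : Set ↥C0))
          fun s z hs hz hzk => ?_))
      obtain ⟨i, hi⟩ := hzk
      rw [mem_centralizer_singleton_iff]
      refine (mem_centralizer_singleton_iff.1 (Cfsg.Lib.Struct.MaxCent.mem_of_primary_parts
        (H := centralizer ({z} : Set ↥C0)) fun t w ht hw hwk => ?_)).symm
      obtain ⟨j, hj⟩ := hwk
      rw [mem_centralizer_singleton_iff]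
      by_cases hw1 : w = 1
      · simp [hw1]
      by_cases hts : t = s
      · subst hts
        refine commute_of_primary hnice hC hC0 hn hmin (fun h => ?_) hj hi
        have hwO : w ∈ O := zpowers_le.2 hb hw
        have hd : t ∣ Nat.card ↥O := by
          refine (?_ : t ∣ orderOf w).trans ((Subgroup.orderOf_mk w hwO).symm.dvd.trans (orderOf_dvd_natCard _))
          rw [hj]
          exact dvd_pow_self t fun h0 => hw1 (by rw [h0, pow_zero, orderOf_eq_one_iff] at hj; exact hj)
        exact ht.out.ne_one (Nat.eq_one_of_dvd_coprimes hOodd hd (h.1 ▸ dvd_rfl))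
      · exact Cfsg.Lib.Struct.MaxCent.commute_of_nilpotent hn hts hj hi
    · rw [card_map_of_injective C0.subtype_injective]
      exact Fusion.coprime_card_of_complement hcompl
    · show (T : Subgroup ↥C0).map C0.subtype ⊔ O.map C0.subtype = C0
      rw [← Subgroup.map_sup, sup_comm, hcompl.sup_eq_top, ← MonoidHom.range_eq_map, range_subtype]
    · rintro _ ⟨t, ht, rfl⟩ _ ⟨o, ho, rfl⟩
      haveI := (Group.isNilpotent_of_finite_tfae.out 0 3 rfl rfl).mp hn 2 inferInstance T
      exact (Subgroup.commute_of_normal_of_disjoint _ _ inferInstance hOn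
        hcompl.disjoint.symm t o ht ho).map C0.subtype
    · have := hcompl.card_mul
      rw [card_map_of_injective C0.subtype_injective, ← hc, ← this]
      rw [card_map_of_injective C0.subtype_injective] at hTc
      rw [hTc]
  obtain ⟨TA, OA, hOA, hOAodd, hTA, hOA0, hsupA, hcomA, hcA⟩ := hsplit A A0 hA hA0 hAn hAmin rfl
  obtain ⟨TB, OB, hOB, hOBodd, hTB, hOB0, hsupB, hcomB, hcB⟩ :=
    hsplit B B0 hB' hB0 hBn hBmin hcard.symm
  have hOcard : Nat.card ↥OA = Nat.card ↥OB := by omega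
  obtain ⟨g, hg⟩ := hB OA OB hOA hOB hOcard
  set T' := TA.mapSurjective (f := (MulAut.conj g).toMonoidHom) (MulAut.conj g).surjective with hT'
  have hcle : ∀ (T : Sylow 2 G), (∀ t ∈ (T : Subgroup G), ∀ o ∈ OB, Commute t o) →
      (T : Subgroup G) ≤ centralizer (OB : Set G) := fun T h t ht o ho => (h t ht o ho).eq.symm
  have hT'c : (T' : Subgroup G) ≤ centralizer (OB : Set G) := by
    refine hcle T' ?_
    rw [hg]
    rintro _ ⟨t, ht, rfl⟩ _ ⟨o, ho, rfl⟩
    exact (hcomA t ht o ho).map (MulAut.conj g).toMonoidHom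
  obtain ⟨c, hc⟩ := MulAction.exists_smul_eq ↥(centralizer (OB : Set G))
    (T'.subtype hT'c) (TB.subtype (hcle TB hcomB))
  refine hfinish ((c : G) * g) ?_
  have hcO : OB.map (MulAut.conj (c : G)).toMonoidHom = OB := by
    refine Core.map_conj_eq_of_mem_normalizer ?_
    exact Subgroup.centralizer_le_normalizer _ c.2
  have hcT : (T' : Subgroup G).map (MulAut.conj (c : G)).toMonoidHom = (TB : Subgroup G) := by
    have := congrArg (fun S : Sylow 2 ↥(centralizer (OB : Set G)) =>
      (S : Subgroup ↥(centralizer (OB : Set G))).map (centralizer (OB : Set G)).subtype) hc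
    simp only [Sylow.coe_subgroup_smul, Sylow.coe_subtype] at this
    rw [map_subgroupOf_eq_of_le (hcle TB hcomB)] at this
    rw [← this]
    conv_lhs => rw [← map_subgroupOf_eq_of_le hT'c]
    rw [Subgroup.map_map, show (MulAut.conj c) • (T' : Subgroup G).subgroupOf (centralizer (OB : Set G))
      = ((T' : Subgroup G).subgroupOf (centralizer (OB : Set G))).map (MulAut.conj c).toMonoidHom from rfl,
      Subgroup.map_map]
    rfl
  rw [Core.map_conj_mul, ← hsupA, Subgroup.map_sup, ← hg, Subgroup.map_sup, hcO,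
    ← Sylow.coe_mapSurjective (f := (MulAut.conj g).toMonoidHom) (MulAut.conj g).surjective TA, ← hT',
    hcT, hsupB]

end Cfsg.Lib.Struct.AbelianConj
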