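import Mathlib

/-!
No regular graph of degree at least three has the property that any two distinct vertices have
exactly one common neighbour.
-/

set_option autoImplicit false

namespace Cfsg.Lib.Struct.Friendship

open Matrix

theorem no_regular {V : Type*} [Finite V] [Nonempty V] (R : V → V → Prop)
    (hsymm : ∀ a b, R a b → R b a) (hirr : ∀ a, ¬ R a a)
    (hone : ∀ a b, a ≠ b → ∃! u, R a u ∧ R b u) {d : ℕ}
    (hdeg : ∀ a, {u | R a u}.ncard = d) (hd : 3 ≤ d) : False := by
  classical
  cases nonempty_fintype V
  set l := (d - 1).minFac with hl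
  have hlp : l.Prime := Nat.minFac_prime (by omega)
  have : Fact l.Prime := ⟨hlp⟩
  have hd1 : (d : ZMod l) = 1 := by
    obtain ⟨e, he⟩ := (d - 1).minFac_dvd
    rw [show d = (d - 1) + 1 by omega, he, Nat.cast_add, Nat.cast_mul, ← hl]
    simp
  let A : Matrix V V (ZMod l) := Matrix.of fun a b => if R a b then 1 else 0
  let J : Matrix V V (ZMod l) := Matrix.of fun _ _ => 1
  have hrow : ∀ a, ∑ u, A a u = 1 := by
    intro a
    simp only [A, Matrix.of_apply, Finset.sum_boole]
    rw [← hd1, ← hdeg a, Set.ncard_eq_toFinset_card']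
    simp
  have h2 : A * A = J := by
    ext a b
    rw [Matrix.mul_apply]
    show _ = (1 : ZMod l)
    rcases eq_or_ne a b with rfl | hab
    · rw [← hrow a]
      refine Finset.sum_congr rfl fun u _ => ?_
      simp only [A, Matrix.of_apply]
      by_cases h : R a u
      · simp [h, hsymm a u h]
      · simp [h]
    · obtain ⟨w, ⟨hw1, hw2⟩, huniq⟩ := hone a b hab
      rw [Finset.sum_eq_single w]
      · simp [A, hw1, hsymm b w hw2]
      · intro u _ hu
        simp only [A, Matrix.of_apply]
        by_cases h1 : R a u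
        · simp [show ¬ R u b from fun h => hu (huniq u ⟨h1, hsymm u b h⟩)]
        · simp [h1]
      · simp
  have hAJ : A * J = J := by
    ext a b
    rw [Matrix.mul_apply]
    simpa [J] using hrow a
  have hJJ : J * J = (Fintype.card V : ZMod l) • J := by
    ext a b
    simp [Matrix.mul_apply, J]
  have hpow : ∀ k, A ^ (k + 2) = J := by
    intro k
    induction k with
    | zero => rw [pow_two, h2]
    | succ k ih => rw [pow_succ', ih, hAJ]
  have hn : (Fintype.card V : ZMod l) = 1 := by
    have h : (Fintype.card V : ZMod l) • J = J := by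
      rw [← hJJ]
      nth_rewrite 1 [← hpow 0]
      nth_rewrite 1 [← hpow 0]
      rw [← pow_add]
      exact hpow 2
    obtain ⟨a⟩ := ‹Nonempty V›
    simpa [J] using congrFun (congrFun h a) a
  obtain ⟨k, hk⟩ : ∃ k, l = k + 2 := ⟨l - 2, by have := hlp.two_le; omega⟩
  have htr := ZMod.trace_pow_card (p := l) A
  have hA0 : A.trace = 0 := by simp [Matrix.trace, A, hirr]
  rw [hA0, zero_pow hlp.ne_zero] at htr
  have hJt : (A ^ l).trace = 1 := by
    rw [show A ^ l = A ^ (k + 2) from congrArg (fun i : ℕ => A ^ i) hk, hpow k]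
    simp [Matrix.trace, J, hn]
  rw [hJt] at htr
  exact one_ne_zero htr

end Cfsg.Lib.Struct.Friendship
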