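import Mathlib
import Cfsg.Prelude.Def_Solvable
import Cfsg.Agent.Lib.Coprime.Conjugacy

/-!
Elements of prime-power order, splitting of an element into commuting parts, and the orbits of a
`p`-element acting on a subgroup of order at most `p + 1`.
-/

set_option autoImplicit false

namespace Cfsg.Lib.Struct.MixedTwo

open Subgroup

variable {G : Type*} [Group G]

/-- `g` is a `p`-element. -/
def IsPE (p : ℕ) (g : G) : Prop := ∃ k : ℕ, g ^ p ^ k = 1

/-- `g` is an involution. -/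
def IsI (g : G) : Prop := g * g = 1 ∧ g ≠ 1

theorem IsI.inv_eq {t : G} (h : IsI t) : t⁻¹ = t := inv_eq_of_mul_eq_one_right h.1

theorem IsI.conj {t : G} (h : IsI t) (x : G) : IsI (x * t * x⁻¹) := by
  refine ⟨?_, fun h1 => h.2 ?_⟩
  · calc x * t * x⁻¹ * (x * t * x⁻¹) = x * (t * t) * x⁻¹ := by group
      _ = 1 := by rw [h.1]; group
  · exact conj_eq_one_iff.1 h1

theorem IsI.orderOf_eq {t : G} (h : IsI t) : orderOf t = 2 :=
  orderOf_eq_prime (by rw [pow_two, h.1]) h.2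

theorem IsI.two_dvd {t : G} (h : IsI t) {H : Subgroup G} (ht : t ∈ H) : 2 ∣ Nat.card H := by
  have := orderOf_dvd_natCard (⟨t, ht⟩ : H)
  rwa [← Subgroup.orderOf_coe, h.orderOf_eq] at this

theorem IsI.isPE {t : G} (h : IsI t) : IsPE 2 t := ⟨1, by simp [pow_two, h.1]⟩

section PE

variable {p : ℕ}

theorem isPE_one : IsPE p (1 : G) := ⟨0, one_pow _⟩

theorem IsPE.inv {g : G} (h : IsPE p g) : IsPE p g⁻¹ := by
  obtain ⟨k, hk⟩ := h; exact ⟨k, by rw [inv_pow, hk, inv_one]⟩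

theorem IsPE.conj {g : G} (h : IsPE p g) (x : G) : IsPE p (x * g * x⁻¹) := by
  obtain ⟨k, hk⟩ := h; exact ⟨k, by rw [conj_pow, hk]; group⟩

theorem IsPE.pow {g : G} (h : IsPE p g) (n : ℕ) : IsPE p (g ^ n) := by
  obtain ⟨k, hk⟩ := h; exact ⟨k, by rw [← pow_mul, mul_comm, pow_mul, hk, one_pow]⟩

theorem IsPE.mul {g h : G} (hc : Commute g h) (hg : IsPE p g) (hh : IsPE p h) :
    IsPE p (g * h) := by
  obtain ⟨i, hi⟩ := hg
  obtain ⟨j, hj⟩ := hh
  refine ⟨i + j, ?_⟩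
  rw [hc.mul_pow, pow_add, pow_mul g, hi, one_pow, one_mul, mul_comm, pow_mul, hj, one_pow]

theorem IsPE.of_mem {H : Subgroup G} (hH : IsPGroup p H) {g : G} (hg : g ∈ H) : IsPE p g := by
  obtain ⟨k, hk⟩ := hH ⟨g, hg⟩
  exact ⟨k, by simpa using congrArg Subtype.val hk⟩

theorem IsPE.zpowers_pGroup [hp : Fact p.Prime] {g : G} (h : IsPE p g) :
    IsPGroup p (zpowers g) := by
  obtain ⟨k, hk⟩ := h
  obtain ⟨i, -, hi⟩ := (Nat.dvd_prime_pow hp.out).1 (orderOf_dvd_of_pow_eq_one hk)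
  exact IsPGroup.of_card (n := i) (by rw [Nat.card_zpowers, hi])

theorem IsPE.eq_one_of_coprime {q : ℕ} (hpq : p.Coprime q) {g : G} (h : IsPE p g)
    (h' : IsPE q g) : g = 1 := by
  obtain ⟨i, hi⟩ := h
  obtain ⟨j, hj⟩ := h'
  have h1 : orderOf g ∣ Nat.gcd (p ^ i) (q ^ j) :=
    Nat.dvd_gcd (orderOf_dvd_of_pow_eq_one hi) (orderOf_dvd_of_pow_eq_one hj)
  rw [(Nat.Coprime.pow i j hpq).gcd_eq_one, Nat.dvd_one] at h1
  exact orderOf_eq_one_iff.1 h1

theorem IsPE.eq_one_of_two (hp : p.Prime) (hp2 : p ≠ 2) {g : G} (h : IsPE p g)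
    (h' : IsPE 2 g) : g = 1 :=
  h.eq_one_of_coprime ((Nat.coprime_primes hp Nat.prime_two).2 hp2) h'

theorem IsPE.sq_root (hp : p.Prime) (hp2 : p ≠ 2) {g : G} (h : IsPE p g) :
    ∃ l : ℕ, (g * g) ^ l = g := by
  obtain ⟨k, hk⟩ := h
  obtain ⟨l, hl⟩ := (hp.odd_of_ne_two hp2).pow (n := k)
  refine ⟨l + 1, ?_⟩
  rw [← pow_two, ← pow_mul, show 2 * (l + 1) = p ^ k + 1 by omega, pow_succ, hk, one_mul]

theorem IsPE.commute_of_sq (hp : p.Prime) (hp2 : p ≠ 2) {g t : G} (h : IsPE p g)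
    (hc : Commute (g * g) t) : Commute g t := by
  obtain ⟨l, hl⟩ := h.sq_root hp hp2
  simpa only [hl] using hc.pow_left l

theorem IsPE.inv_ne_self (hp : p.Prime) (hp2 : p ≠ 2) {g : G} (h : IsPE p g) (h1 : g ≠ 1) :
    g⁻¹ ≠ g := fun he => h1 (h.eq_one_of_two hp hp2 ⟨1, by
      rw [pow_one, pow_two]; nth_rewrite 1 [← he]; exact inv_mul_cancel g⟩)

end PE

theorem exists_split {g : G} {m n : ℕ} (hco : m.Coprime n) (hg : g ^ (m * n) = 1) :
    ∃ a b : G, a * b = g ∧ a ^ m = 1 ∧ b ^ n = 1 ∧ a ∈ zpowers g ∧ b ∈ zpowers g := by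
  have hb := Int.gcd_eq_gcd_ab (m : ℤ) (n : ℤ)
  rw [Int.gcd_natCast_natCast, hco.gcd_eq_one, Nat.cast_one] at hb
  have hg' : g ^ ((m : ℤ) * n) = 1 := by
    rw [← Nat.cast_mul, zpow_natCast, hg]
  refine ⟨g ^ ((n : ℤ) * Int.gcdB m n), g ^ ((m : ℤ) * Int.gcdA m n), ?_, ?_, ?_, ⟨_, rfl⟩, ⟨_, rfl⟩⟩
  · rw [← zpow_add, add_comm, ← hb, zpow_one]
  · rw [← zpow_natCast (g ^ ((n : ℤ) * Int.gcdB m n)), ← zpow_mul,
      show (n : ℤ) * Int.gcdB m n * m = (m : ℤ) * n * Int.gcdB m n by ring, zpow_mul, hg', one_zpow]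
  · rw [← zpow_natCast (g ^ ((m : ℤ) * Int.gcdA m n)), ← zpow_mul,
      show (m : ℤ) * Int.gcdA m n * n = (m : ℤ) * n * Int.gcdA m n by ring, zpow_mul, hg', one_zpow]

theorem commute_of_mem_zpowers {g a z : G} (ha : a ∈ zpowers g) (h : Commute z g) :
    Commute z a := by
  obtain ⟨k, rfl⟩ := ha
  exact h.zpow_right k

theorem inv_of_mem_zpowers {g a s : G} (ha : a ∈ zpowers g) (h : s * g * s⁻¹ = g⁻¹) :
    s * a * s⁻¹ = a⁻¹ := by
  obtain ⟨k, rfl⟩ := ha
  show s * g ^ k * s⁻¹ = (g ^ k)⁻¹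
  rw [← conj_zpow, h, inv_zpow]

theorem commute_iff_conj {u y : G} : Commute u y ↔ u * y * u⁻¹ = y :=
  ⟨fun h => by rw [h.eq, mul_inv_cancel_right], fun h => mul_inv_eq_iff_eq_mul.1 h⟩

theorem eq_pow_two_mul_pow {n p : ℕ} (hp : p.Prime) (hp2 : p ≠ 2) (hn : n ≠ 0)
    (h : ∀ r, r.Prime → r ∣ n → r = 2 ∨ r = p) : ∃ i j, n = 2 ^ i * p ^ j := by
  refine ⟨n.factorization 2, n.factorization p, Nat.eq_of_factorization_eq hn
    (mul_ne_zero (pow_ne_zero _ two_ne_zero) (pow_ne_zero _ hp.ne_zero)) fun r => ?_⟩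
  rw [Nat.factorization_mul (pow_ne_zero _ two_ne_zero) (pow_ne_zero _ hp.ne_zero),
    Nat.Prime.factorization_pow Nat.prime_two, Nat.Prime.factorization_pow hp]
  simp only [Finsupp.coe_add, Pi.add_apply, Finsupp.single_apply]
  by_cases h2 : 2 = r
  · subst h2; simp [hp2]
  · by_cases hr : p = r
    · subst hr; simp [h2]
    · simp only [if_neg h2, if_neg hr, add_zero]
      by_cases hrp : r.Prime
      · refine Nat.factorization_eq_zero_of_not_dvd fun hd => ?_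
        rcases h r hrp hd with rfl | rfl
        · exact h2 rfl
        · exact hr rfl
      · exact Nat.factorization_eq_zero_of_not_prime n hrp

theorem mem_normalizer_of_conj [Finite G] {K : Subgroup G} {g : G}
    (h : ∀ k ∈ K, g * k * g⁻¹ ∈ K) : g ∈ normalizer (K : Set G) := by
  have hle : K.map (MulAut.conj g).toMonoidHom ≤ K := by
    rintro _ ⟨k, hk, rfl⟩; exact h k hk
  have heq := Subgroup.eq_of_le_of_card_ge hle
    (Nat.card_congr (K.equivMapOfInjective _ (MulAut.conj g).injective).toEquiv).le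
  rw [mem_normalizer_iff]
  refine fun x => ⟨h x, fun hx => ?_⟩
  rw [← heq] at hx
  obtain ⟨k, hk, hkx⟩ := hx
  rwa [← (MulAut.conj g).injective hkx]

theorem conj_mem_of_normalizer {K : Subgroup G} {g k : G} (h : g ∈ normalizer (K : Set G))
    (hk : k ∈ K) : g * k * g⁻¹ ∈ K :=
  (mem_normalizer_iff.1 h k).1 hk

theorem conj_mem_smul {p : ℕ} {P : Sylow p G} {u : G} (g : G) (hu : u ∈ P) :
    g * u * g⁻¹ ∈ (g • P : Sylow p G) := by
  show g * u * g⁻¹ ∈ ((g • P : Sylow p G) : Subgroup G)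
  exact ⟨u, hu, rfl⟩

theorem sup_zpowers_isPGroup [Finite G] {p : ℕ} [Fact p.Prime] {K : Subgroup G} {g : G}
    (hK : IsPGroup p K) (hg : IsPE p g) (h : ∀ k ∈ K, g * k * g⁻¹ ∈ K) :
    IsPGroup p (K ⊔ zpowers g : Subgroup G) :=
  hK.to_sup_of_normal_left' hg.zpowers_pGroup (zpowers_le.2 (mem_normalizer_of_conj h))

theorem mem_sylow_of_normalizes [Finite G] {p : ℕ} [Fact p.Prime] (P : Sylow p G) {g : G}
    (hg : IsPE p g) (h : ∀ k ∈ P, g * k * g⁻¹ ∈ P) : g ∈ P := by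
  have h1 := sup_zpowers_isPGroup P.isPGroup' hg h
  exact (P.is_maximal' h1 le_sup_left).le (mem_sup_right (mem_zpowers g))

/-- A `p`-element normalizing a subgroup `U` and moving one of its elements has an orbit of at
least `p` nontrivial elements on `U`. -/
theorem orbit_conj [Finite G] {p : ℕ} (hp : p.Prime) {U : Subgroup G} {g : G} (hg : IsPE p g)
    (hnorm : ∀ u ∈ U, g * u * g⁻¹ ∈ U) {w : G} (hw : w ∈ U) (hmove : ¬ Commute g w) :
    p + 1 ≤ Nat.card U ∧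
      (Nat.card U ≤ p + 1 → ∀ u ∈ U, u ≠ 1 → ∃ i : ℕ, u = g ^ i * w * (g ^ i)⁻¹) := by
  let f : G → G := fun u => g * u * g⁻¹
  have hit : ∀ (i : ℕ) (u : G), f^[i] u = g ^ i * u * (g ^ i)⁻¹ := by
    intro i u
    induction i with
    | zero => simp
    | succ i ih =>
      rw [Function.iterate_succ_apply', ih, pow_succ']
      simp only [f]
      group
  have hne : w ≠ 1 := fun h => hmove (h ▸ Commute.one_right g)
  have hmin : p ≤ Function.minimalPeriod f w := by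
    obtain ⟨k, hk⟩ := hg
    have hper : Function.IsPeriodicPt f (p ^ k) w := by
      show f^[p ^ k] w = w
      rw [hit, hk]; simp
    obtain ⟨i, -, hi⟩ := (Nat.dvd_prime_pow hp).1 hper.minimalPeriod_dvd
    rw [hi]
    rcases Nat.eq_zero_or_pos i with rfl | hi0
    · exfalso
      rw [pow_zero, Function.minimalPeriod_eq_one_iff_isFixedPt] at hi
      exact hmove (commute_iff_conj.2 hi)
    · exact Nat.le_self_pow hi0.ne' p
  let φ : ℕ → G := fun i => f^[i] w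
  have hinj : Set.InjOn φ (Set.Iio p) :=
    Function.iterate_injOn_Iio_minimalPeriod.mono fun i hi => lt_of_lt_of_le hi hmin
  have hsub : φ '' Set.Iio p ⊆ (U : Set G) \ {1} := by
    rintro _ ⟨i, -, rfl⟩
    refine ⟨?_, ?_⟩
    · show f^[i] w ∈ U
      clear hinj
      induction i with
      | zero => exact hw
      | succ i ih => rw [Function.iterate_succ_apply']; exact hnorm _ ih
    · simp only [Set.mem_singleton_iff, φ, hit]
      exact fun h => hne (conj_eq_one_iff.1 h)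
  have hS : (φ '' Set.Iio p).ncard = p := by
    rw [Set.InjOn.ncard_image hinj, ← Nat.card_coe_set_eq]
    simp
  have hU : ((U : Set G) \ {1}).ncard = Nat.card U - 1 := by
    rw [Set.ncard_sdiff_singleton_of_mem U.one_mem, ← Nat.card_coe_set_eq]
    rfl
  have hle := Set.ncard_le_ncard hsub (Set.toFinite _)
  rw [hS, hU] at hle
  have hpos : 0 < Nat.card U := Nat.card_pos
  refine ⟨by omega, fun hcard u hu hu1 => ?_⟩
  have heq := Set.eq_of_subset_of_ncard_le hsub (by rw [hS, hU]; omega) (Set.toFinite _)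
  obtain ⟨i, -, hi⟩ : u ∈ φ '' Set.Iio p := by rw [heq]; exact ⟨hu, hu1⟩
  exact ⟨i, by rw [← hi]; exact hit i w⟩

end Cfsg.Lib.Struct.MixedTwo
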