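import Cfsg.Agent.Lib.Struct.MixedTwoFinal

/-!
The branch without roots: centralizers of involutions are Sylow 2-subgroups, and counting the
involutions gives a contradiction modulo `p`.
-/

set_option autoImplicit false
set_option linter.unusedSectionVars false

namespace Cfsg.Lib.Struct.MixedTwo

open Subgroup

variable {G : Type*} [Group G] {p : ℕ}

namespace Ctx

section
variable [Finite G] (c : Ctx G p) (nr : NoRoots G p)
include c nr

theorem fixes (Q : Sylow 2 G) {g t : G} (hg : IsPE p g) (ht : t ∈ Q) (ht1 : t ≠ 1)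
    (hgt : Commute g t) : ∀ u ∈ Q, Commute g u := by
  intro u hu
  by_contra h
  obtain ⟨r, -, hr⟩ := c.root_exists Q hg ht ht1 hgt.symm hu (fun h' => h h'.symm) ⊤ (mem_top _)
    (fun _ _ _ _ => mem_top _)
  exact nr Q r t u hr

theorem inv_trans {t s u : G} (ht : IsI t) (hs : IsI s) (hu : IsI u) (hst : Commute s t)
    (hsu : Commute s u) : Commute t u := by
  obtain ⟨a, b, hab, ha, hb, -, hbm⟩ := c.split (H := centralizer ({s} : Set G))
    (c.centralizer_ne_top (Or.inr hs)) (hs.two_dvd (mem_centralizer_singleton_iff.2 rfl))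
    (mem_centralizer_singleton_iff.2 ((hst.mul_right hsu).eq.symm))
  obtain ⟨Q, hsQ, htQ⟩ := c.exists_sylow_of_commute hs ht hst
  have hbt := c.fixes nr Q hb hsQ hs.2 (commute_of_mem_zpowers hbm (hst.mul_right hsu)).symm t htQ
  have hinv := inv_of_mem_zpowers hbm (c.inverts_prod ht hu)
  rw [commute_iff_conj.1 hbt.symm] at hinv
  have hb1 : b = 1 := by_contra fun h => hb.inv_ne_self c.hp c.hp2 h hinv.symm
  rw [hb1, mul_one] at hab
  rw [hab] at ha
  have := eq_inv_of_mul_eq_one_left ha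
  rwa [mul_inv_rev, hu.inv_eq, ht.inv_eq] at this

theorem normalizes_of_centralizes (Q : Sylow 2 G) {z : G} (hz : IsPE p z) (hz1 : z ≠ 1)
    (hzQ : ∀ u ∈ Q, Commute z u) {g : G} (hg : Commute g z) : ∀ u ∈ Q, g * u * g⁻¹ ∈ Q := by
  have : Fact p.Prime := ⟨c.hp⟩
  obtain ⟨x, hx, hn, hm⟩ := c.moving Q
  obtain ⟨t, ht, ht1, -⟩ := c.exists_ne Q 1
  set H := centralizer ({z} : Set G) with hH
  have hQH : ∀ u ∈ Q, u ∈ H := fun u hu => mem_centralizer_singleton_iff.2 (hzQ u hu).eq.symm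
  have hxH : x ∈ H := mem_centralizer_singleton_iff.2 (c.x_comm_centralized Q hx hn hz hzQ).eq
  rcases c.dichotomy (c.centralizer_ne_top (Or.inl ⟨hz, hz1⟩))
    ((c.isI_of_mem Q ht ht1).two_dvd (hQH t ht)) with ⟨M, hM1, hM, hMn⟩ | ⟨M, hMH, hM, hMn, hMc⟩
  · have hMQ := c.two_normal_eq Q hx hn hm hM1 hM (fun u hu => hMn u (hQH u hu)) (hMn x hxH)
    subst hMQ
    exact hMn g (mem_centralizer_singleton_iff.2 hg.eq)
  · exfalso
    have hQn : ∀ u ∈ Q, ∀ m ∈ M, u * m * u⁻¹ ∈ M := fun u hu => hMn u (hQH u hu)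
    have hcent : ∀ u ∈ Q, ∀ m ∈ M, Commute u m := by
      intro u hu m hm
      by_cases hu1 : u = 1
      · exact hu1 ▸ Commute.one_left m
      obtain ⟨v, hv, hv1, hvu⟩ := c.exists_ne Q u
      refine (c.commute_of_pair Q hu hv hM hQn
        (fun k hk hkv => c.fixes nr Q (IsPE.of_mem hM hk) hv hv1 hkv u hu)
        (fun k hk hkv => c.fixes nr Q (IsPE.of_mem hM hk) (mul_mem hu hv) ?_ hkv u hu) hm).symm
      intro h
      exact hvu (by rw [eq_inv_of_mul_eq_one_right h, c.inv_of_mem Q hu])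
    exact ht1 ((IsPE.of_mem hM (hMc t (hQH t ht) (hcent t ht))).eq_one_of_two c.hp c.hp2
      (IsPE.of_mem Q.isPGroup' ht))

theorem exists_noncommuting {t : G} (ht : IsI t) : ∃ s, IsI s ∧ ¬ Commute t s := by
  by_contra hno
  push Not at hno
  obtain ⟨Q, htQ⟩ := c.exists_sylow ht
  obtain ⟨r, hr, hr2, hrp, hrG⟩ := c.third
  have : Fact r.Prime := ⟨hr⟩
  have hmemQ : ∀ s, IsI s → s ∈ Q := fun s hs => by
    refine mem_sylow_of_normalizes Q hs.isPE fun k hk => ?_
    suffices Commute s k by rw [this.eq, mul_inv_cancel_right]; exact hk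
    by_cases hk1 : k = 1
    · exact hk1 ▸ Commute.one_right s
    have hki := c.isI_of_mem Q hk hk1
    exact c.inv_trans nr hs ht hki (hno s hs) (hno k hki)
  obtain ⟨g, hg⟩ := exists_prime_orderOf_dvd_card' r hrG
  have hgQ : ∀ k ∈ Q, g * k * g⁻¹ ∈ Q := by
    intro k hk
    by_cases hk1 : k = 1
    · subst hk1; simp [one_mem]
    · exact hmemQ _ ((c.isI_of_mem Q hk hk1).conj g)
  have hd : Disjoint (Q : Subgroup G) (zpowers g) := by
    exact IsPGroup.disjoint_of_ne 2 r (Ne.symm hr2) _ _ Q.isPGroup'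
      (IsPE.zpowers_pGroup (⟨1, by rw [pow_one, ← hg, pow_orderOf_eq_one]⟩ : IsPE r g))
  have hK := Cfsg.Lib.Coprime.card_sup_of_disjoint (zpowers_le.2 (mem_normalizer_of_conj hgQ)) hd
  rw [Nat.card_zpowers, hg, c.card_two Q] at hK
  have hne : (Q : Subgroup G) ⊔ zpowers g ≠ ⊤ := by
    intro htop
    rw [htop, card_top] at hK
    rcases c.hp.dvd_mul.1 (hK ▸ c.hpG) with h | h
    · exact c.hp.not_dvd_one ((Nat.dvd_add_right (dvd_refl p)).1 h)
    · exact hrp ((Nat.prime_dvd_prime_iff_eq c.hp hr).1 h).symm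
  rcases c.even _ hne (ht.two_dvd (mem_sup_left htQ)) r hr (hK ▸ dvd_mul_left r _) with h | h
  exacts [hr2 h, hrp h]

theorem prod_isPE {t s : G} (ht : IsI t) (hs : IsI s) (hts : ¬ Commute t s) :
    IsPE p (t * s) := by
  obtain ⟨a, b, hab, ha, hb, ham, -⟩ := c.dihedral ht hs
  by_cases ha1 : a = 1
  · rwa [← hab, ha1, one_mul]
  exfalso
  have hai : IsI a := ⟨ha, ha1⟩
  have h1 := inv_of_mem_zpowers ham (c.inverts_prod ht hs)
  have h2 := inv_of_mem_zpowers ham (c.inverts_prod' ht hs)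
  rw [hai.inv_eq] at h1 h2
  exact hts (c.inv_trans nr ht hai hs (commute_iff_conj.2 h1).symm (commute_iff_conj.2 h2).symm)

omit c nr in
theorem conj_mem_sylow_inverted {P : Sylow p G} {y t : G} (hP : ∀ g ∈ P, IsPE p g ∧ Commute g y)
    (hPmax : ∀ g, IsPE p g → Commute g y → g ∈ P) (hty : t * y * t⁻¹ = y⁻¹) :
    ∀ g ∈ P, t * g * t⁻¹ ∈ P := by
  intro g hg
  refine hPmax _ ((hP g hg).1.conj t) ?_
  have h := (hP g hg).2.map (MulAut.conj t)
  simp only [MulAut.conj_apply, hty] at h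
  simpa using h.inv_right

theorem eq_one_of_commute {t g : G} (ht : IsI t) (hg : IsPE p g) (hgt : Commute g t) : g = 1 := by
  have : Fact p.Prime := ⟨c.hp⟩
  by_contra hg1
  obtain ⟨Q, htQ⟩ := c.exists_sylow ht
  have hgQ := c.fixes nr Q hg htQ ht.2 hgt
  obtain ⟨s, hs, hts⟩ := c.exists_noncommuting nr ht
  set y := t * s with hy
  have hyp := c.prod_isPE nr ht hs hts
  have hy1 : y ≠ 1 := fun h => hts (by
    rw [eq_inv_of_mul_eq_one_left h, hs.inv_eq])
  have hty := c.inverts_prod ht hs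
  obtain ⟨P, hyP, hP, hPmax⟩ := c.exists_sylow_inverted hyp hy1 ht hty
  obtain ⟨R, hR⟩ := hg.zpowers_pGroup.exists_le_sylow
  obtain ⟨h, rfl⟩ := MulAction.exists_smul_eq G R P
  set z := h * g * h⁻¹ with hz
  have hzp : IsPE p z := hg.conj h
  have hz1 : z ≠ 1 := fun e => hg1 (conj_eq_one_iff.1 e)
  have hzP : z ∈ h • R := conj_mem_smul h (hR (mem_zpowers g))
  have htzP := conj_mem_sylow_inverted hP hPmax hty z hzP
  have hzc := pgroup_comm c.hab (h • R).isPGroup' htzP hzP
  set d := z * (t * z * t⁻¹) with hd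
  have hdt : Commute d t := by
    refine Commute.symm ?_
    rw [commute_iff_conj]
    calc t * (z * (t * z * t⁻¹)) * t⁻¹ = (t * z * t⁻¹) * (t * t * z * (t * t)⁻¹) := by group
      _ = _ := by rw [ht.1]; simp [hzc.eq, hd]
  by_cases hd1 : d = 1
  · -- `t` inverts `z`, whose centralizer contains a Sylow 2-subgroup
    have htz : t * z * t⁻¹ = z⁻¹ := eq_inv_of_mul_eq_one_right hd1
    refine (c.card_lt_of_inverted hzp hz1 ht htz (h • Q).isPGroup' ?_).ne (c.card_two _)
    intro u hu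
    obtain ⟨k, hk, rfl⟩ := hu
    exact (hgQ k hk).symm.map (MulAut.conj h)
  · have hdp : IsPE p d := hzp.mul hzc.symm (hzp.conj t)
    have hdQ := c.fixes nr Q hdp htQ ht.2 hdt
    have hdy : Commute y d :=
      pgroup_comm c.hab (h • R).isPGroup' hyP (mul_mem hzP htzP)
    have hytQ := mul_mem (c.normalizes_of_centralizes nr Q hdp hd1 hdQ hdy t htQ) htQ
    have e : y * t * y⁻¹ * t = y * y := by
      have h' : t * y⁻¹ * t = y := by
        have := congrArg (fun x => x⁻¹) (show t * y * t⁻¹ = y⁻¹ from hty)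
        simp only [inv_inv] at this
        rw [conj_inv, ht.inv_eq] at this
        exact this
      calc y * t * y⁻¹ * t = y * (t * y⁻¹ * t) := by group
        _ = _ := by rw [h']
    have h4 : y * y = 1 := (hyp.mul rfl hyp).eq_one_of_two c.hp c.hp2
      (e ▸ IsPE.of_mem Q.isPGroup' hytQ)
    exact hyp.inv_ne_self c.hp c.hp2 hy1 (inv_eq_of_mul_eq_one_right h4)

theorem centralizer_eq (Q : Sylow 2 G) {t : G} (ht : t ∈ Q) (ht1 : t ≠ 1) :
    centralizer ({t} : Set G) = (Q : Subgroup G) := by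
  have hti := c.isI_of_mem Q ht ht1
  refine le_antisymm (fun g hg => ?_) fun g hg =>
    mem_centralizer_singleton_iff.2 (c.comm_of_mem Q hg ht).eq
  obtain ⟨a, b, hab, ha, hb, -, hbm⟩ := c.split (c.centralizer_ne_top (Or.inr hti))
    (hti.two_dvd (mem_centralizer_singleton_iff.2 rfl)) hg
  have hgt : Commute g t := mem_centralizer_singleton_iff.1 hg
  have hb1 := c.eq_one_of_commute nr hti hb (commute_of_mem_zpowers hbm hgt.symm).symm
  rw [hb1, mul_one] at hab
  subst hab
  by_cases ha1 : a = 1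
  · exact ha1 ▸ one_mem _
  refine mem_sylow_of_normalizes Q ⟨1, by simp [pow_two, ha]⟩ fun k hk => ?_
  suffices Commute a k by rw [this.eq, mul_inv_cancel_right]; exact hk
  by_cases hk1 : k = 1
  · exact hk1 ▸ Commute.one_right a
  exact c.inv_trans nr ⟨ha, ha1⟩ hti (c.isI_of_mem Q hk hk1) hgt.symm
    (c.comm_of_mem Q ht hk)

theorem false_of_noRoots : False := by
  classical
  have : Fact p.Prime := ⟨c.hp⟩
  let Q : Sylow 2 G := default
  obtain ⟨t, htQ, ht1, -⟩ := c.exists_ne Q 1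
  have ht := c.isI_of_mem Q htQ ht1
  -- `t` inverts a Sylow subgroup
  let Inv : G → Sylow p G → Prop := fun a P => ∀ w ∈ P, a * w * a⁻¹ = w⁻¹
  have hinvP : ∀ a : G, IsI a → ∀ P : Sylow p G, (∀ w ∈ P, a * w * a⁻¹ ∈ P) → Inv a P := by
    intro a ha P hn w hw
    have hcm := pgroup_comm c.hab P.isPGroup' hw (hn w hw)
    refine eq_inv_of_mul_eq_one_right (c.eq_one_of_commute nr ha
      ((IsPE.of_mem P.isPGroup' hw).mul hcm ((IsPE.of_mem P.isPGroup' hw).conj a))
      (Commute.symm (commute_iff_conj.2 ?_)))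
    calc a * (w * (a * w * a⁻¹)) * a⁻¹ = (a * w * a⁻¹) * (a * a * w * (a * a)⁻¹) := by group
      _ = _ := by rw [ha.1]; simp [hcm.eq]
  have hexP : ∀ s : G, IsI s → ¬ Commute t s →
      IsPE p (t * s) ∧ t * s ≠ 1 ∧ ∃ P : Sylow p G, t * s ∈ P ∧ Inv t P := by
    intro s hs hts
    have hyp := c.prod_isPE nr ht hs hts
    have hy1 : t * s ≠ 1 := fun h => hts (by rw [eq_inv_of_mul_eq_one_left h, hs.inv_eq])
    obtain ⟨P, hyP, hP, hPmax⟩ := c.exists_sylow_inverted hyp hy1 ht (c.inverts_prod ht hs)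
    exact ⟨hyp, hy1, P, hyP,
      hinvP t ht P (conj_mem_sylow_inverted hP hPmax (c.inverts_prod ht hs))⟩
  obtain ⟨s₀, hs₀, hts₀⟩ := c.exists_noncommuting nr ht
  obtain ⟨-, -, P₀, -, hP₀⟩ := hexP s₀ hs₀ hts₀
  set S := MulAction.orbit (Q : Subgroup G) P₀ with hS
  have hnot : ∀ (P : Sylow p G) (w : G), w ∈ P → w ≠ 1 → IsPE p w := fun P w hw _ =>
    IsPE.of_mem P.isPGroup' hw
  have hSinv : ∀ P ∈ S, Inv t P := by
    rintro _ ⟨⟨u, hu⟩, rfl⟩ w hw
    obtain ⟨k, hk, rfl⟩ := hw
    simp only [MulDistribMulAction.toMonoidEnd_apply, MulDistribMulAction.toMonoidHom_apply,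
      MulAut.smul_def, MulAut.conj_apply]
    calc t * (u * k * u⁻¹) * t⁻¹ = (t * u) * k * (t * u)⁻¹ := by group
      _ = (u * t) * k * (u * t)⁻¹ := by rw [(c.comm_of_mem Q htQ hu).eq]
      _ = u * (t * k * t⁻¹) * u⁻¹ := by group
      _ = _ := by rw [hP₀ k hk, conj_inv]
  -- any Sylow subgroup inverted by `t` is in the orbit
  have hSmem : ∀ P : Sylow p G, Inv t P → P ∈ S := by
    intro P hP
    obtain ⟨h, hh⟩ := MulAction.exists_smul_eq G P₀ P
    set t' := h * t * h⁻¹ with ht'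
    have ht'i : IsI t' := ht.conj h
    have ht'P : Inv t' P := by
      intro w hw
      rw [← hh] at hw
      obtain ⟨k, hk, rfl⟩ := hw
      simp only [MulDistribMulAction.toMonoidEnd_apply, MulDistribMulAction.toMonoidHom_apply,
        MulAut.smul_def, MulAut.conj_apply]
      calc t' * (h * k * h⁻¹) * t'⁻¹ = h * (t * k * t⁻¹) * h⁻¹ := by rw [ht']; group
        _ = _ := by rw [hP₀ k hk, conj_inv]
    have hw : t * t' ∈ P := by
      by_cases he : t = t'
      · rw [← he, ht.1]; exact one_mem _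
      have hcw : ∀ w ∈ P, Commute (t * t') w := fun w hw => by
        rw [commute_iff_conj]
        calc t * t' * w * (t * t')⁻¹ = t * (t' * w * t'⁻¹) * t⁻¹ := by group
          _ = w := by rw [ht'P w hw, ← conj_inv, hP w hw, inv_inv]
      by_cases hc : Commute t t'
      · exfalso
        obtain ⟨v, hv, hv1⟩ := (P : Subgroup G).bot_or_exists_ne_one.resolve_left fun hb => by
          have h1 := P.card_eq_multiplicity
          rw [hb, Subgroup.card_bot] at h1
          exact (Nat.pow_eq_one.1 h1.symm).elim c.hp.ne_one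
            (c.hp.factorization_pos_of_dvd Nat.card_pos.ne' c.hpG).ne'
        have hti : IsI (t * t') := by
          refine ⟨?_, fun h1 => he (by rw [eq_inv_of_mul_eq_one_left h1, ht'i.inv_eq])⟩
          calc t * t' * (t * t') = t * (t' * t) * t' := by group
            _ = t * (t * t') * t' := by rw [hc.eq]
            _ = (t * t) * (t' * t') := by group
            _ = 1 := by rw [ht.1, ht'i.1, one_mul]
        exact hv1 (c.eq_one_of_commute nr hti (hnot P v hv hv1) (hcw v hv).symm)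
      · refine mem_sylow_of_normalizes P (c.prod_isPE nr ht ht'i hc) fun k hk => ?_
        rw [(hcw k hk).eq, mul_inv_cancel_right]
        exact hk
    obtain ⟨l, hl⟩ := (IsPE.of_mem P.isPGroup' (inv_mem hw)).sq_root c.hp c.hp2
    set r := (t * t')⁻¹ ^ l with hr
    have hrP : r ∈ P := pow_mem (inv_mem hw) l
    have hr2 : r * r = (t * t')⁻¹ := by
      rw [hr, ← (Commute.refl ((t * t')⁻¹)).mul_pow, hl]
    have hrt : r * t * r⁻¹ = t' := by
      calc r * t * r⁻¹ = t * ((t * r * t⁻¹) * r⁻¹) := by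
            rw [ht.inv_eq]
            simp only [← mul_assoc, ht.1, one_mul]
        _ = t * (r * r)⁻¹ := by rw [hP r hrP, mul_inv_rev]
        _ = t' := by rw [hr2, inv_inv, ← mul_assoc, ht.1, one_mul]
    have hrh : Commute (r⁻¹ * h) t := by
      rw [commute_iff_conj]
      calc r⁻¹ * h * t * (r⁻¹ * h)⁻¹ = r⁻¹ * (h * t * h⁻¹) * r := by group
        _ = r⁻¹ * (r * t * r⁻¹) * r := by rw [← ht', hrt]
        _ = t := by group
    have hmemQ : r⁻¹ * h ∈ (Q : Subgroup G) :=
      c.centralizer_eq nr Q htQ ht1 ▸ mem_centralizer_singleton_iff.2 hrh.eq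
    refine ⟨⟨_, hmemQ⟩, ?_⟩
    show (r⁻¹ * h) • P₀ = P
    rw [mul_smul, hh]
    exact Sylow.smul_eq_iff_mem_normalizer.2 (le_normalizer (inv_mem hrP))
  -- the counting
  let J := {s : G | IsI s}
  let A := {s : G | IsI s ∧ Commute t s}
  let B := {s : G | IsI s ∧ ¬ Commute t s}
  have hJ : J.ncard = A.ncard + B.ncard := by
    rw [← Set.ncard_union_eq (Set.disjoint_left.2 fun x h1 h2 => h2.2 h1.2)]
    congr 1
    ext x
    simp only [J, A, B, Set.mem_union, Set.mem_setOf_eq]
    tauto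
  have hA : A.ncard = p := by
    have e : A = ((Q : Subgroup G) : Set G) \ {1} := by
      ext x
      refine ⟨fun hx => ⟨?_, hx.1.2⟩, fun hx => ⟨c.isI_of_mem Q hx.1 hx.2,
        c.comm_of_mem Q htQ hx.1⟩⟩
      show x ∈ (Q : Subgroup G)
      rw [← c.centralizer_eq nr Q htQ ht1]
      exact mem_centralizer_singleton_iff.2 hx.2.eq.symm
    rw [e, Set.ncard_sdiff_singleton_of_mem (Q : Subgroup G).one_mem, ← Nat.card_coe_set_eq]
    exact (congrArg (· - 1) (c.card_two Q)).trans (by omega)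
  have hpJ : p ∣ J.ncard := by
    have hJe : J = MulAction.orbit (ConjAct G) t := by
      ext x
      refine ⟨fun hx => ?_, ?_⟩
      · obtain ⟨g, hg⟩ := c.one_class ht hx
        exact ⟨ConjAct.toConjAct g, hg⟩
      · rintro ⟨g, rfl⟩
        exact ht.conj _
    have h1 := (MulAction.stabilizer (ConjAct G) t).index_mul_card
    rw [MulAction.index_stabilizer, ← nat_card_centralizer_nat_card_stabilizer,
      c.centralizer_eq nr Q htQ ht1, c.card_two Q, ← hJe] at h1
    have h2 : p ∣ J.ncard * (p + 1) := h1 ▸ c.hpG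
    rcases c.hp.dvd_mul.1 h2 with h | h
    · exact h
    · exact absurd ((Nat.dvd_add_right (dvd_refl p)).1 h) c.hp.not_dvd_one
  set m := Nat.card P₀ with hm
  have hB : B.ncard = Nat.card S * (m - 1) := by
    have : Fintype S := Fintype.ofFinite S
    have key : Nat.card (Σ P : S, {w : G // w ∈ (P : Sylow p G) ∧ w ≠ 1}) = Nat.card B := by
      refine Nat.card_congr (Equiv.ofBijective (fun x => ⟨t * (x.2 : G), ?_, ?_⟩) ⟨?_, ?_⟩)
      · obtain ⟨⟨P, hP⟩, w, hw, hw1⟩ := x
        refine ⟨?_, fun h => ?_⟩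
        · calc t * w * (t * w) = (t * w * t⁻¹) * (t * t) * w := by group
            _ = 1 := by rw [hSinv P hP w hw, ht.1, mul_one, inv_mul_cancel]
        · exact hw1 ((hnot P w hw hw1).eq_one_of_two c.hp c.hp2 (by
            rw [eq_inv_of_mul_eq_one_right (show t * w = 1 from h), ht.inv_eq]; exact ht.isPE))
      · obtain ⟨⟨P, hP⟩, w, hw, hw1⟩ := x
        intro h
        have : Commute t w := by
          have := (Commute.refl t).inv_right.mul_right h
          rwa [inv_mul_cancel_left] at this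
        refine (hnot P w hw hw1).inv_ne_self c.hp c.hp2 hw1 ?_
        rw [← hSinv P hP w hw, commute_iff_conj.1 this]
      · rintro ⟨⟨P, hP⟩, w, hw, hw1⟩ ⟨⟨P', hP'⟩, w', hw', hw1'⟩ h
        have hww : w = w' := mul_left_cancel (congrArg Subtype.val h)
        subst hww
        obtain ⟨R, -, hR, hRmax⟩ := c.exists_sylow_inverted (hnot P w hw hw1) hw1 ht
          (hSinv P hP w hw)
        have hle : ∀ P : Sylow p G, w ∈ P → P = R := fun P hwP =>
          (Sylow.ext (P.is_maximal' R.isPGroup' fun g hg => hRmax g (IsPE.of_mem P.isPGroup' hg)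
            (pgroup_comm c.hab P.isPGroup' hg hwP))).symm
        obtain rfl : P = P' := (hle P hw).trans (hle P' hw').symm
        rfl
      · rintro ⟨s, hs, hts⟩
        obtain ⟨-, hy1, P, hyP, hP⟩ := hexP s hs hts
        exact ⟨⟨⟨P, hSmem P hP⟩, ⟨t * s, hyP, hy1⟩⟩,
          Subtype.ext (by show t * (t * s) = s; rw [← mul_assoc, ht.1, one_mul])⟩
    rw [← Nat.card_coe_set_eq, ← key, Nat.card_sigma]
    have hfib : ∀ P : S, Nat.card {w : G // w ∈ (P : Sylow p G) ∧ w ≠ 1} = m - 1 := fun P => by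
      show Nat.card ↥((((P : Sylow p G) : Subgroup G) : Set G) \ {1}) = _
      rw [Nat.card_coe_set_eq, Set.ncard_sdiff_singleton_of_mem (one_mem _),
        ← Nat.card_coe_set_eq]
      rw [hm, P₀.card_eq_multiplicity, ← (P : Sylow p G).card_eq_multiplicity]
      rfl
    simp only [hfib, Finset.sum_const, Finset.card_univ, smul_eq_mul, Nat.card_eq_fintype_card]
  have hSdvd : Nat.card S ∣ p + 1 := by
    rw [← c.card_two Q, Nat.card_coe_set_eq, ← MulAction.index_stabilizer]
    exact Subgroup.index_dvd_card _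
  have hdvd : p ∣ Nat.card S * (m - 1) := by
    have : p ∣ p + Nat.card S * (m - 1) := by rw [← hB]; nth_rewrite 2 [← hA]; rw [← hJ]; exact hpJ
    exact (Nat.dvd_add_right (dvd_refl p)).1 this
  rcases c.hp.dvd_mul.1 hdvd with h | h
  · exact c.hp.not_dvd_one ((Nat.dvd_add_right (dvd_refl p)).1 (h.trans hSdvd))
  · have hpm : p ∣ m := by
      rw [hm, P₀.card_eq_multiplicity]
      exact dvd_pow_self p (c.hp.factorization_pos_of_dvd Nat.card_pos.ne' c.hpG).ne'
    have h1 : p ∣ m - (m - 1) := Nat.dvd_sub hpm h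
    have : m - (m - 1) = 1 := by
      have : 0 < m := Nat.card_pos
      omega
    rw [this] at h1
    exact c.hp.not_dvd_one h1

end

theorem false [Finite G] (c : Ctx G p) : False := by
  by_cases nr : NoRoots G p
  · exact c.false_of_noRoots nr
  · simp only [NoRoots, not_forall, not_not] at nr
    obtain ⟨Q, y, t, v, h⟩ := nr
    exact c.false_of_root Q h

end Ctx

end Cfsg.Lib.Struct.MixedTwo
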