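import Cfsg.Agent.Lib.Struct.MixedTwoBasic
import Cfsg.Agent.Lib.Core.PSolvable
import Cfsg.Agent.S0144

/-!
A group whose Sylow 2-subgroups have order `p + 1`, whose Sylow `p`-subgroups are abelian, and whose
proper subgroups of even order are `{2, p}`-groups, but which has a third prime divisor.
-/

set_option autoImplicit false
set_option linter.unusedSectionVars false

namespace Cfsg.Lib.Struct.MixedTwo

open Subgroup

/-- The hypotheses of the exceptional case `p + 1 = 2 ^ a`. -/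
structure Ctx (G : Type*) [Group G] (p : ℕ) : Prop where
  hp : p.Prime
  hp2 : p ≠ 2
  hpG : p ∣ Nat.card G
  hab : ∀ P : Sylow p G, IsMulCommutative P
  card_two : ∀ Q : Sylow 2 G, Nat.card Q = p + 1
  even : ∀ H : Subgroup G, H ≠ ⊤ → 2 ∣ Nat.card H →
    ∀ r, r.Prime → r ∣ Nat.card H → r = 2 ∨ r = p
  third : ∃ r, r.Prime ∧ r ≠ 2 ∧ r ≠ p ∧ r ∣ Nat.card G
  core : ∀ N : Subgroup G, N.Normal → ¬ 2 ∣ Nat.card N → N = ⊥
  moving : ∀ Q : Sylow 2 G, ∃ x : G, IsPE p x ∧ (∀ u ∈ Q, x * u * x⁻¹ ∈ Q) ∧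
    ∃ u ∈ Q, ¬ Commute x u

variable {G : Type*} [Group G] {p : ℕ}

theorem pgroup_comm [Finite G] (hab : ∀ P : Sylow p G, IsMulCommutative P) {M : Subgroup G}
    (hM : IsPGroup p M) {g h : G} (hg : g ∈ M) (hh : h ∈ M) : Commute g h := by
  obtain ⟨P, hP⟩ := hM.exists_le_sylow
  have := hab P
  exact setLike_mul_comm (hP hg) (hP hh)

namespace Ctx

section
variable [Finite G] (c : Ctx G p)
include c

theorem three_le : 3 ≤ p := by
  have := c.hp.two_le; have := c.hp2; omega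

theorem twogroup_card_le {U : Subgroup G} (hU : IsPGroup 2 U) : Nat.card U ≤ p + 1 := by
  obtain ⟨Q, hQ⟩ := hU.exists_le_sylow
  exact (Subgroup.card_le_of_le hQ).trans (c.card_two Q).le

theorem exists_ne (Q : Sylow 2 G) (t : G) : ∃ v ∈ Q, v ≠ 1 ∧ v ≠ t := by
  by_contra hno
  push Not at hno
  have hsub : ((Q : Subgroup G) : Set G) ⊆ {1, t} := by
    intro u hu
    by_cases h1 : u = 1
    · exact Or.inl h1
    · exact Or.inr (hno u hu h1)
  have hnc := Set.ncard_le_ncard hsub (Set.toFinite _)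
  rw [← Nat.card_coe_set_eq] at hnc
  have h2 : ({1, t} : Set G).ncard ≤ 2 := (Set.ncard_insert_le _ _).trans (by simp)
  have h3 := c.card_two Q
  have := c.three_le
  change Nat.card (Q : Subgroup G) ≤ _ at hnc
  omega

theorem orbit (Q : Sylow 2 G) {x : G} (hx : IsPE p x) (hn : ∀ u ∈ Q, x * u * x⁻¹ ∈ Q) {w : G}
    (hw : w ∈ Q) (hm : ¬ Commute x w) {u : G} (hu : u ∈ Q) (hu1 : u ≠ 1) :
    ∃ i : ℕ, u = x ^ i * w * (x ^ i)⁻¹ :=
  (orbit_conj c.hp hx (U := (Q : Subgroup G)) hn hw hm).2 (c.card_two Q).le u hu hu1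

omit [Finite G] c in
theorem pow_normalizes (Q : Sylow 2 G) {x : G} (hn : ∀ u ∈ Q, x * u * x⁻¹ ∈ Q) (i : ℕ) :
    ∀ u ∈ Q, x ^ i * u * (x ^ i)⁻¹ ∈ Q := by
  induction i with
  | zero => intro u hu; simpa using hu
  | succ i ih =>
    intro u hu
    have := hn _ (ih u hu)
    convert this using 1
    rw [pow_succ']; group

theorem exists_conj_in (Q : Sylow 2 G) {t u : G} (ht : t ∈ Q) (ht1 : t ≠ 1) (hu : u ∈ Q)
    (hu1 : u ≠ 1) :
    ∃ x : G, IsPE p x ∧ (∀ v ∈ Q, x * v * x⁻¹ ∈ Q) ∧ x * t * x⁻¹ = u := by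
  obtain ⟨x, hx, hn, w, hw, hm⟩ := c.moving Q
  obtain ⟨i, hi⟩ := c.orbit Q hx hn hw hm ht ht1
  have hmt : ¬ Commute x t := by
    intro h
    refine hm ?_
    rw [hi, commute_iff_conj] at h
    rw [commute_iff_conj]
    have : x ^ i * (x * w * x⁻¹) * (x ^ i)⁻¹ = x * (x ^ i * w * (x ^ i)⁻¹) * x⁻¹ := by
      have e : x ^ i * x = x * x ^ i := (Commute.self_pow x i).symm.eq
      calc _ = (x ^ i * x) * w * (x ^ i * x)⁻¹ := by group
        _ = (x * x ^ i) * w * (x * x ^ i)⁻¹ := by rw [e]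
        _ = _ := by group
    rw [h] at this
    simpa using this
  obtain ⟨j, hj⟩ := c.orbit Q hx hn ht hmt hu hu1
  exact ⟨x ^ j, hx.pow j, pow_normalizes Q hn j, hj.symm⟩

theorem sq_one (Q : Sylow 2 G) {u : G} (hu : u ∈ Q) : u * u = 1 := by
  by_cases hu1 : u = 1
  · simp [hu1]
  have h2 : 2 ∣ Nat.card (Q : Subgroup G) := by
    rw [c.card_two Q]
    exact even_iff_two_dvd.1 (c.hp.odd_of_ne_two c.hp2).add_one
  obtain ⟨t, ht⟩ := exists_prime_orderOf_dvd_card' 2 h2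
  have hti : IsI (t : G) := by
    refine ⟨?_, ?_⟩
    · have := pow_orderOf_eq_one t
      rw [ht, pow_two] at this
      exact congrArg Subtype.val this
    · intro h
      rw [OneMemClass.coe_eq_one.1 h, orderOf_one] at ht
      omega
  obtain ⟨x, -, -, hx⟩ := c.exists_conj_in Q t.2 hti.2 hu hu1
  rw [← hx]; exact (hti.conj x).1

theorem isI_of_mem (Q : Sylow 2 G) {u : G} (hu : u ∈ Q) (hu1 : u ≠ 1) : IsI u :=
  ⟨c.sq_one Q hu, hu1⟩

theorem inv_of_mem (Q : Sylow 2 G) {u : G} (hu : u ∈ Q) : u⁻¹ = u :=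
  inv_eq_of_mul_eq_one_right (c.sq_one Q hu)

theorem comm_of_mem (Q : Sylow 2 G) {u v : G} (hu : u ∈ Q) (hv : v ∈ Q) : Commute u v := by
  have h := c.inv_of_mem Q (mul_mem hu hv)
  rw [mul_inv_rev, c.inv_of_mem Q hu, c.inv_of_mem Q hv] at h
  exact h.symm

theorem two_sq {g : G} (hg : IsPE 2 g) : g * g = 1 := by
  obtain ⟨Q, hQ⟩ := hg.zpowers_pGroup.exists_le_sylow
  exact c.sq_one Q (hQ (mem_zpowers g))

theorem exists_sylow_of_commute {t s : G} (ht : IsI t) (hs : IsI s) (hts : Commute t s) :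
    ∃ Q : Sylow 2 G, t ∈ Q ∧ s ∈ Q := by
  have hK : IsPGroup 2 (zpowers t ⊔ zpowers s : Subgroup G) := by
    refine sup_zpowers_isPGroup ht.isPE.zpowers_pGroup hs.isPE fun k hk => ?_
    rwa [(commute_of_mem_zpowers hk hts.symm).eq, mul_inv_cancel_right]
  obtain ⟨Q, hQ⟩ := hK.exists_le_sylow
  exact ⟨Q, hQ (mem_sup_left (mem_zpowers t)), hQ (mem_sup_right (mem_zpowers s))⟩

theorem exists_sylow {t : G} (ht : IsI t) : ∃ Q : Sylow 2 G, t ∈ Q := by
  obtain ⟨Q, hQ, -⟩ := c.exists_sylow_of_commute ht ht rfl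
  exact ⟨Q, hQ⟩

theorem one_class {s t : G} (hs : IsI s) (ht : IsI t) : ∃ g : G, g * s * g⁻¹ = t := by
  obtain ⟨Qs, hQs⟩ := c.exists_sylow hs
  obtain ⟨Qt, hQt⟩ := c.exists_sylow ht
  obtain ⟨g, rfl⟩ := MulAction.exists_smul_eq G Qs Qt
  obtain ⟨x, -, -, hx⟩ := c.exists_conj_in (g • Qs) (conj_mem_smul g hQs) (hs.conj g).2 hQt ht.2
  exact ⟨x * g, by rw [← hx]; group⟩

theorem centralizer_ne_top {z : G} (h : (IsPE p z ∧ z ≠ 1) ∨ IsI z) :
    centralizer ({z} : Set G) ≠ ⊤ := by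
  intro htop
  have hc : ∀ g : G, Commute g z := fun g =>
    (mem_centralizer_singleton_iff.1 (htop ▸ mem_top g : g ∈ centralizer ({z} : Set G)))
  rcases h with ⟨hz, hz1⟩ | hz
  · have hn : (zpowers z).Normal := ⟨fun k hk g => by
      rwa [(commute_of_mem_zpowers hk (hc g)).eq, mul_inv_cancel_right]⟩
    refine hz1 (zpowers_eq_bot.1 (c.core _ hn ?_))
    obtain ⟨k, hk⟩ := hz
    rw [Nat.card_zpowers]
    intro h2
    have := Nat.prime_two.dvd_of_dvd_pow (h2.trans (orderOf_dvd_of_pow_eq_one hk))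
    exact c.hp2 ((Nat.prime_dvd_prime_iff_eq Nat.prime_two c.hp).1 this).symm
  · obtain ⟨Q, hQ⟩ := c.exists_sylow hz
    obtain ⟨v, hv, hv1, hvz⟩ := c.exists_ne Q z
    obtain ⟨g, hg⟩ := c.one_class hz (c.isI_of_mem Q hv hv1)
    exact hvz (by rw [← hg, (hc g).eq, mul_inv_cancel_right])

theorem card_form {H : Subgroup G} (hH : H ≠ ⊤) (h2 : 2 ∣ Nat.card H) :
    ∃ i j, Nat.card H = 2 ^ i * p ^ j :=
  eq_pow_two_mul_pow c.hp c.hp2 Nat.card_pos.ne' (c.even H hH h2)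

theorem split {H : Subgroup G} (hH : H ≠ ⊤) (h2 : 2 ∣ Nat.card H) {g : G} (hg : g ∈ H) :
    ∃ a b : G, a * b = g ∧ a * a = 1 ∧ IsPE p b ∧ a ∈ zpowers g ∧ b ∈ zpowers g := by
  obtain ⟨i, j, hc⟩ := c.card_form hH h2
  have : g ^ (2 ^ i * p ^ j) = 1 := by
    rw [← hc]
    exact congrArg Subtype.val (pow_card_eq_one' (x := (⟨g, hg⟩ : H)))
  obtain ⟨a, b, hab, ha, hb, hag, hbg⟩ := exists_split
    (Nat.Coprime.pow i j ((Nat.coprime_primes Nat.prime_two c.hp).2 (Ne.symm c.hp2))) this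
  exact ⟨a, b, hab, c.two_sq ⟨i, ha⟩, ⟨j, hb⟩, hag, hbg⟩

/-- Burnside: if `p`-elements normalizing 2-subgroups of `H` centralize them, the `p`-elements
of `H` commute. -/
theorem pe_comm_of_control {H : Subgroup G} (hH : H ≠ ⊤) (h2 : 2 ∣ Nat.card H)
    (hU : ∀ U : Subgroup G, U ≤ H → IsPGroup 2 U → ∀ g ∈ H, IsPE p g →
      (∀ u ∈ U, g * u * g⁻¹ ∈ U) → ∀ u ∈ U, Commute g u)
    {g h : G} (hg : g ∈ H) (hh : h ∈ H) (hgp : IsPE p g) (hhp : IsPE p h) : Commute g h := by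
  have : Fact p.Prime := ⟨c.hp⟩
  let P : Sylow 2 H := default
  have hUH : (P : Subgroup H).map H.subtype ≤ H := map_subtype_le _
  have hUp : IsPGroup 2 ((P : Subgroup H).map H.subtype) := P.isPGroup'.map _
  have hnc : normalizer ((P : Subgroup H) : Set H) ≤ centralizer ((P : Subgroup H) : Set H) := by
    intro n hn
    obtain ⟨a, b, hab, ha, hb, han, hbn⟩ := c.split hH h2 n.2
    have hzn : ∀ x : G, x ∈ zpowers (n : G) → ∀ u ∈ (P : Subgroup H).map H.subtype,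
        x * u * x⁻¹ ∈ (P : Subgroup H).map H.subtype := by
      rintro _ ⟨k, rfl⟩ _ ⟨u, hu, rfl⟩
      exact ⟨_, conj_mem_of_normalizer ((normalizer _).zpow_mem hn k) hu, by simp⟩
    have haH : a ∈ H := (zpowers_le.2 n.2) han
    have hbH : b ∈ H := (zpowers_le.2 n.2) hbn
    have hbc := hU _ hUH hUp b hbH hb (hzn b hbn)
    have haP : (⟨a, haH⟩ : H) ∈ P := by
      refine mem_sylow_of_normalizes P ⟨1, Subtype.ext ?_⟩ fun k hk => ?_
      · simpa [pow_two] using ha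
      · obtain ⟨k', hk', he⟩ := hzn a han _ ⟨k, hk, rfl⟩
        have : k' = ⟨a, haH⟩ * k * ⟨a, haH⟩⁻¹ := Subtype.ext (by simpa using he)
        exact this ▸ hk'
    obtain ⟨Q, hQ⟩ := hUp.exists_le_sylow
    rw [mem_centralizer_iff]
    intro u hu
    apply Subtype.ext
    show (u : G) * n = n * u
    rw [← hab]
    have h1 : Commute (u : G) a := c.comm_of_mem Q (hQ ⟨u, hu, rfl⟩) (hQ ⟨_, haP, rfl⟩)
    exact (h1.mul_right (hbc _ ⟨u, hu, rfl⟩).symm).eq
  let φ := MonoidHom.transferSylow P hnc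
  have hcompl := MonoidHom.ker_transferSylow_isComplement' P hnc
  obtain ⟨i, j, hc⟩ := c.card_form hH h2
  have hodd : (Nat.card φ.ker).Coprime 2 := by
    rw [Nat.coprime_comm, Nat.prime_two.coprime_iff_not_dvd]
    rw [← hcompl.index_eq_card]
    exact P.not_dvd_index
  have hdvd : Nat.card φ.ker ∣ p ^ j :=
    (Nat.Coprime.pow_right i hodd).dvd_of_dvd_mul_left (hc ▸ card_subgroup_dvd_card _)
  obtain ⟨k, -, hk⟩ := (Nat.dvd_prime_pow c.hp).1 hdvd
  have hker : IsPGroup p φ.ker := IsPGroup.of_card hk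
  have hmem : ∀ x ∈ H, IsPE p x → x ∈ φ.ker.map H.subtype := by
    intro x hx hxp
    refine ⟨⟨x, hx⟩, ?_, rfl⟩
    obtain ⟨m, hm⟩ := hxp
    have h1 : IsPE p (φ ⟨x, hx⟩) :=
      ⟨m, by rw [← map_pow, show (⟨x, hx⟩ : H) ^ p ^ m = 1 from Subtype.ext hm, map_one]⟩
    obtain ⟨l, hl⟩ := P.isPGroup' (φ ⟨x, hx⟩)
    exact h1.eq_one_of_two c.hp c.hp2 ⟨l, hl⟩
  exact pgroup_comm c.hab (hker.map _) (hmem g hg hgp) (hmem h hh hhp)

theorem pe_centralizes {U : Subgroup G} (hU : IsPGroup 2 U) {g : G} (hg : IsPE p g)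
    (hn : ∀ u ∈ U, g * u * g⁻¹ ∈ U)
    (h : Nat.card U < p + 1 ∨ ∃ t ∈ U, t ≠ 1 ∧ Commute g t) : ∀ u ∈ U, Commute g u := by
  intro u hu
  by_contra hm
  obtain ⟨hge, horb⟩ := orbit_conj c.hp hg hn hu hm
  rcases h with h | ⟨t, ht, ht1, hgt⟩
  · omega
  · obtain ⟨i, hi⟩ := horb (c.twogroup_card_le hU) t ht ht1
    refine hm ?_
    have h2 : (g ^ i)⁻¹ * t * g ^ i = u := by rw [hi]; group
    have h3 : (g ^ i)⁻¹ * t * g ^ i = t := by
      rw [mul_assoc, ← (hgt.pow_left i).eq, inv_mul_cancel_left]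
    rw [h3] at h2
    exact h2 ▸ hgt

theorem comm_of_commute_inv {t : G} (ht : IsI t) {g h : G} (hg : IsPE p g) (hh : IsPE p h)
    (hgt : Commute g t) (hht : Commute h t) : Commute g h := by
  have htH : t ∈ centralizer ({t} : Set G) := mem_centralizer_singleton_iff.2 rfl
  refine c.pe_comm_of_control (c.centralizer_ne_top (Or.inr ht)) (ht.two_dvd htH)
    (fun U hU hUp x hx hxp hxn => ?_)
    (mem_centralizer_singleton_iff.2 hgt.eq) (mem_centralizer_singleton_iff.2 hht.eq) hg hh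
  refine c.pe_centralizes hUp hxp hxn ?_
  by_cases htU : t ∈ U
  · exact Or.inr ⟨t, htU, ht.2, mem_centralizer_singleton_iff.1 hx⟩
  · left
    have hK : IsPGroup 2 (U ⊔ zpowers t : Subgroup G) := by
      refine sup_zpowers_isPGroup hUp ht.isPE fun k hk => ?_
      have hkt : k * t = t * k := mem_centralizer_singleton_iff.1 (hU hk)
      rwa [← hkt, mul_inv_cancel_right]
    refine lt_of_lt_of_le (lt_of_le_of_ne (Subgroup.card_le_of_le le_sup_left) fun he => ?_)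
      (c.twogroup_card_le hK)
    exact htU ((Subgroup.eq_of_le_of_card_ge le_sup_left he.ge) ▸
      mem_sup_right (mem_zpowers t))

/-- An element inverted by an involution centralizes no Sylow 2-subgroup. -/
theorem card_lt_of_inverted {y s : G} (hy : IsPE p y) (hy1 : y ≠ 1) (hs : IsI s)
    (hsy : s * y * s⁻¹ = y⁻¹) {U : Subgroup G} (hU : IsPGroup 2 U)
    (hUy : ∀ u ∈ U, Commute u y) : Nat.card U < p + 1 := by
  refine lt_of_le_of_ne (c.twogroup_card_le hU) fun hcard => ?_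
  set C := centralizer ({y} : Set G) with hC
  have hsC : s ∉ C := by
    intro h
    have h' : Commute s y := mem_centralizer_singleton_iff.1 h
    rw [commute_iff_conj.1 h'] at hsy
    exact hy.inv_ne_self c.hp c.hp2 hy1 hsy.symm
  have hsn : ∀ k ∈ C, s * k * s⁻¹ ∈ C := by
    intro k hk
    have hk' : Commute k y := mem_centralizer_singleton_iff.1 hk
    have h := hk'.inv_right.map (MulAut.conj s)
    simp only [MulAut.conj_apply] at h
    have e : s * y⁻¹ * s⁻¹ = y := by rw [← conj_inv, hsy, inv_inv]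
    rw [e] at h
    exact mem_centralizer_singleton_iff.2 h.eq
  have hd : Disjoint C (zpowers s) := by
    rw [disjoint_def]
    intro x hx hxs
    obtain ⟨k, rfl⟩ := hxs
    rcases Int.even_or_odd k with ⟨l, rfl⟩ | ⟨l, rfl⟩
    · show s ^ (l + l) = 1
      rw [← two_mul, zpow_mul, show s ^ (2 : ℤ) = 1 by rw [zpow_two]; exact hs.1, one_zpow]
    · exfalso
      apply hsC
      have : s ^ (2 * l + 1) = s := by
        rw [zpow_add, zpow_mul, show s ^ (2 : ℤ) = 1 by rw [zpow_two]; exact hs.1, one_zpow,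
          one_mul, zpow_one]
      simpa only [this] using hx
  have hK := Cfsg.Lib.Coprime.card_sup_of_disjoint (zpowers_le.2 (mem_normalizer_of_conj hsn)) hd
  rw [Nat.card_zpowers, hs.orderOf_eq] at hK
  obtain ⟨n, hn⟩ := IsPGroup.iff_card.1 hU
  have hdvd : Nat.card U ∣ Nat.card C :=
    Subgroup.card_dvd_of_le fun u hu => mem_centralizer_singleton_iff.2 (hUy u hu).eq
  have : 2 ^ (n + 1) ∣ Nat.card (C ⊔ zpowers s : Subgroup G) := by
    rw [hK, pow_succ, ← hn]; exact Nat.mul_dvd_mul_right hdvd 2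
  obtain ⟨W, hW⟩ := Sylow.exists_subgroup_card_pow_prime 2 this
  have hle := c.twogroup_card_le (IsPGroup.of_card hW |>.map (C ⊔ zpowers s : Subgroup G).subtype)
  rw [card_map_of_injective (subtype_injective _), hW, pow_succ, ← hn, hcard] at hle
  omega

theorem comm_of_commute_inverted {y s : G} (hy : IsPE p y) (hy1 : y ≠ 1) (hs : IsI s)
    (hsy : s * y * s⁻¹ = y⁻¹) {g h : G} (hg : IsPE p g) (hh : IsPE p h)
    (hgy : Commute g y) (hhy : Commute h y) : Commute g h := by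
  have : Fact p.Prime := ⟨c.hp⟩
  set C := centralizer ({y} : Set G) with hC
  by_cases h2 : 2 ∣ Nat.card C
  · refine c.pe_comm_of_control (c.centralizer_ne_top (Or.inl ⟨hy, hy1⟩)) h2
      (fun U hU hUp x _ hxp hxn => c.pe_centralizes hUp hxp hxn (Or.inl ?_))
      (mem_centralizer_singleton_iff.2 hgy.eq) (mem_centralizer_singleton_iff.2 hhy.eq) hg hh
    exact c.card_lt_of_inverted hy hy1 hs hsy hUp fun u hu =>
      mem_centralizer_singleton_iff.1 (hU hu)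
  · have hyC : y ∈ C := mem_centralizer_singleton_iff.2 rfl
    have hsn : s ∈ normalizer (C : Set G) := mem_normalizer_of_conj fun k hk => by
      have h := (Commute.inv_right (mem_centralizer_singleton_iff.1 hk : Commute k y)).map
        (MulAut.conj s)
      simp only [MulAut.conj_apply] at h
      rw [← conj_inv, hsy, inv_inv] at h
      exact mem_centralizer_singleton_iff.2 h.eq
    have hK : C ⊔ zpowers s ≠ ⊤ := by
      intro htop
      have hn : C.Normal := normalizer_eq_top_iff.1 <| top_le_iff.1 <|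
        htop ▸ sup_le le_normalizer (zpowers_le.2 hsn)
      have := c.core C hn h2
      exact hy1 (by simpa [this] using hyC)
    have hpr := c.even _ hK (hs.two_dvd (mem_sup_right (mem_zpowers s)))
    obtain ⟨i, j, hc⟩ := eq_pow_two_mul_pow c.hp c.hp2 (n := Nat.card C) Nat.card_pos.ne'
      fun r hr hd => hpr r hr (hd.trans (Subgroup.card_dvd_of_le le_sup_left))
    have hi : i = 0 := by
      by_contra hi
      exact h2 (hc ▸ dvd_mul_of_dvd_left (dvd_pow_self 2 hi) _)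
    rw [hi, pow_zero, one_mul] at hc
    exact pgroup_comm c.hab (IsPGroup.of_card hc) (mem_centralizer_singleton_iff.2 hgy.eq)
      (mem_centralizer_singleton_iff.2 hhy.eq)

theorem exists_sylow_inverted {y s : G} (hy : IsPE p y) (hy1 : y ≠ 1) (hs : IsI s)
    (hsy : s * y * s⁻¹ = y⁻¹) :
    ∃ P : Sylow p G, y ∈ P ∧ (∀ g ∈ P, IsPE p g ∧ Commute g y) ∧
      ∀ g, IsPE p g → Commute g y → g ∈ P := by
  have : Fact p.Prime := ⟨c.hp⟩
  obtain ⟨P, hP⟩ := hy.zpowers_pGroup.exists_le_sylow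
  have hyP : y ∈ P := hP (mem_zpowers y)
  refine ⟨P, hyP, fun g hg => ⟨IsPE.of_mem P.isPGroup' hg, pgroup_comm c.hab P.isPGroup' hg hyP⟩,
    fun g hg hgy => mem_sylow_of_normalizes P hg fun k hk => ?_⟩
  rw [(c.comm_of_commute_inverted hy hy1 hs hsy hg (IsPE.of_mem P.isPGroup' hk) hgy
    (pgroup_comm c.hab P.isPGroup' hk hyP)).eq, mul_inv_cancel_right]
  exact hk

theorem isSolvable {H : Subgroup G} (hH : H ≠ ⊤) (h2 : 2 ∣ Nat.card H) : Group.IsSolvable H := by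
  obtain ⟨i, j, hc⟩ := c.card_form hH h2
  exact Cfsg.Agent.S0144.result 2 p i j Nat.prime_two c.hp hc

theorem dichotomy {H : Subgroup G} (hH : H ≠ ⊤) (h2 : 2 ∣ Nat.card H) :
    (∃ M : Subgroup G, M ≠ ⊥ ∧ IsPGroup 2 M ∧ ∀ h ∈ H, ∀ m ∈ M, h * m * h⁻¹ ∈ M) ∨
    (∃ M : Subgroup G, M ≤ H ∧ IsPGroup p M ∧ (∀ h ∈ H, ∀ m ∈ M, h * m * h⁻¹ ∈ M) ∧
      ∀ h ∈ H, (∀ m ∈ M, Commute h m) → h ∈ M) := by
  have : Fact p.Prime := ⟨c.hp⟩
  have := c.isSolvable hH h2
  have hnorm : ∀ N : Subgroup H, N.Normal → ∀ h ∈ H, ∀ m ∈ N.map H.subtype,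
      h * m * h⁻¹ ∈ N.map H.subtype := by
    rintro N hN h hh _ ⟨m, hm, rfl⟩
    exact ⟨_, hN.conj_mem m hm ⟨h, hh⟩, rfl⟩
  obtain ⟨i, j, hc⟩ := c.card_form hH h2
  by_cases hO : Cfsg.pPrimeCore p H = ⊥
  · refine Or.inr ⟨(Cfsg.pCore p H).map H.subtype, map_subtype_le _,
      (Cfsg.Lib.Core.pCore_isPGroup p H).map _, hnorm _ inferInstance, fun h hh hcm => ?_⟩
    refine ⟨⟨h, hh⟩, Cfsg.Lib.Core.centralizer_pCore_le_of_isPSolvable
      Cfsg.Lib.Core.isPSolvable_of_isSolvable hO ?_, rfl⟩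
    rw [mem_centralizer_iff]
    intro m hm
    exact Subtype.ext (hcm _ ⟨m, hm, rfl⟩).eq.symm
  · refine Or.inl ⟨(Cfsg.pPrimeCore p H).map H.subtype, ?_, ?_, hnorm _ inferInstance⟩
    · rwa [ne_eq, map_eq_bot_iff_of_injective _ (subtype_injective H)]
    · refine IsPGroup.map ?_ _
      have hdvd : Nat.card (Cfsg.pPrimeCore p H) ∣ 2 ^ i :=
        (Nat.Coprime.pow_right j (Cfsg.Lib.Core.pPrimeCore_coprime p H)).dvd_of_dvd_mul_right
          (hc ▸ card_subgroup_dvd_card _)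
      obtain ⟨k, -, hk⟩ := (Nat.dvd_prime_pow Nat.prime_two).1 hdvd
      exact IsPGroup.of_card hk

theorem two_normal_eq (Q : Sylow 2 G) {x : G} (hx : IsPE p x) (hn : ∀ u ∈ Q, x * u * x⁻¹ ∈ Q)
    (hm : ∃ u ∈ Q, ¬ Commute x u) {M : Subgroup G} (hM1 : M ≠ ⊥) (hM : IsPGroup 2 M)
    (hQM : ∀ u ∈ Q, ∀ m ∈ M, u * m * u⁻¹ ∈ M) (hxM : ∀ m ∈ M, x * m * x⁻¹ ∈ M) :
    M = (Q : Subgroup G) := by
  have hK : IsPGroup 2 (M ⊔ (Q : Subgroup G) : Subgroup G) :=
    hM.to_sup_of_normal_left' Q.isPGroup' fun u hu => mem_normalizer_of_conj (hQM u hu)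
  have hle : M ≤ (Q : Subgroup G) := le_sup_left.trans (Q.is_maximal' hK le_sup_right).le
  refine le_antisymm hle fun u hu => ?_
  obtain ⟨w0, hw0, hw1⟩ := M.bot_or_exists_ne_one.resolve_left hM1
  by_cases hu1 : u = 1
  · exact hu1 ▸ one_mem M
  have hmw : ¬ Commute x w0 := by
    intro h
    obtain ⟨v, hv, hxv⟩ := hm
    exact hxv (c.pe_centralizes Q.isPGroup' hx hn (Or.inr ⟨w0, hle hw0, hw1, h⟩) v hv)
  obtain ⟨i, rfl⟩ := c.orbit Q hx hn (hle hw0) hmw hu hu1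
  clear hu hu1
  induction i with
  | zero => simpa using hw0
  | succ i ih =>
    have := hxM _ ih
    convert this using 1
    rw [pow_succ']; group

end

end Ctx

end Cfsg.Lib.Struct.MixedTwo
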