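import Cfsg.Agent.Lib.Struct.MixedTwoRoot
import Cfsg.Agent.Lib.Struct.FriendshipMod

/-!
The exceptional configuration `Ctx` is contradictory: with a root by the friendship argument,
without roots by counting involutions.
-/

set_option autoImplicit false
set_option linter.unusedSectionVars false

namespace Cfsg.Lib.Struct.MixedTwo

open Subgroup

variable {G : Type*} [Group G] {p : ℕ}

namespace Ctx

section
variable [Finite G] (c : Ctx G p)
include c

theorem inverts_prod {t s : G} (ht : IsI t) (hs : IsI s) : t * (t * s) * t⁻¹ = (t * s)⁻¹ := by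
  rw [ht.inv_eq, mul_inv_rev, hs.inv_eq, ht.inv_eq, ← mul_assoc, ht.1, one_mul]

theorem inverts_prod' {t s : G} (ht : IsI t) (hs : IsI s) : s * (t * s) * s⁻¹ = (t * s)⁻¹ := by
  rw [mul_inv_rev, hs.inv_eq, ht.inv_eq]
  rw [mul_assoc, mul_assoc, hs.1, mul_one]

theorem dihedral {t s : G} (ht : IsI t) (hs : IsI s) :
    ∃ a b : G, a * b = t * s ∧ a * a = 1 ∧ IsPE p b ∧ a ∈ zpowers (t * s) ∧ b ∈ zpowers (t * s) := by
  set y := t * s with hy
  set D := zpowers y ⊔ zpowers t with hD
  have htn : t ∈ normalizer (zpowers y : Set G) := mem_normalizer_of_conj fun k hk => by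
    rw [inv_of_mem_zpowers hk (c.inverts_prod ht hs)]
    exact inv_mem hk
  have hDtop : D ≠ ⊤ := by
    intro htop
    obtain ⟨r, hr, hr2, hrp, hrG⟩ := c.third
    have hn : ∀ w ∈ zpowers y, (zpowers w).Normal := by
      intro w hw
      refine normalizer_eq_top_iff.1 (top_le_iff.1 (htop ▸ sup_le (zpowers_le.2 ?_) (zpowers_le.2 ?_)))
      · refine mem_normalizer_of_conj fun k hk => ?_
        rw [(commute_of_mem_zpowers hk (commute_of_mem_zpowers hw rfl)).eq, mul_inv_cancel_right]
        exact hk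
      · refine mem_normalizer_of_conj fun k hk => ?_
        rw [inv_of_mem_zpowers hk (inv_of_mem_zpowers hw (c.inverts_prod ht hs))]
        exact inv_mem hk
    obtain ⟨i, m, hm, hc⟩ := Nat.exists_eq_two_pow_mul_odd (orderOf_pos y).ne'
    have hy2 : y ^ 2 ^ i = 1 := by
      have := hn (y ^ 2 ^ i) (pow_mem (mem_zpowers y) _)
      refine zpowers_eq_bot.1 (c.core _ this ?_)
      rw [Nat.card_zpowers]
      intro h2
      have h3 : orderOf (y ^ 2 ^ i) ∣ m :=
        orderOf_dvd_of_pow_eq_one (by rw [← pow_mul, ← hc, pow_orderOf_eq_one])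
      exact hm.not_two_dvd_nat (h2.trans h3)
    have hd : Disjoint (zpowers y) (zpowers t) ∨ t ∈ zpowers y := by
      by_cases h : t ∈ zpowers y
      · exact Or.inr h
      · left
        rw [disjoint_def]
        intro x hx hxt
        obtain ⟨k, rfl⟩ := hxt
        rcases Int.even_or_odd k with ⟨l, rfl⟩ | ⟨l, rfl⟩
        · show t ^ (l + l) = 1
          rw [← two_mul, zpow_mul, show t ^ (2 : ℤ) = 1 by rw [zpow_two]; exact ht.1, one_zpow]
        · exfalso
          apply h
          have : t ^ (2 * l + 1) = t := by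
            rw [zpow_add, zpow_mul, show t ^ (2 : ℤ) = 1 by rw [zpow_two]; exact ht.1, one_zpow,
              one_mul, zpow_one]
          simpa only [this] using hx
    have h2G : IsPGroup 2 (zpowers y ⊔ zpowers t : Subgroup G) :=
      (IsPE.zpowers_pGroup (⟨i, hy2⟩ : IsPE 2 y)).to_sup_of_normal_left' ht.isPE.zpowers_pGroup
        (zpowers_le.2 htn)
    obtain ⟨n, hn'⟩ := IsPGroup.iff_card.1 h2G
    rw [← hD, htop, card_top] at hn'
    exact hr2 ((Nat.prime_dvd_prime_iff_eq hr Nat.prime_two).1 (hr.dvd_of_dvd_pow (hn' ▸ hrG)))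
  exact c.split hDtop (ht.two_dvd (mem_sup_right (mem_zpowers t)))
    (mem_sup_left (mem_zpowers y))

theorem false_of_root (Q : Sylow 2 G) {y t v : G} (hR : Root p Q y t v) : False := by
  classical
  have : Fact p.Prime := ⟨c.hp⟩
  have hp3 : p = 3 := by
    by_contra h
    exact c.noRoots_of_large h Q y t v hR
  obtain ⟨hPex, hZ⟩ := c.root_global Q hR
  let V := {s : G // IsI s}
  have : Nonempty V := ⟨⟨t, c.isI_of_mem Q hR.2.2.1.1 hR.2.2.1.2.1⟩⟩
  -- a `p`-element commuting with an involution is inverted by its other neighbours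
  have hinv : ∀ a b w : G, IsI a → IsI b → a ≠ b → Commute a b → IsPE p w → Commute w a →
      b * w * b⁻¹ = w⁻¹ := by
    intro a b w ha hb hab hc hw hwa
    have h1 : Commute (b * w * b⁻¹) a := by
      have := hwa.map (MulAut.conj b)
      simpa [MulAut.conj_apply, ← hc.eq] using this
    have h2 := c.comm_of_commute_inv ha hw (hw.conj b) hwa h1
    have h3 : w * (b * w * b⁻¹) = 1 := by
      refine hZ a b _ ha hb hab hc (hw.mul h2 (hw.conj b)) (hwa.mul_left h1) (Commute.symm ?_)
      rw [commute_iff_conj]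
      calc b * (w * (b * w * b⁻¹)) * b⁻¹ = (b * w * b⁻¹) * (b * b * w * (b * b)⁻¹) := by group
        _ = _ := by rw [hb.1]; simp [h2.eq]
    exact eq_inv_of_mul_eq_one_right h3
  -- the order of the Sylow `p`-subgroups
  obtain ⟨P₀, -⟩ := hPex t (c.isI_of_mem Q hR.2.2.1.1 hR.2.2.1.2.1)
  have hsame : ∀ P : Sylow p G, Nat.card P = Nat.card P₀ := fun P => by
    rw [P.card_eq_multiplicity, P₀.card_eq_multiplicity]
  have hP3 : 3 ≤ Nat.card P₀ := by
    rw [P₀.card_eq_multiplicity, ← hp3]
    exact Nat.le_self_pow (c.hp.factorization_pos_of_dvd Nat.card_pos.ne' c.hpG).ne' p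
  have hdeg : ∀ a : V, {u : V | Commute (a : G) u ∧ (a : G) ≠ u}.ncard = 2 * Nat.card P₀ := by
    rintro ⟨a, ha⟩
    obtain ⟨P, hP⟩ := hPex a ha
    obtain ⟨Qa, haQ⟩ := c.exists_sylow ha
    obtain ⟨b, hbQ, hb1, hba⟩ := c.exists_ne Qa a
    have hab : Commute a b := c.comm_of_mem Qa haQ hbQ
    have hbi : IsI b := c.isI_of_mem Qa hbQ hb1
    have hPE : ∀ w ∈ P, IsPE p w := fun w hw => IsPE.of_mem P.isPGroup' hw
    have hbw : ∀ w ∈ P, b * w * b⁻¹ = w⁻¹ := fun w hw =>
      hinv a b w ha hbi (Ne.symm hba) hab (hPE w hw) (hP w hw)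
    have hsqb : ∀ w ∈ P, (w * b) * (w * b) = 1 := fun w hw => by
      calc w * b * (w * b) = w * (b * w * b⁻¹) * (b * b) := by group
        _ = 1 := by rw [hbw w hw, hbi.1, mul_one, mul_inv_cancel]
    let e : ↥(P : Subgroup G) × Bool → G := fun x => (if x.2 then a else 1) * ((x.1 : G) * b)
    have he : ∀ x, IsI (e x) ∧ Commute a (e x) ∧ a ≠ e x := by
      rintro ⟨⟨w, hw⟩, ε⟩
      have hwab : Commute a (w * b) := (hP w hw).symm.mul_right hab
      have hne : ∀ u : G, u = 1 ∨ u = a → u * (w * b) ≠ 1 ∧ u * (w * b) ≠ a := by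
        intro u hu
        have key : ∀ z : G, z = 1 ∨ z = a → w * b ≠ z := by
          intro z hz h
          have hwb : w = z * b := by rw [← h, mul_assoc, hbi.1, mul_one]
          have hzQ : z ∈ Qa := by rcases hz with rfl | rfl; exacts [one_mem _, haQ]
          have hw1 := (hPE w hw).eq_one_of_two c.hp c.hp2
            (IsPE.of_mem Qa.isPGroup' (hwb ▸ mul_mem hzQ hbQ))
          rw [hw1, one_mul] at h
          rcases hz with rfl | rfl
          exacts [hb1 h, hba h]
        rcases hu with rfl | rfl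
        · rw [one_mul]; exact ⟨key 1 (Or.inl rfl), key a (Or.inr rfl)⟩
        · refine ⟨fun h => key u (Or.inr rfl) ?_, fun h => key 1 (Or.inl rfl) (mul_eq_left.1 h)⟩
          rw [eq_inv_of_mul_eq_one_right h, ha.inv_eq]
      cases ε
      · obtain ⟨h1, h2⟩ := hne 1 (Or.inl rfl)
        rw [one_mul] at h1 h2
        simp only [e, Bool.false_eq_true, if_false, one_mul]
        exact ⟨⟨hsqb w hw, h1⟩, hwab, h2.symm⟩
      · obtain ⟨h1, h2⟩ := hne a (Or.inr rfl)
        simp only [e, if_true]
        refine ⟨⟨?_, h1⟩, (Commute.refl a).mul_right hwab, h2.symm⟩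
        calc a * (w * b) * (a * (w * b)) = a * ((w * b) * a) * (w * b) := by group
          _ = a * (a * (w * b)) * (w * b) := by rw [hwab.eq]
          _ = (a * a) * ((w * b) * (w * b)) := by group
          _ = 1 := by rw [ha.1, hsqb w hw, one_mul]
    have key : Nat.card (↥(P : Subgroup G) × Bool) =
        Nat.card {u : V // Commute a u ∧ a ≠ (u : G)} := by
      refine Nat.card_congr (Equiv.ofBijective
        (fun x => ⟨⟨e x, (he x).1⟩, (he x).2⟩) ⟨?_, ?_⟩)
      · intro x x' h
        have h' : e x = e x' := congrArg (fun u : {u : V // _} => ((u : V) : G)) h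
        obtain ⟨⟨w, hw⟩, ε⟩ := x
        obtain ⟨⟨w', hw'⟩, ε'⟩ := x'
        simp only [e] at h'
        have hcancel : ∀ (u u' : G), u * (w * b) = u' * (w' * b) → u⁻¹ * u' = w * w'⁻¹ := by
          intro u u' h
          rw [← mul_assoc, ← mul_assoc] at h
          have h := mul_right_cancel h
          rw [eq_mul_inv_iff_mul_eq, mul_assoc, ← h, inv_mul_cancel_left]
        have h'' := hcancel _ _ h'
        have hmem : (if ε then a else 1 : G)⁻¹ * (if ε' then a else 1) ∈ Qa := by
          refine mul_mem (inv_mem ?_) ?_ <;> split_ifs <;> first | exact haQ | exact one_mem _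
        have h1 := (hPE _ (mul_mem hw (inv_mem hw'))).eq_one_of_two c.hp c.hp2
          (IsPE.of_mem Qa.isPGroup' (h'' ▸ hmem))
        rw [mul_inv_eq_one] at h1
        subst h1
        rw [mul_inv_cancel, inv_mul_eq_one] at h''
        refine Prod.ext rfl ?_
        cases ε <;> cases ε' <;> simp_all [ha.2.symm, ha.2]
      · rintro ⟨⟨u, hu⟩, hau, hne⟩
        have hcu : ∀ w ∈ P, Commute (u * b) w := fun w hw => by
          rw [commute_iff_conj]
          calc u * b * w * (u * b)⁻¹ = u * (b * w * b⁻¹) * u⁻¹ := by group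
            _ = w := by rw [hbw w hw, ← conj_inv, hinv a u w ha hu hne hau (hPE w hw) (hP w hw),
              inv_inv]
        have hca : Commute (u * b) a := (hau.mul_right hab).symm
        obtain ⟨g1, g2, hg, hg1, hg2, hm1, hm2⟩ := c.split (H := centralizer ({a} : Set G))
          (c.centralizer_ne_top (Or.inr ha)) (ha.two_dvd (mem_centralizer_singleton_iff.2 rfl))
          (mem_centralizer_singleton_iff.2 hca.eq)
        have hg2P : g2 ∈ P := mem_sylow_of_normalizes P hg2 fun k hk => by
          rw [← (commute_of_mem_zpowers hm2 (hcu k hk).symm).eq, mul_inv_cancel_right]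
          exact hk
        have hg1a : g1 = 1 ∨ g1 = a := by
          by_contra hno
          push Not at hno
          obtain ⟨w, hwP, hw1⟩ := (P : Subgroup G).bot_or_exists_ne_one.resolve_left fun hb => by
            have := hsame P
            rw [hb] at this
            simp at this
            omega
          exact hw1 (hZ a g1 w ha ⟨hg1, hno.1⟩ hno.2.symm
            (commute_of_mem_zpowers hm1 hca.symm) (hPE w hwP) (hP w hwP)
            (commute_of_mem_zpowers hm1 (hcu w hwP).symm))
        have hu' : u = g1 * (g2 * b) := by rw [← mul_assoc, hg, mul_assoc, hbi.1, mul_one]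
        rcases hg1a with rfl | rfl
        · exact ⟨⟨⟨g2, hg2P⟩, false⟩, Subtype.ext (Subtype.ext (by simp [e, hu']))⟩
        · exact ⟨⟨⟨g2, hg2P⟩, true⟩, Subtype.ext (Subtype.ext (by simp [e, hu']))⟩
    rw [← Nat.card_coe_set_eq]
    refine key.symm.trans ?_
    rw [Nat.card_prod, hsame P, Nat.card_eq_fintype_card (α := Bool), Fintype.card_bool, mul_comm]
  refine Friendship.no_regular (V := V) (fun a b => Commute (a : G) b ∧ (a : G) ≠ b)
    (fun a b h => ⟨h.1.symm, h.2.symm⟩) (fun a h => h.2 rfl) ?_ hdeg (by omega)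
  rintro ⟨a, ha⟩ ⟨b, hb⟩ hab
  have hab : a ≠ b := fun h => hab (Subtype.ext h)
  by_cases hc : Commute a b
  · have hne : a * b ≠ 1 := fun h => hab (by rw [eq_inv_of_mul_eq_one_left h, hb.inv_eq])
    have habI : IsI (a * b) := by
      refine ⟨?_, hne⟩
      calc a * b * (a * b) = a * (b * a) * b := by group
        _ = a * (a * b) * b := by rw [hc.eq]
        _ = (a * a) * (b * b) := by group
        _ = 1 := by rw [ha.1, hb.1, one_mul]
    refine ⟨⟨a * b, habI⟩, ⟨⟨(Commute.refl a).mul_right hc, fun h => hb.2 (mul_eq_left.1 h.symm)⟩,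
      ⟨hc.symm.mul_right (Commute.refl b), fun h => ha.2 (mul_eq_right.1 h.symm)⟩⟩, ?_⟩
    rintro ⟨u, hu⟩ ⟨⟨hau, hau'⟩, hbu, hbu'⟩
    refine Subtype.ext ?_
    obtain ⟨Q', haQ, hbQ⟩ := c.exists_sylow_of_commute ha hb hc
    have hsub : ({1, a, b, a * b} : Set G) ⊆ ((Q' : Subgroup G) : Set G) := by
      intro x hx
      simp only [Set.mem_insert_iff, Set.mem_singleton_iff] at hx
      rcases hx with rfl | rfl | rfl | rfl
      exacts [one_mem _, haQ, hbQ, mul_mem haQ hbQ]
    have h4 : ({1, a, b, a * b} : Set G).ncard = 4 := by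
      have e2 : a * b ≠ a := fun h => hb.2 (mul_eq_left.1 h)
      have e3 : a * b ≠ b := fun h => ha.2 (mul_eq_right.1 h)
      rw [Set.ncard_insert_of_notMem, Set.ncard_insert_of_notMem, Set.ncard_insert_of_notMem,
        Set.ncard_singleton] <;>
        simp [ha.2.symm, hb.2.symm, hab, hne.symm, e2.symm, e3.symm]
    have heq := Set.eq_of_subset_of_ncard_le hsub (by
      rw [h4, ← Nat.card_coe_set_eq]
      exact (c.card_two _).le.trans (by omega)) (Set.toFinite _)
    have huQ : u ∈ Q' := by
      refine mem_sylow_of_normalizes Q' hu.isPE fun k hk => ?_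
      suffices Commute u k by rw [this.eq, mul_inv_cancel_right]; exact hk
      have : k ∈ ({1, a, b, a * b} : Set G) := by rw [heq]; exact hk
      simp only [Set.mem_insert_iff, Set.mem_singleton_iff] at this
      rcases this with rfl | rfl | rfl | rfl
      exacts [Commute.one_right u, hau.symm, hbu.symm, hau.symm.mul_right hbu.symm]
    have : u ∈ ({1, a, b, a * b} : Set G) := by rw [heq]; exact huQ
    simp only [Set.mem_insert_iff, Set.mem_singleton_iff] at this
    rcases this with h | h | h | h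
    exacts [absurd h hu.2, absurd h.symm hau', absurd h.symm hbu', h]
  · obtain ⟨g, y', hgy, hg, hy', hgm, hym⟩ := c.dihedral ha hb
    have hy1 : y' ≠ 1 := by
      intro h
      rw [h, mul_one] at hgy
      rw [hgy] at hg
      exact hc (by
        have := eq_inv_of_mul_eq_one_left hg
        rwa [mul_inv_rev, ha.inv_eq, hb.inv_eq] at this)
    have hay := inv_of_mem_zpowers hym (c.inverts_prod ha hb)
    have hby := inv_of_mem_zpowers hym (c.inverts_prod' ha hb)
    obtain ⟨P, hyP, hP, hPmax⟩ := c.exists_sylow_inverted hy' hy1 ha hay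
    obtain ⟨w, hw⟩ : ∃ w : G, IsI w ∧ Commute y' w := by
      obtain ⟨P', hP'⟩ := hPex a ha
      obtain ⟨g, rfl⟩ := MulAction.exists_smul_eq G P' P
      obtain ⟨k, hk, hky⟩ := hyP
      refine ⟨g * a * g⁻¹, ha.conj g, ?_⟩
      rw [← hky]
      have := (hP' k hk).map (MulAut.conj g)
      simpa [MulAut.conj_apply, MulAut.smul_def] using this
    obtain ⟨hw, hyw⟩ := hw
    have huniq : ∀ u u' : G, IsI u → IsI u' → Commute y' u → Commute y' u' → u = u' := by
      intro u u' hu hu' hyu hyu'
      have hcent : ∀ z, IsI z → Commute y' z → ∀ k ∈ P, Commute k z := by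
        intro z hz hyz k hk
        obtain ⟨P', hP'⟩ := hPex z hz
        have hyP' : y' ∈ P' := mem_sylow_of_normalizes P' hy' fun m hm => by
          rw [(c.comm_of_commute_inv hz hy' (IsPE.of_mem P'.isPGroup' hm) hyz (hP' m hm)).eq,
            mul_inv_cancel_right]
          exact hm
        have hle : (P' : Subgroup G) ≤ P := fun m hm =>
          hPmax m (IsPE.of_mem P'.isPGroup' hm) (pgroup_comm c.hab P'.isPGroup' hm hyP')
        have : (P : Subgroup G) = P' := P'.is_maximal' P.isPGroup' hle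
        exact hP' k (show k ∈ (P' : Subgroup G) from this ▸ hk)
      by_contra hne
      obtain ⟨g1, g2, hg, hg1, hg2, hm1, hm2⟩ := c.split (H := centralizer ({y'} : Set G))
        (c.centralizer_ne_top (Or.inl ⟨hy', hy1⟩))
        (hu.two_dvd (mem_centralizer_singleton_iff.2 hyu.eq.symm))
        (mem_centralizer_singleton_iff.2 ((hyu.mul_right hyu').symm.eq))
      have hg2P : g2 ∈ P := hPmax g2 hg2 (commute_of_mem_zpowers hm2 (hyu.mul_right hyu')).symm
      have hinv2 := inv_of_mem_zpowers hm2 (c.inverts_prod hu hu')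
      rw [commute_iff_conj.1 (hcent u hu hyu g2 hg2P).symm] at hinv2
      have hg21 : g2 = 1 := by_contra fun h => hg2.inv_ne_self c.hp c.hp2 h hinv2.symm
      rw [hg21, mul_one] at hg
      rw [hg] at hg1
      have hcm : Commute u u' := by
        have := eq_inv_of_mul_eq_one_left hg1
        rwa [mul_inv_rev, hu.inv_eq, hu'.inv_eq] at this
      exact hy1 (hZ u u' y' hu hu' hne hcm hy' hyu hyu')
    have hfix : ∀ z, IsI z → z * y' * z⁻¹ = y'⁻¹ → Commute z w := by
      intro z hz hzy
      rw [commute_iff_conj]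
      refine huniq _ _ (hw.conj z) hw ?_ hyw
      have := hyw.inv_left.map (MulAut.conj z)
      simp only [MulAut.conj_apply] at this
      rwa [← conj_inv, hzy, inv_inv] at this
    refine ⟨⟨w, hw⟩, ⟨⟨hfix a ha hay, ?_⟩, hfix b hb hby, ?_⟩, ?_⟩
    · show a ≠ w
      rintro rfl
      rw [commute_iff_conj.1 hyw.symm] at hay
      exact hy'.inv_ne_self c.hp c.hp2 hy1 hay.symm
    · show b ≠ w
      rintro rfl
      rw [commute_iff_conj.1 hyw.symm] at hby
      exact hy'.inv_ne_self c.hp c.hp2 hy1 hby.symm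
    · rintro ⟨u, hu⟩ ⟨⟨hau, -⟩, hbu, -⟩
      exact Subtype.ext (huniq u w hu hw
        (commute_of_mem_zpowers hym (hau.mul_left hbu).symm).symm hyw)

end

end Ctx

end Cfsg.Lib.Struct.MixedTwo
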