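import Cfsg.Agent.Lib.Struct.MixedTwoCtx

/-!
Roots: `p`-elements fixed by one involution of a Sylow 2-subgroup and inverted by another, with
each element fixing or inverting them.
-/

set_option autoImplicit false
set_option linter.unusedSectionVars false

namespace Cfsg.Lib.Struct.MixedTwo

open Subgroup

variable {G : Type*} [Group G] {p : ℕ}

/-- A root of the 2-subgroup `Q`. -/
def Root (p : ℕ) (Q : Sylow 2 G) (y t v : G) : Prop :=
  IsPE p y ∧ y ≠ 1 ∧ (t ∈ Q ∧ t ≠ 1 ∧ Commute t y) ∧ (v ∈ Q ∧ v * y * v⁻¹ = y⁻¹) ∧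
    ∀ u ∈ Q, Commute u y ∨ u * y * u⁻¹ = y⁻¹

/-- No Sylow 2-subgroup has a root. -/
def NoRoots (G : Type*) [Group G] (p : ℕ) : Prop := ∀ (Q : Sylow 2 G) (y t v : G), ¬ Root p Q y t v

namespace Ctx

section
variable [Finite G] (c : Ctx G p)
include c

theorem inverter_isI (Q : Sylow 2 G) {y v : G} (hy : IsPE p y) (hy1 : y ≠ 1) (hv : v ∈ Q)
    (hvy : v * y * v⁻¹ = y⁻¹) : IsI v := by
  refine c.isI_of_mem Q hv fun h => hy.inv_ne_self c.hp c.hp2 hy1 ?_
  rw [← hvy, h]; simp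

theorem conj_conj_self (Q : Sylow 2 G) {u : G} (hu : u ∈ Q) (y : G) :
    u * (u * y * u⁻¹) * u⁻¹ = y := by
  have h := c.inv_of_mem Q hu
  rw [h]
  calc u * (u * y * u) * u = (u * u) * y * (u * u) := by group
    _ = y := by rw [c.sq_one Q hu]; group

theorem conj_conj_comm (Q : Sylow 2 G) {u w : G} (hu : u ∈ Q) (hw : w ∈ Q) (y : G) :
    w * (u * y * u⁻¹) * w⁻¹ = u * (w * y * w⁻¹) * u⁻¹ := by
  calc w * (u * y * u⁻¹) * w⁻¹ = (w * u) * y * (w * u)⁻¹ := by group
    _ = (u * w) * y * (u * w)⁻¹ := by rw [(c.comm_of_mem Q hu hw).eq]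
    _ = _ := by group

theorem commute_conj (Q : Sylow 2 G) {u t y : G} (hu : u ∈ Q) (ht : t ∈ Q) (h : Commute t y) :
    Commute t (u * y * u⁻¹) := by
  rw [commute_iff_conj, c.conj_conj_comm Q hu ht, commute_iff_conj.1 h]

theorem root_exists (Q : Sylow 2 G) {y t v : G} (hy : IsPE p y) (ht : t ∈ Q) (ht1 : t ≠ 1)
    (hty : Commute t y) (hv : v ∈ Q) (hvy : ¬ Commute v y) (M : Subgroup G) (hyM : y ∈ M)
    (hM : ∀ u ∈ Q, ∀ m ∈ M, u * m * u⁻¹ ∈ M) : ∃ r ∈ M, Root p Q r t v := by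
  classical
  have hti : IsI t := c.isI_of_mem Q ht ht1
  suffices hS : ∀ S : Finset G, (∀ u ∈ S, u ∈ Q) → ∃ r ∈ M, IsPE p r ∧ r ≠ 1 ∧ Commute t r ∧
      v * r * v⁻¹ = r⁻¹ ∧ ∀ u ∈ S, Commute u r ∨ u * r * u⁻¹ = r⁻¹ by
    obtain ⟨r, hrM, h1, h2, h3, h4, h5⟩ := hS ((Q : Subgroup G) : Set G).toFinite.toFinset
      fun u hu => by simpa using hu
    exact ⟨r, hrM, h1, h2, ⟨ht, ht1, h3⟩, ⟨hv, h4⟩, fun u hu => h5 u (by simpa using hu)⟩
  intro S
  induction S using Finset.induction_on with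
  | empty =>
    intro _
    have hz : IsPE p (v * y * v⁻¹) := hy.conj v
    have hzt := c.commute_conj Q hv ht hty
    refine ⟨y * (v * y * v⁻¹)⁻¹, mul_mem hyM (inv_mem (hM v hv y hyM)),
      hy.mul (c.comm_of_commute_inv hti hy hz hty.symm hzt.symm).inv_right hz.inv,
      fun h => hvy (commute_iff_conj.2 (mul_inv_eq_one.1 h).symm),
      hty.mul_right hzt.inv_right, ?_, by simp⟩
    calc v * (y * (v * y * v⁻¹)⁻¹) * v⁻¹
        = (v * y * v⁻¹) * (v * (v * y * v⁻¹) * v⁻¹)⁻¹ := by group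
      _ = _ := by rw [c.conj_conj_self Q hv, mul_inv_rev, inv_inv]
  | @insert u S _ ih =>
    intro hS
    have hu : u ∈ Q := hS u (Finset.mem_insert_self u S)
    obtain ⟨r, hrM, hr, hr1, htr, hvr, hall⟩ := ih fun w hw => hS w (Finset.mem_insert_of_mem hw)
    have hz : IsPE p (u * r * u⁻¹) := hr.conj u
    have hzt := c.commute_conj Q hu ht htr
    have hrz := c.comm_of_commute_inv hti hr hz htr.symm hzt.symm
    by_cases h1 : r * (u * r * u⁻¹) = 1
    · refine ⟨r, hrM, hr, hr1, htr, hvr, fun w hw => ?_⟩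
      rcases Finset.mem_insert.1 hw with rfl | hw
      · exact Or.inr (eq_inv_of_mul_eq_one_right h1)
      · exact hall w hw
    · refine ⟨r * (u * r * u⁻¹), mul_mem hrM (hM u hu r hrM), hr.mul hrz hz, h1,
        htr.mul_right hzt, ?_, fun w hw => ?_⟩
      · calc v * (r * (u * r * u⁻¹)) * v⁻¹
            = (v * r * v⁻¹) * (v * (u * r * u⁻¹) * v⁻¹) := by group
          _ = r⁻¹ * (u * r * u⁻¹)⁻¹ := by rw [c.conj_conj_comm Q hu hv, hvr, ← conj_inv]
          _ = _ := by rw [← mul_inv_rev, hrz.eq]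
      · rcases Finset.mem_insert.1 hw with rfl | hw
        · left
          rw [commute_iff_conj]
          calc w * (r * (w * r * w⁻¹)) * w⁻¹ = (w * r * w⁻¹) * (w * (w * r * w⁻¹) * w⁻¹) := by group
            _ = _ := by rw [c.conj_conj_self Q hu, hrz.eq]
        · have hwQ := hS w (Finset.mem_insert_of_mem hw)
          rcases hall w hw with h | h
          · exact Or.inl (h.mul_right (c.commute_conj Q hu hwQ h))
          · right
            calc w * (r * (u * r * u⁻¹)) * w⁻¹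
                = (w * r * w⁻¹) * (w * (u * r * u⁻¹) * w⁻¹) := by group
              _ = r⁻¹ * (u * r * u⁻¹)⁻¹ := by rw [c.conj_conj_comm Q hu hwQ, h, ← conj_inv]
              _ = _ := by rw [← mul_inv_rev, hrz.eq]

theorem x_comm_centralized (Q : Sylow 2 G) {x z : G} (hx : IsPE p x)
    (hn : ∀ u ∈ Q, x * u * x⁻¹ ∈ Q) (hz : IsPE p z) (hzQ : ∀ u ∈ Q, Commute z u) :
    Commute x z := by
  have : Fact p.Prime := ⟨c.hp⟩
  obtain ⟨t, ht, ht1, -⟩ := c.exists_ne Q 1
  have hti := c.isI_of_mem Q ht ht1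
  let Z : Subgroup G :=
    { carrier := {g | IsPE p g ∧ ∀ u ∈ Q, Commute g u}
      one_mem' := ⟨isPE_one, fun u _ => Commute.one_left u⟩
      mul_mem' := fun {a b} ha hb =>
        ⟨ha.1.mul (c.comm_of_commute_inv hti ha.1 hb.1 (ha.2 t ht) (hb.2 t ht)) hb.1,
          fun u hu => (ha.2 u hu).mul_left (hb.2 u hu)⟩
      inv_mem' := fun {a} ha => ⟨ha.1.inv, fun u hu => (ha.2 u hu).inv_left⟩ }
  have hZ : IsPGroup p Z := by
    rintro ⟨g, hg, -⟩
    obtain ⟨k, hk⟩ := hg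
    exact ⟨k, Subtype.ext hk⟩
  have hxn : x ∈ normalizer ((Q : Subgroup G) : Set G) := mem_normalizer_of_conj hn
  have hK := sup_zpowers_isPGroup hZ hx fun k hk => ⟨hk.1.conj x, fun u hu => ?_⟩
  · exact pgroup_comm c.hab hK (mem_sup_right (mem_zpowers x)) (mem_sup_left (⟨hz, hzQ⟩ : z ∈ Z))
  · have hu' : x⁻¹ * u * x ∈ Q := by
      have := conj_mem_of_normalizer (inv_mem hxn) hu
      rwa [inv_inv] at this
    have := (hk.2 _ hu').map (MulAut.conj x)
    simpa [MulAut.conj_apply, mul_assoc] using this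

theorem no_transport (Q : Sylow 2 G) {y v x : G} (hy : IsPE p y) (hy1 : y ≠ 1) (hv : v ∈ Q)
    (hvy : v * y * v⁻¹ = y⁻¹) (hall : ∀ u ∈ Q, Commute u y ∨ u * y * u⁻¹ = y⁻¹)
    (hx : IsPE p x) (hn : ∀ u ∈ Q, x * u * x⁻¹ ∈ Q) (hm : ∃ u ∈ Q, ¬ Commute x u)
    (hc : Commute y (x * y * x⁻¹)) : False := by
  have : Fact p.Prime := ⟨c.hp⟩
  have hvi := c.inverter_isI Q hy hy1 hv hvy
  obtain ⟨P, hyP, hP, hPmax⟩ := c.exists_sylow_inverted hy hy1 hvi hvy
  have hx' : x ∈ P := by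
    refine mem_sylow_of_normalizes P hx fun g hg => hPmax _ ((hP g hg).1.conj x) ?_
    refine c.comm_of_commute_inverted (hy.conj x) (fun h => hy1 (conj_eq_one_iff.1 h)) (hvi.conj x)
      ?_ ((hP g hg).1.conj x) hy ?_ hc
    · calc x * v * x⁻¹ * (x * y * x⁻¹) * (x * v * x⁻¹)⁻¹ = x * (v * y * v⁻¹) * x⁻¹ := by group
        _ = _ := by rw [hvy, conj_inv]
    · have := (hP g hg).2.map (MulAut.conj x)
      simpa [MulAut.conj_apply] using this
  obtain ⟨u, hu, hxu⟩ := hm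
  apply hxu
  have h1 : u * x⁻¹ * u⁻¹ ∈ P := by
    refine hPmax _ (hx.inv.conj u) ?_
    have h := ((hP x hx').2.inv_left).map (MulAut.conj u)
    simp only [MulAut.conj_apply] at h
    rcases hall u hu with hc' | hi
    · rwa [commute_iff_conj.1 hc'] at h
    · rw [hi] at h
      simpa using h.inv_right
  have h2 : x * (u * x⁻¹ * u⁻¹) ∈ P := mul_mem hx' h1
  have h3 : x * u * x⁻¹ * u⁻¹ ∈ Q := mul_mem (hn u hu) (inv_mem hu)
  have h4 : x * u * x⁻¹ * u⁻¹ = 1 := by
    refine (IsPE.of_mem P.isPGroup' ?_).eq_one_of_two c.hp c.hp2 (IsPE.of_mem Q.isPGroup' h3)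
    exact (by simpa only [mul_assoc] using h2 : x * u * x⁻¹ * u⁻¹ ∈ P)
  exact commute_iff_conj.2 (mul_inv_eq_one.1 h4)

theorem noRoots_of_large (hp3 : p ≠ 3) : NoRoots G p := by
  classical
  rintro Q y t v ⟨hy, hy1, -, ⟨hv, hvy⟩, hall⟩
  obtain ⟨x, hx, hn, hm⟩ := c.moving Q
  refine c.no_transport Q hy hy1 hv hvy hall hx hn hm ?_
  have := Fintype.ofFinite (Q : Subgroup G)
  have hcard : Fintype.card (Bool × Bool) < Fintype.card (Q : Subgroup G) := by
    rw [← Nat.card_eq_fintype_card (α := (Q : Subgroup G)), c.card_two Q]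
    have := c.three_le
    simp only [Fintype.card_prod, Fintype.card_bool]
    omega
  obtain ⟨a, b, hab, he⟩ := Fintype.exists_ne_map_eq_of_card_lt
    (fun u : (Q : Subgroup G) => (decide (Commute (u : G) y),
      decide (Commute (u : G) (x * y * x⁻¹)))) hcard
  simp only [Prod.mk.injEq, decide_eq_decide] at he
  have hxn : x ∈ normalizer ((Q : Subgroup G) : Set G) := mem_normalizer_of_conj hn
  have key : ∀ w : G, (∀ u ∈ Q, Commute u w ∨ u * w * u⁻¹ = w⁻¹) →
      (Commute (a : G) w ↔ Commute (b : G) w) → Commute ((a : G) * b) w := by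
    intro w hw hiff
    by_cases ha : Commute (a : G) w
    · exact ha.mul_left (hiff.1 ha)
    · have hb : ¬ Commute (b : G) w := fun h => ha (hiff.2 h)
      rw [commute_iff_conj]
      calc (a : G) * b * w * ((a : G) * b)⁻¹ = a * (b * w * (b : G)⁻¹) * (a : G)⁻¹ := by group
        _ = _ := by rw [(hw b b.2).resolve_left hb, ← conj_inv, (hw a a.2).resolve_left ha, inv_inv]
  have habQ : (a : G) * b ∈ Q := mul_mem a.2 b.2
  have hab1 : (a : G) * b ≠ 1 := fun h => hab (Subtype.ext (by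
    rw [eq_inv_of_mul_eq_one_left h, c.inv_of_mem Q b.2]))
  refine c.comm_of_commute_inv (c.isI_of_mem Q habQ hab1) hy (hy.conj x)
    (key y hall he.1).symm (key (x * y * x⁻¹) (fun u hu => ?_) he.2).symm
  have hu' : x⁻¹ * u * x ∈ Q := by
    have := conj_mem_of_normalizer (inv_mem hxn) hu
    rwa [inv_inv] at this
  rcases hall _ hu' with h | h
  · left
    have := h.map (MulAut.conj x)
    simpa [MulAut.conj_apply, mul_assoc] using this
  · right
    calc u * (x * y * x⁻¹) * u⁻¹ = x * ((x⁻¹ * u * x) * y * (x⁻¹ * u * x)⁻¹) * x⁻¹ := by group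
      _ = _ := by rw [h, conj_inv]

/-- Four-group step: if `P` is abelian, normalized by `v` and `w = t * v`, and fixed points of
`v` and `w` are fixed by `t`, then `t` fixes `P`. -/
theorem commute_of_pair (Q : Sylow 2 G) {t v : G} (ht : t ∈ Q) (hv : v ∈ Q) {P : Subgroup G}
    (hP : IsPGroup p P) (hn : ∀ u ∈ Q, ∀ m ∈ P, u * m * u⁻¹ ∈ P)
    (h1 : ∀ m ∈ P, Commute m v → Commute m t) (h2 : ∀ m ∈ P, Commute m (t * v) → Commute m t)
    {m : G} (hm : m ∈ P) : Commute m t := by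
  have hw : t * v ∈ Q := mul_mem ht hv
  have fix : ∀ u ∈ Q, Commute (m * (u * m * u⁻¹)) u := by
    intro u hu
    refine Commute.symm ?_
    rw [commute_iff_conj]
    calc u * (m * (u * m * u⁻¹)) * u⁻¹ = (u * m * u⁻¹) * (u * (u * m * u⁻¹) * u⁻¹) := by group
      _ = _ := by rw [c.conj_conj_self Q hu, (pgroup_comm c.hab hP (hn u hu m hm) hm).eq]
  have ha := h1 _ (mul_mem hm (hn v hv m hm)) (fix v hv)
  have hb := h2 _ (mul_mem hm (hn _ hw m hm)) (fix _ hw)
  have he : t * v * m * (t * v)⁻¹ = t * (v * m * v⁻¹) * t⁻¹ := by group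
  have hs : Commute ((v * m * v⁻¹) * (t * v * m * (t * v)⁻¹)) t := by
    refine Commute.symm ?_
    rw [he, commute_iff_conj]
    have hq := hn v hv m hm
    calc t * (v * m * v⁻¹ * (t * (v * m * v⁻¹) * t⁻¹)) * t⁻¹
        = (t * (v * m * v⁻¹) * t⁻¹) * (t * (t * (v * m * v⁻¹) * t⁻¹) * t⁻¹) := by group
      _ = _ := by rw [c.conj_conj_self Q ht, (pgroup_comm c.hab hP (hn t ht _ hq) hq).eq]
  refine (IsPE.of_mem hP hm).commute_of_sq c.hp c.hp2 ?_
  have e : m * (v * m * v⁻¹) * (m * (t * v * m * (t * v)⁻¹)) *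
      ((v * m * v⁻¹) * (t * v * m * (t * v)⁻¹))⁻¹ = m * m := by
    have h3 := pgroup_comm c.hab hP (hn v hv m hm) hm
    calc _ = m * ((v * m * v⁻¹) * m) * (v * m * v⁻¹)⁻¹ := by group
      _ = _ := by rw [h3.eq]; group
  rw [← e]
  exact (ha.mul_left hb).mul_left hs.inv_left

theorem root_facts (Q : Sylow 2 G) {y t v : G} (hR : Root p Q y t v) :
    (∃ P : Sylow p G, ∀ g ∈ P, Commute g t) ∧
      ∀ z, IsPE p z → (∀ u ∈ Q, Commute z u) → z = 1 := by
  have : Fact p.Prime := ⟨c.hp⟩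
  obtain ⟨hy, hy1, ⟨ht, ht1, hty⟩, ⟨hv, hvy⟩, hall⟩ := hR
  have hvi := c.inverter_isI Q hy hy1 hv hvy
  have hti := c.isI_of_mem Q ht ht1
  obtain ⟨P, hyP, hP, hPmax⟩ := c.exists_sylow_inverted hy hy1 hvi hvy
  have hQP : ∀ u ∈ Q, ∀ g ∈ P, u * g * u⁻¹ ∈ P := by
    intro u hu g hg
    refine hPmax _ ((hP g hg).1.conj u) ?_
    have h := (hP g hg).2.map (MulAut.conj u)
    simp only [MulAut.conj_apply] at h
    rcases hall u hu with hc' | hi
    · rwa [commute_iff_conj.1 hc'] at h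
    · rw [hi] at h
      simpa using h.inv_right
  have hA : ∀ u ∈ Q, ¬ Commute u y → ∀ g ∈ P, Commute g u → ∀ w ∈ Q, Commute g w := by
    intro u hu huy g hg hgu w hw
    by_contra hgw
    have hu1 : u ≠ 1 := fun h => huy (h ▸ Commute.one_left y)
    obtain ⟨r, hrP, hr, hr1, ⟨-, -, hur⟩, ⟨-, hwr⟩, -⟩ :=
      c.root_exists Q (hP g hg).1 hu hu1 hgu.symm hw (fun h => hgw h.symm) (P : Subgroup G) hg hQP
    obtain ⟨x, hx, hn, hxt⟩ := c.exists_conj_in Q ht ht1 hu hu1
    refine c.no_transport Q hy hy1 hv hvy hall hx hn ⟨t, ht, fun h => ?_⟩ ?_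
    · rw [commute_iff_conj.1 h] at hxt
      exact huy (hxt ▸ hty)
    · have h2 : Commute (x * y * x⁻¹) u := by
        have := hty.symm.map (MulAut.conj x)
        simpa [MulAut.conj_apply, hxt] using this
      exact c.comm_of_commute_inverted hr hr1 (c.inverter_isI Q hr hr1 hw hwr) hwr hy
        (hy.conj x) (hP r hrP).2.symm (c.comm_of_commute_inv (c.isI_of_mem Q hu hu1) hr
          (hy.conj x) hur.symm h2).symm
  have hwy : ¬ Commute (t * v) y := by
    rw [commute_iff_conj]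
    intro h
    apply hy.inv_ne_self c.hp c.hp2 hy1
    have e : t * v * y * (t * v)⁻¹ = t * (v * y * v⁻¹) * t⁻¹ := by group
    rw [e, hvy, ← conj_inv, commute_iff_conj.1 hty] at h
    exact h
  have hvy' : ¬ Commute v y := fun h =>
    hy.inv_ne_self c.hp c.hp2 hy1 (by rw [← hvy, commute_iff_conj.1 h])
  have hPt : ∀ g ∈ P, Commute g t := fun g hg => c.commute_of_pair Q ht hv P.isPGroup' hQP
    (fun m hm h => hA v hv hvy' m hm h t ht)
    (fun m hm h => hA _ (mul_mem ht hv) hwy m hm h t ht) hg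
  refine ⟨⟨P, hPt⟩, fun z hz hzQ => by_contra fun hz1 => ?_⟩
  obtain ⟨x, hx, hn, hm⟩ := c.moving Q
  have hxt : ¬ Commute x t := fun h => by
    obtain ⟨u, hu, hxu⟩ := hm
    exact hxu (c.pe_centralizes Q.isPGroup' hx hn (Or.inr ⟨t, ht, ht1, h⟩) u hu)
  have hxz := c.x_comm_centralized Q hx hn hz hzQ
  have hPz : ∀ g ∈ P, Commute g z := fun g hg =>
    c.comm_of_commute_inv hti (hP g hg).1 hz (hPt g hg) (hzQ t ht)
  set H := centralizer ({z} : Set G) with hH
  have hQH : ∀ u ∈ Q, u ∈ H := fun u hu => mem_centralizer_singleton_iff.2 (hzQ u hu).eq.symm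
  have hxH : x ∈ H := mem_centralizer_singleton_iff.2 hxz.eq
  have hPH : ∀ g ∈ P, g ∈ H := fun g hg => mem_centralizer_singleton_iff.2 (hPz g hg).eq
  rcases c.dichotomy (c.centralizer_ne_top (Or.inl ⟨hz, hz1⟩)) (hti.two_dvd (hQH t ht)) with
    ⟨M, hM1, hM, hMn⟩ | ⟨M, hMH, hM, hMn, hMc⟩
  · have hMQ := c.two_normal_eq Q hx hn hm hM1 hM (fun u hu => hMn u (hQH u hu)) (hMn x hxH)
    subst hMQ
    exact hvy' (c.pe_centralizes Q.isPGroup' hy (hMn y (hPH y hyP))
      (Or.inr ⟨t, ht, ht1, hty.symm⟩) v hv).symm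
  · have hMP : M ≤ (P : Subgroup G) := by
      have hK : IsPGroup p (M ⊔ (P : Subgroup G) : Subgroup G) :=
        hM.to_sup_of_normal_left' P.isPGroup'
          fun g hg => mem_normalizer_of_conj (hMn g (hPH g hg))
      exact le_sup_left.trans (P.is_maximal' hK le_sup_right).le
    have hPM : (P : Subgroup G) ≤ M := fun g hg =>
      hMc g (hPH g hg) fun m hm' => pgroup_comm c.hab P.isPGroup' hg (hMP hm')
    exact hxt (hPt x (mem_sylow_of_normalizes P hx fun g hg => hMP (hMn x hxH g (hPM hg))))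

theorem root_global (Q : Sylow 2 G) {y t v : G} (hR : Root p Q y t v) :
    (∀ s, IsI s → ∃ P : Sylow p G, ∀ g ∈ P, Commute g s) ∧
      ∀ a b z : G, IsI a → IsI b → a ≠ b → Commute a b → IsPE p z → Commute z a → Commute z b →
        z = 1 := by
  obtain ⟨⟨P, hP⟩, hZ⟩ := c.root_facts Q hR
  refine ⟨fun s hs => ?_, fun a b z ha hb hab hc hz hza hzb => ?_⟩
  · obtain ⟨g, rfl⟩ := c.one_class (c.isI_of_mem Q hR.2.2.1.1 hR.2.2.1.2.1) hs
    refine ⟨g • P, fun h hh => ?_⟩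
    obtain ⟨k, hk, rfl⟩ := hh
    have := (hP k hk).map (MulAut.conj g)
    simpa [MulAut.conj_apply, MulAut.smul_def] using this
  · obtain ⟨Q', haQ, hbQ⟩ := c.exists_sylow_of_commute ha hb hc
    obtain ⟨g, rfl⟩ := MulAction.exists_smul_eq G Q Q'
    have hfix : ∀ w ∈ (g • Q : Sylow 2 G), Commute z w := by
      intro w hw
      have hsub : ({1, a, b, a * b} : Set G) ⊆ ((g • Q : Sylow 2 G) : Subgroup G) := by
        intro x hx
        simp only [Set.mem_insert_iff, Set.mem_singleton_iff] at hx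
        rcases hx with rfl | rfl | rfl | rfl
        exacts [one_mem _, haQ, hbQ, mul_mem haQ hbQ]
      have h4 : ({1, a, b, a * b} : Set G).ncard = 4 := by
        have e1 : a * b ≠ 1 := fun h => hab (by rw [eq_inv_of_mul_eq_one_left h, hb.inv_eq])
        have e2 : a * b ≠ a := fun h => hb.2 (mul_eq_left.1 h)
        have e3 : a * b ≠ b := fun h => ha.2 (mul_eq_right.1 h)
        rw [Set.ncard_insert_of_notMem, Set.ncard_insert_of_notMem, Set.ncard_insert_of_notMem,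
          Set.ncard_singleton] <;>
          simp [ha.2.symm, hb.2.symm, hab, e1.symm, e2.symm, e3.symm]
      have hp3 : p = 3 := by
        by_contra h
        exact c.noRoots_of_large h Q y t v hR
      have heq := Set.eq_of_subset_of_ncard_le hsub (by
        rw [h4, ← Nat.card_coe_set_eq]
        exact (c.card_two _).le.trans (by omega)) (Set.toFinite _)
      have : w ∈ ({1, a, b, a * b} : Set G) := by rw [heq]; exact hw
      simp only [Set.mem_insert_iff, Set.mem_singleton_iff] at this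
      rcases this with rfl | rfl | rfl | rfl
      exacts [Commute.one_right z, hza, hzb, hza.mul_right hzb]
    have := hZ (g⁻¹ * z * g) (by simpa using hz.conj g⁻¹) fun u hu => by
      have h := (hfix _ (conj_mem_smul g hu)).map (MulAut.conj g⁻¹)
      simpa [MulAut.conj_apply, mul_assoc] using h
    rw [mul_eq_one_iff_eq_inv, ← eq_inv_mul_iff_mul_eq] at this
    simpa using this

end

end Ctx

end Cfsg.Lib.Struct.MixedTwo
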