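import Cfsg.Agent.Lib.Struct.MaxCentralizer
import Cfsg.Agent.Lib.Core.Cores
import Cfsg.Agent.Lib.Core.Layer
import Cfsg.Agent.Lib.Invol.BaerSuzuki
import Mathlib.GroupTheory.Nilpotent

/-!
# Commutator values and nilpotency of a term of the lower central series

`Val n x` says that `x` is a left-normed commutator of weight `n + 1`.  `Key k G` says that for a value
`v` and any `u`, if `⁅v, u⁆` has order prime to that of `v` then `v` and `u` commute.  For a solvable
group this makes the `k`-th term of the lower central series nilpotent.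
-/

set_option autoImplicit false

open Subgroup
open scoped commutatorElement

set_option linter.style.haveILetI false

namespace Cfsg.Lib.Struct

open Cfsg.Lib.Struct.MaxCent (mem_of_primary_parts le_of_primary)

universe u

variable {G : Type u} [Group G]

/-- Left-normed commutators of weight `n + 1`. -/
def Val : ℕ → G → Prop
  | 0, _ => True
  | n + 1, x => ∃ a b : G, Val n a ∧ x = ⁅a, b⁆

theorem val_of_succ : ∀ {n : ℕ} {x : G}, Val (n + 1) x → Val n x
  | 0, _, _ => trivial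
  | _ + 1, _, ⟨a, b, ha, e⟩ => ⟨a, b, val_of_succ ha, e⟩

theorem val_comm : ∀ {n : ℕ} {x : G}, Val n x → ∀ u : G, Val n ⁅x, u⁆
  | 0, _, _, _ => trivial
  | _ + 1, x, h, u => ⟨x, u, val_of_succ h, rfl⟩

theorem val_map {H : Type*} [Group H] (f : G →* H) : ∀ {n : ℕ} {x : G}, Val n x → Val n (f x)
  | 0, _, _ => trivial
  | _ + 1, _, ⟨a, b, ha, e⟩ => ⟨f a, f b, val_map f ha, by rw [e, map_commutatorElement]⟩

theorem val_lift {H : Type*} [Group H] (f : G →* H) (hf : Function.Surjective f) :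
    ∀ {n : ℕ} {y : H}, Val n y → ∃ x, Val n x ∧ f x = y
  | 0, y, _ => by obtain ⟨x, rfl⟩ := hf y; exact ⟨x, trivial, rfl⟩
  | _ + 1, _, ⟨a, b, ha, e⟩ => by
    obtain ⟨a', ha', rfl⟩ := val_lift f hf ha
    obtain ⟨b', rfl⟩ := hf b
    exact ⟨⁅a', b'⁆, ⟨a', b', ha', rfl⟩, by rw [e, map_commutatorElement]⟩

theorem val_conj {n : ℕ} {x : G} (h : Val n x) (g : G) : Val n (g * x * g⁻¹) :=
  val_map (MulAut.conj g).toMonoidHom h

theorem val_mem_lcs : ∀ {n : ℕ} {x : G}, Val n x → x ∈ (⊤ : Subgroup G).lowerCentralSeries n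
  | 0, _, _ => mem_top _
  | n + 1, _, ⟨a, b, ha, e⟩ => by
    rw [Subgroup.lowerCentralSeries_succ, e]
    exact commutator_mem_commutator (val_mem_lcs ha) (mem_top b)

theorem lcs_le_closure : ∀ n : ℕ,
    (⊤ : Subgroup G).lowerCentralSeries n ≤ closure {x : G | Val n x}
  | 0 => fun x _ => subset_closure trivial
  | n + 1 => by
    rw [Subgroup.lowerCentralSeries_succ, commutator_le]
    intro p hp q _
    have hp' := lcs_le_closure n hp
    have hnorm : ∀ g y : G, y ∈ closure {x : G | Val (n + 1) x} →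
        g * y * g⁻¹ ∈ closure {x : G | Val (n + 1) x} := by
      intro g y hy
      induction hy using closure_induction with
      | mem z hz => exact subset_closure (val_conj hz g)
      | one => simp
      | mul a b _ _ iha ihb => simpa [mul_assoc] using mul_mem iha ihb
      | inv a _ iha => simpa [mul_assoc] using inv_mem iha
    clear hp
    induction hp' using closure_induction generalizing q with
    | mem z hz => exact subset_closure ⟨z, q, hz, rfl⟩
    | one => simp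
    | mul a b _ _ iha ihb =>
      have e : ⁅a * b, q⁆ = a * ⁅b, q⁆ * a⁻¹ * ⁅a, q⁆ := by simp only [commutatorElement_def]; group
      rw [e]
      exact mul_mem (hnorm a _ (ihb q trivial)) (iha q trivial)
    | inv a _ iha =>
      have e : ⁅a⁻¹, q⁆ = a⁻¹ * (⁅a, q⁆)⁻¹ * a⁻¹⁻¹ := by simp only [commutatorElement_def]; group
      rw [e]
      exact hnorm _ _ (inv_mem (iha q trivial))

/-- The consequence of the order condition that is used. -/
def Key (k : ℕ) (G : Type u) [Group G] : Prop :=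
  ∀ v u : G, Val k v → (orderOf ⁅v, u⁆).Coprime (orderOf v) → ⁅v, u⁆ = 1

theorem key_sub {k : ℕ} (h : Key k G) (H : Subgroup G) : Key k ↥H := by
  intro v u hv hco
  rw [← Subgroup.orderOf_coe, ← Subgroup.orderOf_coe] at hco
  have := h (v : G) (u : G) (val_map H.subtype hv)
    (by rwa [show ((⁅v, u⁆ : ↥H) : G) = ⁅(v : G), (u : G)⁆ from map_commutatorElement H.subtype v u] at hco)
  exact Subtype.ext ((map_commutatorElement H.subtype v u).trans this)

/-- Iterated commutators with a fixed element. -/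
def iterC (t : G) : ℕ → G → G
  | 0, u => u
  | n + 1, u => ⁅iterC t n u, t⁆

theorem iterC_val (t u : G) : ∀ n, Val n (iterC t n u)
  | 0 => trivial
  | n + 1 => ⟨_, t, iterC_val t u n, rfl⟩

theorem map_iterC {H : Type*} [Group H] (f : G →* H) (t u : G) :
    ∀ n, f (iterC t n u) = iterC (f t) n (f u)
  | 0 => rfl
  | n + 1 => by simp [iterC, map_commutatorElement, map_iterC f t u n]

theorem commutator_mem_of_normalizes {U : Subgroup G} {x t : G} (hx : x ∈ U)
    (ht : t ∈ normalizer (U : Set G)) : ⁅x, t⁆ ∈ U := by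
  rw [commutatorElement_def, show x * t * x⁻¹ * t⁻¹ = x * (t * x⁻¹ * t⁻¹) from by group]
  exact mul_mem hx ((mem_normalizer_iff.1 ht _).1 (inv_mem hx))

theorem iterC_mem {U : Subgroup G} {t u : G} (hu : u ∈ U) (ht : t ∈ normalizer (U : Set G)) :
    ∀ n, iterC t n u ∈ U
  | 0 => hu
  | n + 1 => commutator_mem_of_normalizes (iterC_mem hu ht n) ht

variable [Finite G]

/-- A double commutator with a coprime element is trivial only when the single one is. -/
theorem commutator_eq_one_of_double {r : ℕ} [hr : Fact r.Prime] {U : Subgroup G} (hU : IsPGroup r U)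
    {x t : G} (hx : x ∈ U) (ht : t ∈ normalizer (U : Set G)) (hco : (orderOf t).Coprime r)
    (h : ⁅⁅x, t⁆, t⁆ = 1) : ⁅x, t⁆ = 1 := by
  set c := ⁅x, t⁆ with hc
  have hcU : c ∈ U := commutator_mem_of_normalizes hx ht
  obtain ⟨i, hi⟩ := IsPGroup.iff_orderOf.1 hU ⟨c, hcU⟩
  rw [Subgroup.orderOf_mk] at hi
  have hcomm : Commute c t := commutatorElement_eq_one_iff_commute.1 h
  have h2 : orderOf (c * t) = orderOf t := by
    rw [show c * t = x * t * x⁻¹ from by rw [hc, commutatorElement_def]; group]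
    exact Cfsg.Lib.Invol.orderOf_conj_eq x t
  rw [hcomm.orderOf_mul_eq_mul_orderOf_of_coprime (hi ▸ hco.symm.pow_left i)] at h2
  have : orderOf c = 1 := by
    simpa [(orderOf_pos t).ne'] using h2
  exact orderOf_eq_one_iff.1 this

theorem commute_of_iterC {r : ℕ} [Fact r.Prime] {U : Subgroup G} (hU : IsPGroup r U) {t : G}
    (ht : t ∈ normalizer (U : Set G)) (hco : (orderOf t).Coprime r) {u : G} (hu : u ∈ U) :
    ∀ n, iterC t n u = 1 → ⁅u, t⁆ = 1
  | 0, h => by simp [show u = 1 from h]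
  | 1, h => h
  | n + 2, h => commute_of_iterC hU ht hco hu (n + 1)
      (commutator_eq_one_of_double hU (iterC_mem hu ht n) ht hco h)

theorem exists_power_lift {H : Type*} [Group H] (f : G →* H) {r : ℕ} [hr : Fact r.Prime] (t : G)
    (hco : (orderOf (f t)).Coprime r) :
    ∃ a : ℕ, (orderOf (t ^ a)).Coprime r ∧ f (t ^ a) = f t := by
  obtain ⟨e, m, hm, he⟩ := Nat.exists_eq_pow_mul_and_not_dvd (orderOf_pos t).ne' r hr.out.ne_one
  have hrm : Nat.Coprime (r ^ e) m :=
    Nat.Coprime.pow_left e ((Nat.Prime.coprime_iff_not_dvd hr.out).2 hm)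
  obtain ⟨a, ha0, ha1⟩ := Nat.chineseRemainder hrm 0 1
  refine ⟨a, ?_, ?_⟩
  · have hd : r ^ e ∣ a := Nat.modEq_zero_iff_dvd.1 ha0
    refine Nat.Coprime.coprime_dvd_left (orderOf_dvd_of_pow_eq_one ?_)
      ((Nat.Prime.coprime_iff_not_dvd hr.out).2 hm).symm
    rw [← pow_mul]
    exact orderOf_dvd_iff_pow_eq_one.1 (he ▸ mul_dvd_mul hd dvd_rfl)
  · have hdm : orderOf (f t) ∣ m := by
      refine Nat.Coprime.dvd_of_dvd_mul_left (Nat.Coprime.pow_right e hco) ?_
      rw [← he]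
      exact orderOf_map_dvd f t
    rw [map_pow]
    conv_rhs => rw [← pow_one (f t)]
    exact pow_eq_pow_iff_modEq.2 (ha1.of_dvd hdm)

theorem map_sylow_comap {H : Type*} [Group H] (f : G →* H) (hf : Function.Surjective f) {r : ℕ}
    [hr : Fact r.Prime] {Q : Subgroup H} (hQ : IsPGroup r Q) (S : Sylow r ↥(Q.comap f)) :
    ((S : Subgroup ↥(Q.comap f)).map (Q.comap f).subtype).map f = Q := by
  haveI : Finite H := Finite.of_surjective f hf
  set g := f.subgroupComap Q with hg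
  have hgs : Function.Surjective g := f.subgroupComap_surjective_of_surjective Q hf
  have htop : ((S.mapSurjective hgs : Sylow r ↥Q) : Subgroup ↥Q) = ⊤ := by
    apply index_eq_one.1
    obtain ⟨n, hn⟩ := IsPGroup.iff_card.1 hQ
    obtain ⟨i, _, hi⟩ := (Nat.dvd_prime_pow hr.out).1
      (hn ▸ index_dvd_card (S.mapSurjective hgs : Subgroup ↥Q))
    rcases Nat.eq_zero_or_pos i with h0 | h0
    · rw [hi, h0, pow_zero]
    · exact absurd (hi ▸ dvd_pow_self r h0.ne') (S.mapSurjective hgs).not_dvd_index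
  rw [Sylow.coe_mapSurjective] at htop
  calc ((S : Subgroup ↥(Q.comap f)).map (Q.comap f).subtype).map f
      = ((S : Subgroup ↥(Q.comap f)).map g).map Q.subtype := by
        rw [Subgroup.map_map, Subgroup.map_map]; rfl
    _ = Q := by rw [htop, ← MonoidHom.range_eq_map, range_subtype]

theorem exists_sylow_lift {H : Type*} [Group H] (f : G →* H) (hf : Function.Surjective f) {r : ℕ}
    [hr : Fact r.Prime] {Q : Subgroup H} (hQ : IsPGroup r Q) {x : G} (hx : f x ∈ Q)
    (hxr : ∃ i, orderOf x = r ^ i) :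
    ∃ U : Subgroup G, IsPGroup r U ∧ x ∈ U ∧ U.map f = Q := by
  obtain ⟨i, hi⟩ := hxr
  have hp : IsPGroup r (zpowers (⟨x, hx⟩ : ↥(Q.comap f))) :=
    IsPGroup.of_card (n := i) (by rw [Nat.card_zpowers, ← Subgroup.orderOf_coe]; exact hi)
  obtain ⟨S, hS⟩ := hp.exists_le_sylow
  exact ⟨_, S.2.map _, ⟨_, hS (mem_zpowers _), rfl⟩, map_sylow_comap f hf hQ S⟩

/-- A coprime nontrivial action upstairs gives a value downstairs. -/
theorem exists_value {H : Type*} [Group H] (f : G →* H) (hf : Function.Surjective f) (k : ℕ) {r : ℕ}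
    [hr : Fact r.Prime] {Q : Subgroup H} (hQ : IsPGroup r Q) {t : H}
    (ht : t ∈ normalizer (Q : Set H)) (hco : (orderOf t).Coprime r)
    (hnc : t ∉ centralizer (Q : Set H)) :
    ∃ x : G, Val k x ∧ (∃ i, orderOf x = r ^ i) ∧ f x ∈ Q ∧ f x ≠ 1 := by
  haveI : Finite H := Finite.of_surjective f hf
  obtain ⟨t0, rfl⟩ := hf t
  obtain ⟨S⟩ : Nonempty (Sylow r ↥(Q.comap f)) := inferInstance
  set M := Q.comap f with hM
  set U := (S : Subgroup ↥M).map M.subtype with hUdef
  have hUr : IsPGroup r U := S.2.map _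
  have hUQ : U.map f = Q := map_sylow_comap f hf hQ S
  have hUM : U ≤ M := map_subtype_le _
  have hMn : ∀ y : G, y ∈ M → t0 * y * t0⁻¹ ∈ M := fun y hy => by
    simp only [hM, mem_comap, map_mul, map_inv] at hy ⊢
    exact (mem_normalizer_iff.1 ht _).1 hy
  -- the conjugate Sylow subgroup
  have hU'M : U.map (MulAut.conj t0).toMonoidHom ≤ M := by
    rintro _ ⟨y, hy, rfl⟩
    exact hMn y (hUM hy)
  obtain ⟨S', hS'⟩ := ((hUr.map (MulAut.conj t0).toMonoidHom).of_equiv
    (subgroupOfEquivOfLe hU'M).symm).exists_le_sylow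
  obtain ⟨m, hm⟩ := MulAction.exists_smul_eq (↥M) S S'
  -- an element of the kernel correcting the lift
  have hsup : ∀ y ∈ M, ∃ n : G, f n = 1 ∧ ∃ s ∈ U, y = n * s := by
    intro y hy
    obtain ⟨s, hs, hsy⟩ : f y ∈ U.map f := by rw [hUQ]; exact hy
    exact ⟨y * s⁻¹, by rw [map_mul, map_inv, hsy, mul_inv_cancel], s, hs, by group⟩
  obtain ⟨n, hn, s, hs, hms⟩ := hsup (m : G) m.2
  have hnorm : n⁻¹ * t0 ∈ normalizer (U : Set G) := by
    refine Cfsg.Lib.Invol.mem_normalizer_of_map_le ?_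
    rintro _ ⟨y, hy, rfl⟩
    have h1 : (⟨t0 * y * t0⁻¹, hMn y (hUM hy)⟩ : ↥M) ∈ (S' : Subgroup ↥M) :=
      hS' (mem_subgroupOf.2 ⟨y, hy, rfl⟩)
    rw [← hm, Sylow.coe_subgroup_smul] at h1
    obtain ⟨z, hz, e⟩ := h1
    have hzU : (z : G) ∈ U := ⟨z, hz, rfl⟩
    have e' : (m : G) * z * (m : G)⁻¹ = t0 * y * t0⁻¹ := congrArg Subtype.val e
    show n⁻¹ * t0 * y * (n⁻¹ * t0)⁻¹ ∈ U
    have : n⁻¹ * t0 * y * (n⁻¹ * t0)⁻¹ = s * z * s⁻¹ := by
      calc n⁻¹ * t0 * y * (n⁻¹ * t0)⁻¹ = n⁻¹ * (t0 * y * t0⁻¹) * n := by group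
        _ = s * z * s⁻¹ := by rw [← e', hms]; group
    rw [this]
    exact mul_mem (mul_mem hs hzU) (inv_mem hs)
  have hft : f (n⁻¹ * t0) = f t0 := by simp [hn]
  obtain ⟨a, ha, hfa⟩ := exists_power_lift f (r := r) (n⁻¹ * t0) (by rw [hft]; exact hco)
  set t1 := (n⁻¹ * t0) ^ a with ht1
  have hfa' : f t1 = f t0 := hfa.trans hft
  have ht1n : t1 ∈ normalizer (U : Set G) := pow_mem hnorm a
  obtain ⟨q, hq, hqc⟩ : ∃ q ∈ Q, ⁅q, f t0⁆ ≠ 1 := by
    by_contra hcon
    push Not at hcon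
    exact hnc fun q hq => commutatorElement_eq_one_iff_commute.1 (hcon q hq)
  obtain ⟨u, hu, rfl⟩ : q ∈ U.map f := by rw [hUQ]; exact hq
  refine ⟨iterC t1 k u, iterC_val _ _ k, ?_, ?_, ?_⟩
  · obtain ⟨i, hi⟩ := IsPGroup.iff_orderOf.1 hUr ⟨_, iterC_mem hu ht1n k⟩
    exact ⟨i, by rwa [Subgroup.orderOf_mk] at hi⟩
  · rw [← hUQ]; exact ⟨_, iterC_mem hu ht1n k, rfl⟩
  · rw [map_iterC, hfa']
    exact fun h => hqc (commute_of_iterC hQ ht hco hq k h)

theorem isNilpotent_of_mem_center {D : Subgroup G} {q : ℕ} [hq : Fact q.Prime]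
    (h : ∀ (s : ℕ) (d : G), Fact s.Prime → s ≠ q → d ∈ D → (∃ i, orderOf d = s ^ i) →
      ∀ e ∈ D, Commute e d) :
    Group.IsNilpotent ↥D := by
  have hp : IsPGroup q (↥D ⧸ center ↥D) := by
    intro x
    induction x using QuotientGroup.induction_on with
    | H d =>
      obtain ⟨e, m, hm, he⟩ := Nat.exists_eq_pow_mul_and_not_dvd (orderOf_pos d).ne' q hq.out.ne_one
      refine ⟨e, ?_⟩
      rw [← QuotientGroup.mk_pow, QuotientGroup.eq_one_iff]
      have hd : orderOf (d ^ q ^ e) ∣ m := orderOf_dvd_of_pow_eq_one (by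
        rw [← pow_mul, ← he, pow_orderOf_eq_one])
      refine mem_of_primary_parts fun s z hs hz hzk => ?_
      obtain ⟨i, hi⟩ := hzk
      by_cases hsq : s = q
      · subst hsq
        have h1 : s ^ i ∣ m := hi ▸ (orderOf_dvd_of_mem_zpowers hz).trans hd
        have h0 : i = 0 := by
          by_contra h0
          exact hm ((dvd_pow_self s h0).trans h1)
        rw [h0, pow_zero, orderOf_eq_one_iff] at hi
        exact hi ▸ one_mem _
      · refine mem_center_iff.2 fun e' => Subtype.ext ?_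
        exact h s z hs hsq z.2 ⟨i, by rw [Subgroup.orderOf_coe]; exact hi⟩ e' e'.2
  haveI : Group.IsNilpotent (↥D ⧸ center ↥D) := hp.isNilpotent
  exact Subgroup.isNilpotent_of_ker_le_center (QuotientGroup.mk' (center ↥D))
    (by rw [QuotientGroup.ker_mk'])

omit [Finite G] in
theorem zpowers_isPGroup {r : ℕ} {x : G} (h : ∃ i, orderOf x = r ^ i) : IsPGroup r (zpowers x) := by
  obtain ⟨i, hi⟩ := h
  exact IsPGroup.of_card (n := i) (by rw [Nat.card_zpowers, hi])

theorem mem_pCore_of_nilpotent (hn : Group.IsNilpotent G) {r : ℕ} [hr : Fact r.Prime] {x : G}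
    (hx : ∃ i, orderOf x = r ^ i) : x ∈ Cfsg.pCore r G := by
  obtain ⟨P, hP⟩ := (zpowers_isPGroup hx).exists_le_sylow
  exact Core.le_pCore' ((Group.isNilpotent_of_finite_tfae.out 0 3 rfl rfl).mp hn r hr P) P.2
    (hP (mem_zpowers x))

theorem mem_pCore_of_mem_nilpotent {N : Subgroup G} [N.Normal] (hn : Group.IsNilpotent ↥N) {r : ℕ}
    [Fact r.Prime] {x : G} (hxN : x ∈ N) (hx : ∃ i, orderOf x = r ^ i) : x ∈ Cfsg.pCore r G := by
  have h1 : (⟨x, hxN⟩ : ↥N) ∈ Cfsg.pCore r ↥N :=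
    mem_pCore_of_nilpotent hn (by simpa [Subgroup.orderOf_mk] using hx)
  have hp : IsPGroup r ((Cfsg.pCore r ↥N).map N.subtype) := (Core.pCore_isPGroup r ↥N).map _
  exact Core.le_pCore' (Core.normal_map_char_of_normal _) hp ⟨_, h1, rfl⟩

theorem mem_fitting_of_mem_pCore {r : ℕ} [Fact r.Prime] {x : G} (hx : x ∈ Cfsg.pCore r G) :
    x ∈ Cfsg.fittingSubgroup G :=
  Core.pCore_le_fittingSubgroup r G hx

theorem eq_one_of_orders {r s : ℕ} [hr : Fact r.Prime] [hs : Fact s.Prime] (hrs : r ≠ s) {x : G}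
    {i j : ℕ} (h1 : orderOf x ∣ r ^ i) (h2 : orderOf x ∣ s ^ j) : x = 1 :=
  orderOf_eq_one_iff.1 (Nat.eq_one_of_dvd_coprimes
    (Nat.Coprime.pow i j ((Nat.coprime_primes hr.out hs.out).2 hrs)) h1 h2)

/-- An `r`-element value whose image lies in `O_r(G/F(G))` lies in `O_r(G)`. -/
theorem value_mem_pCore {r : ℕ} [hr : Fact r.Prime] {x : G}
    (hP : ∀ u : G, (orderOf ⁅x, u⁆).Coprime r → ⁅x, u⁆ = 1)
    (hx : ∃ i, orderOf x = r ^ i)
    (hq : QuotientGroup.mk' (Cfsg.fittingSubgroup G) x ∈ Cfsg.pCore r (G ⧸ Cfsg.fittingSubgroup G)) :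
    x ∈ Cfsg.pCore r G := by
  set F := Cfsg.fittingSubgroup G with hF
  set π := QuotientGroup.mk' F with hπ
  set C : Subgroup G := ⨅ q : {q : Nat.Primes // (q : ℕ) ≠ r},
    centralizer (Cfsg.pCore ((q : Nat.Primes) : ℕ) G : Set G) with hC
  set D : Subgroup G := (Cfsg.pCore r (G ⧸ F)).comap π ⊓ C with hD
  haveI : C.Normal := normal_iInf_normal fun q => Subgroup.normal_centralizer
  haveI : D.Normal := Subgroup.normal_inf_normal _ _
  have hxD : x ∈ D := by
    refine ⟨hq, mem_iInf.2 fun q => fun u hu => ?_⟩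
    haveI : Fact ((q : Nat.Primes) : ℕ).Prime := ⟨(q : Nat.Primes).2⟩
    have hc : ⁅x, u⁆ ∈ Cfsg.pCore ((q : Nat.Primes) : ℕ) G := by
      rw [commutatorElement_def, mul_assoc, mul_assoc]
      exact by simpa [mul_assoc] using
        mul_mem ((inferInstance : (Cfsg.pCore ((q : Nat.Primes) : ℕ) G).Normal).conj_mem u hu x) (inv_mem hu)
    obtain ⟨j, hj⟩ := IsPGroup.iff_orderOf.1 (Core.pCore_isPGroup _ G) ⟨_, hc⟩
    rw [Subgroup.orderOf_mk] at hj
    refine (commutatorElement_eq_one_iff_commute.1 (hP u ?_)).symm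
    rw [hj]
    exact Nat.Coprime.pow_left j ((Nat.coprime_primes (q : Nat.Primes).2 hr.out).2 q.2)
  have hDn : Group.IsNilpotent ↥D := by
    refine isNilpotent_of_mem_center (q := r) fun s d hs hsr hd hdk e he => ?_
    obtain ⟨j, hj⟩ := hdk
    obtain ⟨i, hi⟩ := IsPGroup.iff_orderOf.1 (Core.pCore_isPGroup r (G ⧸ F)) ⟨π d, hd.1⟩
    rw [← Subgroup.orderOf_coe] at hi
    have h1 : π d = 1 := eq_one_of_orders (r := s) (s := r) hsr (hj ▸ orderOf_map_dvd π d) hi.dvd
    have hdF : d ∈ F := (QuotientGroup.eq_one_iff d).1 h1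
    have hds : d ∈ Cfsg.pCore s G :=
      mem_pCore_of_mem_nilpotent (Core.fittingSubgroup_isNilpotent G) hdF ⟨j, hj⟩
    exact ((mem_iInf.1 he.2 ⟨⟨s, hs.out⟩, hsr⟩) d hds).symm
  exact mem_pCore_of_mem_nilpotent hDn hxD hx

theorem primary_coprime {r : ℕ} {v : G} (hv : ∃ i, orderOf v = r ^ i) {w : G}
    (h : (orderOf w).Coprime r) : (orderOf w).Coprime (orderOf v) := by
  obtain ⟨i, hi⟩ := hv
  rw [hi]
  exact h.pow_right i

theorem isNilpotent_of_centralized [Group.IsSolvable G]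
    (h : ∀ (r : ℕ) [Fact r.Prime] (t : G), (orderOf t).Coprime r →
      t ∈ centralizer (Cfsg.pCore r G : Set G)) : Group.IsNilpotent G := by
  have htop : (⊤ : Subgroup G) ≤ Cfsg.fittingSubgroup G := by
    refine le_of_primary fun q t hq _ htk => ?_
    obtain ⟨i, hi⟩ := htk
    set D : Subgroup G := ⨅ s : {s : Nat.Primes // (s : ℕ) ≠ q},
      centralizer (Cfsg.pCore ((s : Nat.Primes) : ℕ) G : Set G) with hD
    haveI : D.Normal := normal_iInf_normal fun q => Subgroup.normal_centralizer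
    have htD : t ∈ D := mem_iInf.2 fun s => by
      haveI : Fact ((s : Nat.Primes) : ℕ).Prime := ⟨(s : Nat.Primes).2⟩
      refine h _ t ?_
      rw [hi]
      exact Nat.Coprime.pow_left i ((Nat.coprime_primes hq.out (s : Nat.Primes).2).2 s.2.symm)
    have hDn : Group.IsNilpotent ↥D := by
      refine isNilpotent_of_mem_center (q := q) fun s d hs hsq hd hdk e he => ?_
      obtain ⟨j, hj⟩ := hdk
      have hall : ∀ p : Nat.Primes, Cfsg.pCore (p : ℕ) G ≤ centralizer ({d} : Set G) := by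
        intro p y hy
        rw [mem_centralizer_singleton_iff]
        by_cases hpq : (p : ℕ) = q
        · haveI : Fact (p : ℕ).Prime := ⟨p.2⟩
          have := h (p : ℕ) d (by
            rw [hj]; exact Nat.Coprime.pow_left j ((Nat.coprime_primes hs.out p.2).2 (hpq ▸ hsq)))
          exact this y hy
        · exact (mem_iInf.1 hd ⟨p, hpq⟩) y hy
      have hdF : d ∈ Cfsg.fittingSubgroup G := by
        refine Core.centralizer_fitting_le_of_isSolvable fun y hy => ?_
        rw [Core.fittingSubgroup_eq_iSup_pCore] at hy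
        exact mem_centralizer_singleton_iff.1 (iSup_le hall hy)
      have hds : d ∈ Cfsg.pCore s G :=
        mem_pCore_of_mem_nilpotent (Core.fittingSubgroup_isNilpotent G) hdF ⟨j, hj⟩
      exact ((mem_iInf.1 he ⟨⟨s, hs.out⟩, hsq⟩) d hds).symm
    exact Core.le_fittingSubgroup hDn htD
  rw [← Group.isNilpotent_top]
  exact Core.isNilpotent_of_le htop (Core.fittingSubgroup_isNilpotent G)

theorem quotient_nilpotent [Group.IsSolvable G] {k : ℕ} (h : Key k G) :
    Group.IsNilpotent (G ⧸ Cfsg.fittingSubgroup G) := by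
  refine isNilpotent_of_centralized fun r _ t hco => ?_
  by_contra hnc
  obtain ⟨x, hv, hxr, hxQ, hx1⟩ := exists_value (QuotientGroup.mk' (Cfsg.fittingSubgroup G))
    (QuotientGroup.mk'_surjective _) k (Core.pCore_isPGroup r _)
    (t := t) (by rw [normalizer_eq_top]; exact mem_top t) hco hnc
  exact hx1 ((QuotientGroup.eq_one_iff x).2 (mem_fitting_of_mem_pCore (r := r)
    (value_mem_pCore (fun u hu => h x u hv (primary_coprime hxr hu)) hxr hxQ)))

theorem value_mem_pCore' [Group.IsSolvable G] {k : ℕ} (h : Key k G) {r : ℕ} [Fact r.Prime] {x : G}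
    (hP : ∀ u : G, (orderOf ⁅x, u⁆).Coprime r → ⁅x, u⁆ = 1)
    (hx : ∃ i, orderOf x = r ^ i) : x ∈ Cfsg.pCore r G := by
  refine value_mem_pCore hP hx (mem_pCore_of_nilpotent (quotient_nilpotent h) ?_)
  obtain ⟨i, hi⟩ := hx
  obtain ⟨j, _, hj⟩ := (Nat.dvd_prime_pow (Fact.out : r.Prime)).1
    (hi ▸ orderOf_map_dvd (QuotientGroup.mk' (Cfsg.fittingSubgroup G)) x)
  exact ⟨j, hj⟩

/-- The solvable case. -/
theorem isNilpotent_lcs [Group.IsSolvable G] {k : ℕ} (h : Key k G) :
    Group.IsNilpotent ↥((⊤ : Subgroup G).lowerCentralSeries k) := by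
  set F := Cfsg.fittingSubgroup G with hF
  set π := QuotientGroup.mk' F with hπ
  have hπs : Function.Surjective π := QuotientGroup.mk'_surjective F
  have hn : Group.IsNilpotent (G ⧸ F) := quotient_nilpotent h
  refine Core.isNilpotent_of_le ?_ (Core.fittingSubgroup_isNilpotent G)
  refine (lcs_le_closure k).trans ((closure_le _).2 fun a ha => ?_)
  rw [SetLike.mem_coe, ← QuotientGroup.eq_one_iff]
  let e := Sylow.directProductOfNormal (G := G ⧸ F)
    (fun {p} hp P => (Group.isNilpotent_of_finite_tfae.out 0 3 rfl rfl).mp hn p hp P)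
  change π a = 1
  apply e.symm.injective
  rw [map_one]
  funext p P
  haveI : Fact (p : ℕ).Prime := ⟨Nat.prime_of_mem_primeFactors p.2⟩
  let ev : (∀ p : (Nat.card (G ⧸ F)).primeFactors, ∀ P : Sylow p (G ⧸ F), P) →*
      ↥(P : Subgroup (G ⧸ F)) :=
    { toFun := fun c => c p P, map_one' := rfl, map_mul' := fun _ _ => rfl }
  have hc : Val k (ev (e.symm (π a))) := val_map ev (val_map e.symm.toMonoidHom (val_map π ha))
  obtain ⟨S⟩ : Nonempty (Sylow (p : ℕ) ↥((P : Subgroup (G ⧸ F)).comap π)) := inferInstance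
  set U := (S : Subgroup ↥((P : Subgroup (G ⧸ F)).comap π)).map
    ((P : Subgroup (G ⧸ F)).comap π).subtype with hU
  have hUP : U.map π = P := map_sylow_comap π hπs P.2 S
  have hUle : U ≤ (P : Subgroup (G ⧸ F)).comap π := map_subtype_le _
  let g : ↥U →* ↥(P : Subgroup (G ⧸ F)) := (π.comp U.subtype).codRestrict _ fun u => hUle u.2
  have hg : Function.Surjective g := by
    rintro ⟨y, hy⟩
    rw [← hUP] at hy
    obtain ⟨u, hu, rfl⟩ := hy
    exact ⟨⟨u, hu⟩, rfl⟩
  obtain ⟨x, hx, hgx⟩ := val_lift g hg hc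
  obtain ⟨i, hi⟩ := IsPGroup.iff_orderOf.1 (S.2.map ((P : Subgroup (G ⧸ F)).comap π).subtype : IsPGroup (p : ℕ) ↥U) x
  have hxr : ∃ i, orderOf (x : G) = (p : ℕ) ^ i := ⟨i, (Subgroup.orderOf_coe x).trans hi⟩
  have hv : Val k (x : G) := val_map U.subtype hx
  have hxF : (x : G) ∈ F := mem_fitting_of_mem_pCore (r := (p : ℕ))
    (value_mem_pCore' h (fun u hu => h _ u hv (primary_coprime hxr hu)) hxr)
  have h1 : g x = 1 := Subtype.ext ((QuotientGroup.eq_one_iff (x : G)).2 hxF)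
  exact hgx.symm.trans h1

end Cfsg.Lib.Struct
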