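import Cfsg.Agent.Lib.Struct.ValueNilpotent
import Cfsg.Agent.Lib.Fusion.Alperin
import Cfsg.Agent.Lib.Local.Sigma.UStructure
import Cfsg.Agent.S0183
import Cfsg.Agent.S0215
import Cfsg.Agent.S1242
import Cfsg.Agent.S1351
import Cfsg.Agent.S1352
import Cfsg.Agent.S1365
import Cfsg.Agent.S1366
import Cfsg.Agent.S1369
import Cfsg.Agent.S1420
import Cfsg.Agent.S1430
import Cfsg.Agent.S1432
import Cfsg.Prelude.Def_LieExceptional

/-!
# No minimal simple group carries a system of values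

In a minimal simple group `H` a "value system" gives for each prime `r` a conjugation invariant set of
nontrivial `r`-elements, each lying in `O_r(K)` for every proper subgroup `K` containing it, and existing
in every `r`-subgroup with a nontrivial coprime action.  Each value lies in exactly one maximal
subgroup, every centralizer of an `r`-element contains a value, and the group would be a CN-group of odd
order or would have an involution inverting an element of odd order inside a proper subgroup whose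
2-core contains it.
-/

set_option autoImplicit false
set_option linter.style.haveILetI false

open Subgroup
open scoped commutatorElement Pointwise

namespace Cfsg.Lib.Struct

open Cfsg.Lib.Struct.MaxCent (mem_of_primary_parts le_of_primary commute_of_nilpotent)

universe u

variable {H : Type u} [Group H] [Finite H]

/-- Elements normalizing a generated subgroup: a set invariant under conjugation inside a `p`-group. -/
theorem exists_grow {p : ℕ} [Fact p.Prime] {A E : Set H} (hA : IsPGroup p (closure A))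
    (hinv : ∀ g ∈ closure A, ∀ a ∈ A, g * a * g⁻¹ ∈ A) (hE : E ⊂ A) :
    ∃ a ∈ A, a ∉ E ∧ a ∈ normalizer (closure E : Set H) := by
  obtain ⟨a0, ha0, ha0E⟩ := Set.exists_of_ssubset hE
  by_cases hAC : A ⊆ (closure E : Set H)
  · exact ⟨a0, ha0, ha0E, le_normalizer (hAC ha0)⟩
  have hlt : closure E < closure A := by
    refine lt_of_le_of_ne (closure_mono hE.subset) fun h => hAC ?_
    rw [h]; exact subset_closure
  have h1 : closure E < closure A ⊓ normalizer (closure E : Set H) :=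
    Fusion.lt_inf_normalizer (p := p) hA hlt
  set N1 := closure A ⊓ normalizer (closure E : Set H) with hN1
  rcases eq_or_lt_of_le (inf_le_left : N1 ≤ closure A) with h2 | h2
  · have h2' : a0 ∈ N1 := h2.ge (subset_closure ha0)
    exact ⟨a0, ha0, ha0E, h2'.2⟩
  have h3 : N1 < closure A ⊓ normalizer (N1 : Set H) := Fusion.lt_inf_normalizer (p := p) hA h2
  obtain ⟨g, hg, hgN⟩ := SetLike.exists_of_lt h3
  have hgC : g ∉ normalizer (closure E : Set H) := fun h => hgN ⟨hg.1, h⟩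
  obtain ⟨e, heE, heC⟩ : ∃ e ∈ E, g * e * g⁻¹ ∉ closure E := by
    by_contra hcon
    push Not at hcon
    refine hgC (Cfsg.Lib.Invol.mem_normalizer_of_map_le ?_)
    rw [MonoidHom.map_closure, closure_le]
    rintro _ ⟨e, he, rfl⟩
    exact hcon e he
  refine ⟨g * e * g⁻¹, hinv g hg.1 e (hE.subset heE), fun h => heC (subset_closure h), ?_⟩
  exact ((mem_normalizer_iff.1 hg.2 e).1 ⟨subset_closure (hE.subset heE), le_normalizer (subset_closure heE)⟩).2

theorem hasNormalPComplement_of_nilpotent (hn : Group.IsNilpotent H) {p : ℕ} [hp : Fact p.Prime] :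
    Cfsg.HasNormalPComplement p H := by
  obtain ⟨P⟩ : Nonempty (Sylow p H) := inferInstance
  refine (Fusion.frobenius P).2 fun Q hQ g _ hco q hq => ?_
  obtain ⟨i, hi⟩ := IsPGroup.iff_orderOf.1 (Fusion.isPGroup_le_sylow hQ) ⟨q, hq⟩
  rw [Subgroup.orderOf_mk] at hi
  have hgm : g ∈ centralizer ({q} : Set H) := by
    refine mem_of_primary_parts fun s z hs hz hzk => ?_
    obtain ⟨j, hj⟩ := hzk
    rw [mem_centralizer_singleton_iff]
    by_cases hsp : s = p
    · subst hsp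
      have h1 : s ^ j ∣ orderOf g := hj ▸ orderOf_dvd_of_mem_zpowers hz
      have : orderOf z = 1 :=
        hj.trans (Nat.eq_one_of_dvd_coprimes (hco.symm.pow_left j) dvd_rfl h1)
      simp [orderOf_eq_one_iff.1 this]
    · exact commute_of_nilpotent hn hsp hj hi
  exact ((mem_centralizer_singleton_iff.1 hgm)).symm

/-- If a nilpotent group is generated by `O^p` and the derived subgroup then its `p`-elements are trivial. -/
theorem eq_one_of_sup_eq_top (hn : Group.IsNilpotent H) {p : ℕ} [hp : Fact p.Prime]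
    (h : Cfsg.pResidual p H ⊔ commutator H = ⊤) {x : H} (hx : ∃ i, orderOf x = p ^ i) : x = 1 := by
  have hnorm := Fusion.pResidual_normal p H
  have htop : Cfsg.pResidual p H = ⊤ := by
    by_contra hne
    haveI : Nontrivial (H ⧸ Cfsg.pResidual p H) := by
      rw [QuotientGroup.nontrivial_iff]
      exact hne
    haveI : Group.IsSolvable (H ⧸ Cfsg.pResidual p H) :=
      haveI := hn; inferInstance
    refine (Group.IsSolvable.commutator_lt_top_of_nontrivial
      (G := H ⧸ Cfsg.pResidual p H)).ne ?_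
    have h2 := congrArg (Subgroup.map (QuotientGroup.mk' (Cfsg.pResidual p H))) h
    rw [Subgroup.map_sup, QuotientGroup.map_mk'_self, bot_sup_eq, commutator_def,
      Subgroup.map_commutator, map_top_of_surjective _ (QuotientGroup.mk'_surjective _),
      ← commutator_def] at h2
    exact h2
  obtain ⟨i, hi⟩ := hx
  have h1 := (Fusion.mem_pResidual_iff_coprime (hasNormalPComplement_of_nilpotent hn) x).1
    (by rw [htop]; exact mem_top x)
  refine orderOf_eq_one_iff.1 ?_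
  rw [hi] at h1 ⊢
  exact Nat.eq_one_of_dvd_coprimes (h1.pow_right i) dvd_rfl dvd_rfl

/-- A system of values in a minimal simple group. -/
structure ValueSystem (H : Type u) [Group H] [Finite H] where
  V : ℕ → Set H
  min : Cfsg.IsMinimalSimple H
  ord : ∀ {r : ℕ} {v : H}, v ∈ V r → ∃ i, orderOf v = r ^ i
  ne_one : ∀ {r : ℕ} {v : H}, v ∈ V r → v ≠ 1
  conj : ∀ {r : ℕ} {v : H} (g : H), v ∈ V r → g * v * g⁻¹ ∈ V r
  core : ∀ {r : ℕ} [Fact r.Prime] {K : Subgroup H} {v : H}, K ≠ ⊤ → v ∈ V r → v ∈ K →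
    v ∈ (Cfsg.pCore r ↥K).map K.subtype
  step : ∀ {r : ℕ} [Fact r.Prime] {Q : Subgroup H} {v u : H}, IsPGroup r Q → v ∈ V r → v ∈ Q →
    u ∈ Q → ⁅v, u⁆ ≠ 1 → ⁅v, u⁆ ∈ V r
  exist : ∀ {r : ℕ} [Fact r.Prime] {U : Subgroup H} {t : H}, IsPGroup r U →
    t ∈ normalizer (U : Set H) → (orderOf t).Coprime r → t ∉ centralizer (U : Set H) →
    ∃ v ∈ V r, v ∈ U
  nilq : ∀ {K : Subgroup H}, K ≠ ⊤ → Group.IsNilpotent (↥K ⧸ Cfsg.fittingSubgroup ↥K)

namespace ValueSystem

variable (S : ValueSystem H) {r : ℕ}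

/-- `T` is maximal and contains an `r`-value. -/
def Good (r : ℕ) (T : Subgroup H) : Prop := IsCoatom T ∧ ∃ v ∈ S.V r, v ∈ T

include S

theorem not_solvable : ¬ Group.IsSolvable H := fun h => by
  haveI := S.min.1
  haveI := h
  refine S.min.2.1 ⟨⟨fun a b => ?_⟩⟩
  have hcom : commutator H = ⊥ :=
    ((Subgroup.Normal.eq_bot_or_eq_top (inferInstance : (commutator H).Normal))).resolve_right
      (Group.IsSolvable.commutator_lt_top_of_nontrivial (G := H)).ne
  exact commutatorElement_eq_one_iff_commute.1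
    ((Subgroup.eq_bot_iff_forall _).1 hcom _ (commutator_mem_commutator (mem_top a) (mem_top b)))

theorem commutator_eq_top : commutator H = ⊤ := by
  haveI := S.min.1
  refine ((Subgroup.Normal.eq_bot_or_eq_top (inferInstance : (commutator H).Normal))).resolve_left
    fun h => S.min.2.1 ⟨⟨fun a b => ?_⟩⟩
  exact commutatorElement_eq_one_iff_commute.1
    ((Subgroup.eq_bot_iff_forall _).1 h _ (commutator_mem_commutator (mem_top a) (mem_top b)))

theorem ne_top_of_solvable {K : Subgroup H} (h : Group.IsSolvable ↥K) : K ≠ ⊤ := by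
  rintro rfl
  haveI := h
  exact S.not_solvable (Group.isSolvable_of_surjective
    (f := (⊤ : Subgroup H).subtype) fun x => ⟨⟨x, mem_top x⟩, rfl⟩)

theorem ne_top_of_isPGroup [Fact r.Prime] {K : Subgroup H} (h : IsPGroup r K) : K ≠ ⊤ :=
  haveI : Group.IsNilpotent ↥K := h.isNilpotent
  S.ne_top_of_solvable inferInstance

theorem normalizer_ne_top {K : Subgroup H} (h1 : K ≠ ⊥) (h2 : K ≠ ⊤) :
    normalizer (K : Set H) ≠ ⊤ := fun h => by
  haveI := S.min.1
  rcases Subgroup.Normal.eq_bot_or_eq_top (normalizer_eq_top_iff.1 h) with e | e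
  · exact h1 e
  · exact h2 e

theorem centralizer_ne_top {h : H} (h1 : h ≠ 1) : centralizer ({h} : Set H) ≠ ⊤ := fun e => by
  haveI := S.min.1
  have hz : h ∈ center H := mem_center_iff.2 fun g =>
    mem_centralizer_singleton_iff.1 (e ▸ mem_top g : g ∈ centralizer ({h} : Set H))
  rcases Subgroup.Normal.eq_bot_or_eq_top (inferInstance : (center H).Normal) with e' | e'
  · exact h1 (mem_bot.1 (e' ▸ hz))
  · exact S.min.2.1 ⟨⟨fun a b => (mem_center_iff.1 (e' ▸ mem_top a : a ∈ center H) b).symm⟩⟩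

theorem coatom_ne_bot {L : Subgroup H} (hL : IsCoatom L) : L ≠ ⊥ := fun h => by
  subst h
  haveI := S.min.1
  obtain ⟨x, hx⟩ := exists_ne (1 : H)
  have : zpowers x = ⊤ := hL.2 _ (bot_lt_iff_ne_bot.2 (by simpa [zpowers_eq_bot] using hx))
  exact S.ne_top_of_solvable (Core.isSolvable_of_isMulCommutative _) this

theorem normalizer_coatom {L : Subgroup H} (hL : IsCoatom L) : normalizer (L : Set H) = L :=
  (hL.le_iff.1 le_normalizer).resolve_left (S.normalizer_ne_top (S.coatom_ne_bot hL) hL.1)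

theorem not_hasNormalPComplement [hr : Fact r.Prime] (hd : r ∣ Nat.card H) :
    ¬ Cfsg.HasNormalPComplement r H := by
  rintro ⟨P, N, hN, hc⟩
  haveI := S.min.1
  rcases Subgroup.Normal.eq_bot_or_eq_top hN with e | e
  · subst e
    exact S.ne_top_of_isPGroup P.2 (isComplement'_bot_left.1 hc)
  · subst e
    have : (P : Subgroup H) = ⊥ := isComplement'_top_left.1 hc
    exact P.ne_bot_of_dvd_card hd this

theorem nonempty [Fact r.Prime] (hd : r ∣ Nat.card H) : ∃ v, v ∈ S.V r := by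
  obtain ⟨P⟩ : Nonempty (Sylow r H) := inferInstance
  by_contra hcon
  push Not at hcon
  refine S.not_hasNormalPComplement hd ((Fusion.frobenius P).2 fun Q hQ g hg hco => ?_)
  by_contra hnc
  obtain ⟨v, hv, -⟩ := S.exist (Fusion.isPGroup_le_sylow hQ) hg hco hnc
  exact hcon v hv

theorem closure_isPGroup [hr : Fact r.Prime] {K : Subgroup H} (hK : K ≠ ⊤) :
    IsPGroup r (closure (S.V r ∩ (K : Set H))) :=
  ((Core.pCore_isPGroup r ↥K).map K.subtype).to_le
    ((closure_le _).2 fun _ hv => S.core hK hv.1 hv.2)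

theorem closure_le' (K : Subgroup H) : closure (S.V r ∩ (K : Set H)) ≤ K :=
  (closure_le _).2 Set.inter_subset_right

theorem le_normalizer_closure (K : Subgroup H) :
    K ≤ normalizer (closure (S.V r ∩ (K : Set H)) : Set H) := fun g hg =>
  Cfsg.Lib.Invol.mem_normalizer_of_map_le (by
    rw [MonoidHom.map_closure, closure_le]
    rintro _ ⟨v, hv, rfl⟩
    exact subset_closure ⟨S.conj g hv.1, mul_mem (mul_mem hg hv.2) (inv_mem hg)⟩)

theorem closure_ne_bot {K : Subgroup H} {v : H} (hv : v ∈ S.V r) (hK : v ∈ K) :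
    closure (S.V r ∩ (K : Set H)) ≠ ⊥ := fun h =>
  S.ne_one hv (mem_bot.1 (h ▸ subset_closure ⟨hv, hK⟩))

theorem eq_normalizer [Fact r.Prime] {M : Subgroup H} (hM : IsCoatom M) {v : H} (hv : v ∈ S.V r)
    (hvM : v ∈ M) : normalizer (closure (S.V r ∩ (M : Set H)) : Set H) = M :=
  (hM.le_iff.1 (S.le_normalizer_closure M)).resolve_left (S.normalizer_ne_top
    (S.closure_ne_bot hv hvM) (S.ne_top_of_isPGroup (S.closure_isPGroup hM.1)))

/-- Each value lies in only one maximal subgroup. -/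
theorem unique [hr : Fact r.Prime] {M N : Subgroup H} (hM : IsCoatom M) (hN : IsCoatom N) {v : H}
    (hv : v ∈ S.V r) (hvM : v ∈ M) (hvN : v ∈ N) : M = N := by
  by_contra hne
  set A : Subgroup H → Set H := fun K => S.V r ∩ (K : Set H) with hA
  obtain ⟨⟨M1, N1⟩, ⟨hM1, hN1, hne1, hI⟩, hmax⟩ := Set.exists_max_image
    {p : Subgroup H × Subgroup H | IsCoatom p.1 ∧ IsCoatom p.2 ∧ p.1 ≠ p.2 ∧ (A p.1 ∩ A p.2).Nonempty}
    (fun p => (A p.1 ∩ A p.2).ncard) (Set.toFinite _)
    ⟨(M, N), hM, hN, hne, v, ⟨hv, hvM⟩, hv, hvN⟩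
  obtain ⟨w, hw1, hw2⟩ := hI
  simp only [Set.mem_setOf_eq] at hmax
  set I := A M1 ∩ A N1 with hIdef
  have hIp : IsPGroup r (closure I) :=
    (S.closure_isPGroup hM1.1).to_le (closure_mono Set.inter_subset_left)
  have hIb : closure I ≠ ⊥ := fun h =>
    S.ne_one hw1.1 (mem_bot.1 (h ▸ subset_closure (⟨hw1, hw2⟩ : w ∈ I)))
  obtain ⟨T, hT, hNT⟩ := (eq_top_or_exists_le_coatom (normalizer (closure I : Set H))).resolve_left
    (S.normalizer_ne_top hIb (S.ne_top_of_isPGroup hIp))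
  have hIT : ∀ x ∈ I, x ∈ T := fun x hx => hNT (le_normalizer (subset_closure hx))
  have key : ∀ X Y : Subgroup H, IsCoatom X → IsCoatom Y → X ≠ Y → A X ∩ A Y = I →
      (I ⊂ A X ∧ (∀ L : Subgroup H, IsCoatom L → L ≠ X → (A L ∩ A X).Nonempty →
        (A L ∩ A X).ncard ≤ I.ncard)) → X = T := by
    rintro X Y hX hY hXY hXYI ⟨hss, hm⟩
    obtain ⟨a, ha, haI, han⟩ := exists_grow (p := r) (S.closure_isPGroup hX.1)
      (fun g hg b hb => ⟨S.conj g hb.1, mul_mem (mul_mem (S.closure_le' X hg) hb.2)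
        (inv_mem (S.closure_le' X hg))⟩) hss
    by_contra hXT
    have hsub : I ⊂ A T ∩ A X := by
      refine (Set.ssubset_iff_of_subset fun x hx => ?_).2
        ⟨a, ⟨⟨ha.1, hNT han⟩, ha⟩, haI⟩
      exact ⟨⟨(hss.subset hx).1, hIT x hx⟩, hss.subset hx⟩
    have := hm T hT (Ne.symm hXT) ⟨a, ⟨ha.1, hNT han⟩, ha⟩
    have := Set.ncard_lt_ncard hsub (Set.toFinite _)
    omega
  have hstrict : ∀ X Y : Subgroup H, IsCoatom X → IsCoatom Y → X ≠ Y → A X ∩ A Y = I →
      I ⊂ A X := by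
    intro X Y hX hY hXY hXYI
    refine (hXYI ▸ Set.inter_subset_left : I ⊆ A X).ssubset_of_ne fun heq => ?_
    have hwX : w ∈ A X := heq ▸ (⟨hw1, hw2⟩ : w ∈ I)
    have hsubY : A X ⊆ A Y := by rw [← heq, ← hXYI]; exact Set.inter_subset_right
    rcases hsubY.eq_or_ssubset with e | e
    · refine hXY ((S.eq_normalizer hX hwX.1 hwX.2).symm.trans ?_)
      rw [show S.V r ∩ (X : Set H) = S.V r ∩ (Y : Set H) from e]
      exact S.eq_normalizer hY hwX.1 (hsubY hwX).2
    · obtain ⟨a, ha, haX, han⟩ := exists_grow (p := r) (S.closure_isPGroup hY.1)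
        (fun g hg b hb => ⟨S.conj g hb.1, mul_mem (mul_mem (S.closure_le' Y hg) hb.2)
          (inv_mem (S.closure_le' Y hg))⟩) e
      rw [S.eq_normalizer hX hwX.1 hwX.2] at han
      exact haX ⟨ha.1, han⟩
  have h1 : M1 = T := key M1 N1 hM1 hN1 hne1 rfl ⟨hstrict M1 N1 hM1 hN1 hne1 rfl,
    fun L hL hLX hLI => hmax (L, M1) ⟨hL, hM1, hLX, hLI⟩⟩
  have h2 : N1 = T := key N1 M1 hN1 hM1 (Ne.symm hne1) (Set.inter_comm _ _)
    ⟨hstrict N1 M1 hN1 hM1 (Ne.symm hne1) (Set.inter_comm _ _),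
    fun L hL hLX hLI => hmax (L, N1) ⟨hL, hN1, hLX, hLI⟩⟩
  exact hne1 (h1.trans h2.symm)

theorem exists_value_sylow [Fact r.Prime] (hd : r ∣ Nat.card H) (P : Sylow r H) :
    ∃ v ∈ S.V r, v ∈ (P : Subgroup H) := by
  obtain ⟨v, hv⟩ := S.nonempty hd
  obtain ⟨Q, hQ⟩ := (zpowers_isPGroup (S.ord hv)).exists_le_sylow
  obtain ⟨g, hg⟩ := MulAction.exists_smul_eq H Q P
  refine ⟨g * v * g⁻¹, S.conj g hv, ?_⟩
  rw [← hg, Sylow.coe_subgroup_smul]
  exact ⟨v, hQ (mem_zpowers v), rfl⟩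

/-- Every Sylow subgroup has a central value. -/
theorem exists_central [hr : Fact r.Prime] (hd : r ∣ Nat.card H) (P : Sylow r H) :
    ∃ z ∈ S.V r, z ∈ (P : Subgroup H) ∧ z ∈ centralizer ((P : Subgroup H) : Set H) := by
  by_contra hcon
  push Not at hcon
  have hall : ∀ j, ∃ v ∈ S.V r, v ∈ (P : Subgroup H).lowerCentralSeries j := by
    intro j
    induction j with
    | zero => exact S.exists_value_sylow hd P
    | succ j ih =>
      obtain ⟨v, hv, hvj⟩ := ih
      have hvP : v ∈ (P : Subgroup H) :=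
        (P : Subgroup H).lowerCentralSeries_antitone (Nat.zero_le j) hvj
      obtain ⟨u, hu, hne⟩ : ∃ u ∈ (P : Subgroup H), ⁅v, u⁆ ≠ 1 := by
        by_contra h
        push Not at h
        exact hcon v hv hvP fun u hu => (commutatorElement_eq_one_iff_commute.1 (h u hu)).symm
      refine ⟨⁅v, u⁆, S.step P.2 hv hvP hu hne, ?_⟩
      rw [Subgroup.lowerCentralSeries_succ]
      exact commutator_mem_commutator hvj hu
  obtain ⟨n, hn⟩ := (Subgroup.isNilpotent_iff_lowerCentralSeries (P : Subgroup H)).1 P.2.isNilpotent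
  obtain ⟨v, hv, hvn⟩ := hall n
  exact S.ne_one hv (mem_bot.1 (hn ▸ hvn))

theorem dvd_card_of_orderOf {g : H} [hr : Fact r.Prime] (hg : ∃ i, orderOf g = r ^ i) (h1 : g ≠ 1) :
    r ∣ orderOf g := by
  obtain ⟨i, hi⟩ := hg
  rw [hi]
  refine dvd_pow_self r fun h0 => h1 ?_
  rw [h0, pow_zero, orderOf_eq_one_iff] at hi
  exact hi

theorem sylow_le [Fact r.Prime] {T : Subgroup H} (hT : S.Good r T) :
    ∃ P : Sylow r H, (P : Subgroup H) ≤ T := by
  obtain ⟨hTc, v, hv, hvT⟩ := hT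
  obtain ⟨P, hP⟩ := (zpowers_isPGroup (S.ord hv)).exists_le_sylow
  obtain ⟨L, hL, hPL⟩ :=
    (eq_top_or_exists_le_coatom (P : Subgroup H)).resolve_left (S.ne_top_of_isPGroup P.2)
  exact ⟨P, (S.unique hTc hL hv hvT (hPL (hP (mem_zpowers v)))) ▸ hPL⟩

omit S in
theorem exists_sylow_of_not_dvd [hr : Fact r.Prime] {T : Subgroup H} (hi : ¬ r ∣ T.index) {g : H}
    (hg : g ∈ T) (hgr : ∃ i, orderOf g = r ^ i) :
    ∃ P : Sylow r H, g ∈ (P : Subgroup H) ∧ (P : Subgroup H) ≤ T := by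
  obtain ⟨Q, hQ⟩ := (zpowers_isPGroup (x := (⟨g, hg⟩ : ↥T))
    (by simpa [Subgroup.orderOf_mk] using hgr)).exists_le_sylow
  have hi' : ¬ r ∣ ((Q : Subgroup ↥T).map T.subtype).index := by
    rw [index_map_subtype]
    exact fun h => (hr.out.dvd_mul.1 h).elim Q.not_dvd_index hi
  exact ⟨(Q.2.map T.subtype).toSylow hi', ⟨_, hQ (mem_zpowers _), rfl⟩, map_subtype_le _⟩

theorem not_dvd_index [Fact r.Prime] {T : Subgroup H} (hT : S.Good r T) : ¬ r ∣ T.index := by
  obtain ⟨P, hP⟩ := S.sylow_le hT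
  exact fun h => P.not_dvd_index (h.trans (index_dvd_of_le hP))

theorem good_of_centralizer [hr : Fact r.Prime] {g : H} (hg : ∃ i, orderOf g = r ^ i) (h1 : g ≠ 1)
    {L : Subgroup H} (hL : IsCoatom L) (hle : centralizer ({g} : Set H) ≤ L) : S.Good r L := by
  obtain ⟨P, hP⟩ := (zpowers_isPGroup hg).exists_le_sylow
  obtain ⟨z, hz, -, hzc⟩ := S.exists_central
    ((S.dvd_card_of_orderOf hg h1).trans (orderOf_dvd_natCard g)) P
  exact ⟨hL, z, hz, hle (mem_centralizer_singleton_iff.2 (hzc g (hP (mem_zpowers g))).symm)⟩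

theorem eq_of_centralizer_le [hr : Fact r.Prime] {T L : Subgroup H} (hT : S.Good r T) {g : H}
    (hgT : g ∈ T) (hg : ∃ i, orderOf g = r ^ i) (h1 : g ≠ 1) (hL : IsCoatom L)
    (hle : centralizer ({g} : Set H) ≤ L) : L = T := by
  obtain ⟨P, hgP, hPT⟩ := exists_sylow_of_not_dvd (S.not_dvd_index hT) hgT hg
  obtain ⟨z, hz, hzP, hzc⟩ := S.exists_central
    ((S.dvd_card_of_orderOf hg h1).trans (orderOf_dvd_natCard g)) P
  exact S.unique hL hT.1 hz (hle (mem_centralizer_singleton_iff.2 (hzc g hgP).symm)) (hPT hzP)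

theorem centralizer_le [hr : Fact r.Prime] {T : Subgroup H} (hT : S.Good r T) {g : H}
    (hgT : g ∈ T) (hg : ∃ i, orderOf g = r ^ i) (h1 : g ≠ 1) :
    centralizer ({g} : Set H) ≤ T := by
  obtain ⟨L, hL, hle⟩ := (eq_top_or_exists_le_coatom (centralizer ({g} : Set H))).resolve_left
    (S.centralizer_ne_top h1)
  exact (S.eq_of_centralizer_le hT hgT hg h1 hL hle) ▸ hle

theorem mem_of_conj [hr : Fact r.Prime] {T : Subgroup H} (hT : S.Good r T) {g a : H} (hgT : g ∈ T)
    (hg : ∃ i, orderOf g = r ^ i) (h1 : g ≠ 1) (ha : a * g * a⁻¹ ∈ T) : a ∈ T := by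
  set T' := T.map (MulAut.conj a).toMonoidHom with hT'
  have hT'c : IsCoatom T' := (OrderIso.isCoatom_iff (MulEquiv.mapSubgroup (MulAut.conj a)) T).2 hT.1
  have hle : centralizer ({a * g * a⁻¹} : Set H) ≤ T' := by
    intro c hc
    refine ⟨a⁻¹ * c * a, S.centralizer_le hT hgT hg h1 (mem_centralizer_singleton_iff.2 ?_), ?_⟩
    · rw [mem_centralizer_singleton_iff] at hc
      calc a⁻¹ * c * a * g = a⁻¹ * (c * (a * g * a⁻¹)) * a := by group
        _ = a⁻¹ * ((a * g * a⁻¹) * c) * a := by rw [hc]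
        _ = g * (a⁻¹ * c * a) := by group
    · show a * (a⁻¹ * c * a) * a⁻¹ = c
      group
  have he := S.eq_of_centralizer_le hT ha (by rwa [Cfsg.Lib.Invol.orderOf_conj_eq])
    (by simpa using h1) hT'c hle
  rw [← S.normalizer_coatom hT.1]
  exact Cfsg.Lib.Invol.mem_normalizer_of_map_le he.le

/-- The Sylow subgroup of the maximal subgroup containing an `r`-value is normal in it. -/
theorem mem_pCore [hr : Fact r.Prime] {T : Subgroup H} (hT : S.Good r T) {g : H} (hgT : g ∈ T)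
    (hg : ∃ i, orderOf g = r ^ i) : g ∈ (Cfsg.pCore r ↥T).map T.subtype := by
  have hfoc := Cfsg.Agent.S1242.result (p := r) T
    ((Nat.Prime.coprime_iff_not_dvd hr.out).2 (S.not_dvd_index hT)) (fun y hy hyr a ha => by
      by_cases hy1 : y = 1
      · exact ⟨1, one_mem _, by simp [hy1]⟩
      · exact ⟨a, S.mem_of_conj hT hy hyr hy1 ha, rfl⟩)
  rw [S.commutator_eq_top, sup_top_eq, top_inf_eq] at hfoc
  have htop : Cfsg.pResidual r ↥T ⊔ commutator ↥T = ⊤ := by
    apply map_injective T.subtype_injective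
    rw [← hfoc, ← MonoidHom.range_eq_map, range_subtype]
  set π := QuotientGroup.mk' (Cfsg.fittingSubgroup ↥T) with hπ
  have htop' : Cfsg.pResidual r (↥T ⧸ Cfsg.fittingSubgroup ↥T) ⊔
      commutator (↥T ⧸ Cfsg.fittingSubgroup ↥T) = ⊤ := by
    rw [eq_top_iff, ← map_top_of_surjective π (QuotientGroup.mk'_surjective _), ← htop,
      Subgroup.map_sup]
    refine sup_le_sup (Fusion.map_pResidual_le π) ?_
    rw [commutator_def, commutator_def, Subgroup.map_commutator]
    exact Subgroup.commutator_mono le_top le_top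
  obtain ⟨i, hi⟩ := hg
  obtain ⟨j, _, hj⟩ := (Nat.dvd_prime_pow hr.out).1
    (show orderOf (π ⟨g, hgT⟩) ∣ r ^ i from
      hi ▸ (orderOf_map_dvd π _).trans (Subgroup.orderOf_mk g hgT).dvd)
  have h1 := eq_one_of_sup_eq_top (S.nilq hT.1.1) htop' ⟨j, hj⟩
  exact ⟨⟨g, hgT⟩, mem_pCore_of_mem_nilpotent (Core.fittingSubgroup_isNilpotent ↥T)
    ((QuotientGroup.eq_one_iff _).1 h1) ⟨i, by rw [Subgroup.orderOf_mk]; exact hi⟩, rfl⟩

/-! ### Even order -/

theorem false_of_even (h2 : 2 ∣ Nat.card H) : False := by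
  haveI : Fact (Nat.Prime 2) := ⟨Nat.prime_two⟩
  obtain ⟨P⟩ : Nonempty (Sylow 2 H) := inferInstance
  obtain ⟨z, hz, hzP, hzc⟩ := S.exists_central h2 P
  obtain ⟨T, hT, hPT⟩ := (eq_top_or_exists_le_coatom (P : Subgroup H)).resolve_left
    (S.ne_top_of_isPGroup P.2)
  have hGood : S.Good 2 T := ⟨hT, z, hz, hPT hzP⟩
  -- the involutions in the center of the Sylow subgroup
  let U : Subgroup H :=
    { carrier := {x | x ∈ (P : Subgroup H) ∧ x ∈ centralizer ((P : Subgroup H) : Set H) ∧ x * x = 1}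
      one_mem' := ⟨one_mem _, one_mem _, one_mul 1⟩
      mul_mem' := fun {a b} ha hb => ⟨mul_mem ha.1 hb.1, mul_mem ha.2.1 hb.2.1, by
        have hab : a * b = b * a := hb.2.1 a ha.1
        rw [mul_assoc, ← mul_assoc b, ← hab, mul_assoc a b b, hb.2.2, mul_one, ha.2.2]⟩
      inv_mem' := fun {a} ha => ⟨inv_mem ha.1, inv_mem ha.2.1, by
        rw [← mul_inv_rev, ha.2.2, inv_one]⟩ }
  have hUP : IsPGroup 2 U := P.2.to_le fun x hx => hx.1
  have hPcore : (P : Subgroup H) = (Cfsg.pCore 2 ↥T).map T.subtype := by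
    have hle : (P : Subgroup H) ≤ (Cfsg.pCore 2 ↥T).map T.subtype := fun y hy => by
      obtain ⟨i, hi⟩ := IsPGroup.iff_orderOf.1 P.2 ⟨y, hy⟩
      exact S.mem_pCore hGood (hPT hy) ⟨i, by rwa [Subgroup.orderOf_mk] at hi⟩
    exact (P.3 ((Core.pCore_isPGroup 2 ↥T).map T.subtype) hle).symm
  have hTP : T ≤ normalizer ((P : Subgroup H) : Set H) := by
    rw [hPcore]
    refine le_trans ?_ (Core.normalizer_le_normalizer_map_char (H := T) (Cfsg.pCore 2 ↥T))
    exact le_normalizer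
  have hTU : T ≤ normalizer (U : Set H) := fun g hg => by
    refine Cfsg.Lib.Invol.mem_normalizer_of_map_le ?_
    rintro _ ⟨x, ⟨hx1, hx2, hx3⟩, rfl⟩
    have hn := mem_normalizer_iff.1 (hTP hg)
    refine ⟨(hn x).1 hx1, fun p hp => ?_, ?_⟩
    · have hp' : g⁻¹ * p * g ∈ (P : Subgroup H) := by
        rw [hn, show g * (g⁻¹ * p * g) * g⁻¹ = p from by group]; exact hp
      have := hx2 _ hp'
      show p * (g * x * g⁻¹) = g * x * g⁻¹ * p
      calc p * (g * x * g⁻¹) = g * ((g⁻¹ * p * g) * x) * g⁻¹ := by group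
        _ = g * (x * (g⁻¹ * p * g)) * g⁻¹ := by rw [this]
        _ = g * x * g⁻¹ * p := by group
    · show g * x * g⁻¹ * (g * x * g⁻¹) = 1
      rw [show g * x * g⁻¹ * (g * x * g⁻¹) = g * (x * x) * g⁻¹ from by group, hx3]
      group
  by_cases hcase : ∃ g ∈ T, (orderOf g).Coprime 2 ∧ g ∉ centralizer (U : Set H)
  · obtain ⟨g, hg, hco, hnc⟩ := hcase
    obtain ⟨v, hv, hvU⟩ := S.exist hUP (hTU hg) hco hnc
    have hv2 : orderOf v = 2 := orderOf_eq_prime (by rw [pow_two]; exact hvU.2.2) (S.ne_one hv)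
    obtain ⟨h, hh1, hhodd, hinv⟩ := Cfsg.Lib.Invol.exists_inverted_odd hv2 fun N hN hN2 hvN => by
      haveI := S.min.1
      rcases Subgroup.Normal.eq_bot_or_eq_top hN with e | e
      · exact S.ne_one hv (mem_bot.1 (e ▸ hvN))
      · exact S.ne_top_of_isPGroup hN2 e
    have hvn : v ∈ normalizer (zpowers h : Set H) := Cfsg.Lib.Invol.mem_normalizer_of_map_le (by
      rw [MonoidHom.map_zpowers, zpowers_le]
      show v * h * v⁻¹ ∈ zpowers h
      rw [hinv]
      exact inv_mem (mem_zpowers h))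
    set K := zpowers v ⊔ zpowers h with hK
    have hKs : K ≠ ⊤ := by
      intro hKtop
      have hn : normalizer (zpowers h : Set H) = ⊤ := top_unique (hKtop ▸ sup_le
        (zpowers_le.2 hvn) le_normalizer)
      exact S.normalizer_ne_top (by simpa [zpowers_eq_bot] using hh1)
        (S.ne_top_of_solvable (Core.isSolvable_of_isMulCommutative _)) hn
    obtain ⟨v', hv', hv'e⟩ := S.core hKs hv (mem_sup_left (mem_zpowers v))
    have hcm : ⁅v', (⟨h, mem_sup_right (mem_zpowers h)⟩ : ↥K)⁆ ∈ Cfsg.pCore 2 ↥K := by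
      rw [commutatorElement_def, mul_assoc, mul_assoc]
      refine mul_mem hv' ?_
      rw [← mul_assoc]
      exact (inferInstance : (Cfsg.pCore 2 ↥K).Normal).conj_mem _ (inv_mem hv') _
    obtain ⟨i, hi⟩ := IsPGroup.iff_orderOf.1 (Core.pCore_isPGroup 2 ↥K) ⟨_, hcm⟩
    rw [Subgroup.orderOf_mk, ← Subgroup.orderOf_coe] at hi
    have he : ((⁅v', (⟨h, mem_sup_right (mem_zpowers h)⟩ : ↥K)⁆ : ↥K) : H) = (h ^ 2)⁻¹ := by
      show (v' : H) * h * (v' : H)⁻¹ * h⁻¹ = (h ^ 2)⁻¹
      rw [show (v' : H) = v from hv'e, hinv, pow_two, mul_inv_rev]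
    rw [he, orderOf_inv] at hi
    have hodd2 : (orderOf h).Coprime 2 := Nat.coprime_two_right.2 hhodd
    rw [Nat.Coprime.orderOf_pow hodd2] at hi
    refine hh1 (orderOf_eq_one_iff.1 ?_)
    exact Nat.eq_one_of_dvd_coprimes (hodd2.pow_right i) dvd_rfl hi.dvd
  · push Not at hcase
    have hcard : 1 < Nat.card ↥(center ↥(P : Subgroup H)) := by
      haveI : Nontrivial ↥(P : Subgroup H) :=
        (Subgroup.nontrivial_iff_ne_bot _).2 (P.ne_bot_of_dvd_card h2)
      haveI := P.2.center_nontrivial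
      exact Finite.one_lt_card
    obtain ⟨i, hi⟩ := IsPGroup.iff_card.1 (P.2.to_subgroup (center ↥(P : Subgroup H)))
    have hi0 : i ≠ 0 := fun h0 => by rw [hi, h0, pow_zero] at hcard; exact lt_irrefl _ hcard
    obtain ⟨⟨⟨t, htP⟩, htc⟩, ht⟩ :=
      exists_prime_orderOf_dvd_card' 2 (hi ▸ dvd_pow_self 2 hi0)
    rw [Subgroup.orderOf_mk, Subgroup.orderOf_mk] at ht
    have htcen : t ∈ centralizer ((P : Subgroup H) : Set H) := fun p hp =>
      congrArg Subtype.val (mem_center_iff.1 htc ⟨p, hp⟩)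
    have htU : t ∈ U := ⟨htP, htcen, by rw [← pow_two, ← ht]; exact pow_orderOf_eq_one t⟩
    have hTt : T ≤ centralizer ({t} : Set H) := by
      refine le_of_primary fun s g hs hg hgk => mem_centralizer_singleton_iff.2 ?_
      obtain ⟨j, hj⟩ := hgk
      by_cases hs2 : s = 2
      · subst hs2
        have : g ∈ (P : Subgroup H) := by rw [hPcore]; exact S.mem_pCore hGood hg ⟨j, hj⟩
        exact htcen g this
      · exact (hcase g hg (by
          rw [hj]; exact Nat.Coprime.pow_left j ((Nat.coprime_primes hs.out Nat.prime_two).2 hs2))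
          t htU).symm
    have ht1 : t ≠ 1 := fun e => by rw [e, orderOf_one] at ht; omega
    obtain ⟨N, hN, hNodd, hNc⟩ := Cfsg.Agent.S0215.result P t ht htP fun g hgP => by
      have hgT := S.mem_of_conj hGood (hPT htP) ⟨1, by rw [ht, pow_one]⟩ ht1 (hPT hgP)
      have := mem_centralizer_singleton_iff.1 (hTt hgT)
      rw [this, mul_inv_cancel_right]
    haveI := S.min.1
    rcases Subgroup.Normal.eq_bot_or_eq_top hN with e | e
    · refine S.centralizer_ne_top ht1 (eq_top_iff.2 fun g _ => mem_centralizer_singleton_iff.2 ?_)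
      have := hNc g
      rw [e, mem_bot] at this
      exact (commutatorElement_eq_one_iff_commute.1 this).symm
    · subst e
      rw [Subgroup.card_top] at hNodd
      exact (Nat.not_even_iff_odd.2 hNodd) (even_iff_two_dvd.2 h2)

/-! ### Odd order -/

variable (hodd : Odd (Nat.card H))

theorem exists_pCore_ne_bot {L : Subgroup H} (hL : IsCoatom L) :
    ∃ r : ℕ, r.Prime ∧ Cfsg.pCore r ↥L ≠ ⊥ := by
  by_contra hcon
  push Not at hcon
  haveI := S.min.2.2 L hL.1
  haveI := S.nilq hL.1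
  have hF : Cfsg.fittingSubgroup ↥L = ⊥ := by
    rw [Core.fittingSubgroup_eq_iSup_pCore, iSup_eq_bot]
    exact fun p => hcon p p.2
  have hcen : centralizer (Cfsg.fittingSubgroup ↥L : Set ↥L) ≤ Cfsg.fittingSubgroup ↥L :=
    Core.centralizer_fitting_le_of_isSolvable
  rw [hF] at hcen
  refine S.coatom_ne_bot hL ((Subgroup.eq_bot_iff_forall _).2 fun x hx => ?_)
  have : (⟨x, hx⟩ : ↥L) ∈ (⊥ : Subgroup ↥L) := hcen fun y hy => by
    rw [SetLike.mem_coe, mem_bot] at hy
    simp [hy]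
  exact congrArg Subtype.val (mem_bot.1 this)

theorem good_of_pCore [Fact r.Prime] {L : Subgroup H} (hL : IsCoatom L) (h : Cfsg.pCore r ↥L ≠ ⊥) :
    S.Good r L := by
  set D := (Cfsg.pCore r ↥L).map L.subtype with hD
  have hDp : IsPGroup r D := (Core.pCore_isPGroup r ↥L).map _
  have hDb : D ≠ ⊥ := fun e => h ((map_eq_bot_iff_of_injective _ L.subtype_injective).1 e)
  have hLD : L ≤ normalizer (D : Set H) :=
    le_normalizer.trans (Core.normalizer_le_normalizer_map_char (H := L) (Cfsg.pCore r ↥L))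
  have hN : normalizer (D : Set H) = L :=
    (hL.le_iff.1 hLD).resolve_left (S.normalizer_ne_top hDb (S.ne_top_of_isPGroup hDp))
  obtain ⟨P, hP⟩ := hDp.exists_le_sylow
  have hd : r ∣ Nat.card H := by
    obtain ⟨n, hn⟩ := IsPGroup.iff_card.1 hDp
    refine (dvd_pow_self r fun h0 => hDb (eq_bot_of_card_eq _ (by rw [hn, h0, pow_zero]))).trans
      (hn ▸ card_subgroup_dvd_card D)
  obtain ⟨z, hz, -, hzc⟩ := S.exists_central hd P
  refine ⟨hL, z, hz, hN ▸ Cfsg.Lib.Invol.mem_normalizer_of_map_le ?_⟩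
  rintro _ ⟨d, hd', rfl⟩
  show z * d * z⁻¹ ∈ D
  rw [← hzc d (hP hd'), mul_inv_cancel_right]
  exact hd'

theorem mem_sigma [hr : Fact r.Prime] {L : Subgroup H} (hL : S.Good r L) : r ∈ Cfsg.sigma L := by
  obtain ⟨hLc, v, hv, hvL⟩ := hL
  have hcard : r ∣ Nat.card ↥L := by
    have := (S.dvd_card_of_orderOf (S.ord hv) (S.ne_one hv))
    rw [← Subgroup.orderOf_mk v hvL] at this
    exact this.trans (orderOf_dvd_natCard _)
  obtain ⟨P⟩ : Nonempty (Sylow r ↥L) := inferInstance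
  refine ⟨hr.out, hcard, P, ?_⟩
  have hle : ((P : Subgroup ↥L).map L.subtype) = (Cfsg.pCore r ↥L).map L.subtype := by
    refine le_antisymm ?_ (map_mono ?_)
    · rintro _ ⟨y, hy, rfl⟩
      obtain ⟨i, hi⟩ := IsPGroup.iff_orderOf.1 P.2 ⟨y, hy⟩
      rw [Subgroup.orderOf_mk] at hi
      exact S.mem_pCore ⟨hLc, v, hv, hvL⟩ y.2 ⟨i, (Subgroup.orderOf_coe y).trans hi⟩
    · obtain ⟨Q, hQ⟩ := (Core.pCore_isPGroup r ↥L).exists_le_sylow
      obtain ⟨g, hg⟩ := MulAction.exists_smul_eq (↥L) Q P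
      rw [← hg, Sylow.coe_subgroup_smul]
      calc Cfsg.pCore r ↥L = (MulAut.conj g) • Cfsg.pCore r ↥L :=
            (Subgroup.Normal.conjAct (inferInstance : (Cfsg.pCore r ↥L).Normal) g).symm
        _ ≤ (MulAut.conj g) • (Q : Subgroup ↥L) := Subgroup.pointwise_smul_le_pointwise_smul_iff.2 hQ
  rw [hle]
  have hb : (Cfsg.pCore r ↥L).map L.subtype ≠ ⊥ := fun e => by
    rw [← hle] at e
    exact P.ne_bot_of_dvd_card hcard ((map_eq_bot_iff_of_injective _ L.subtype_injective).1 e)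
  refine ((hLc.le_iff.1 (le_normalizer.trans
    (Core.normalizer_le_normalizer_map_char (H := L) (Cfsg.pCore r ↥L)))).resolve_left ?_).le
  exact S.normalizer_ne_top hb (S.ne_top_of_isPGroup ((Core.pCore_isPGroup r ↥L).map _))

theorem pCore_le_piCore [hr : Fact r.Prime] {L : Subgroup H} (hL : IsCoatom L) :
    Cfsg.pCore r ↥L ≤ Cfsg.piCore (Cfsg.sigma L) ↥L := by
  by_cases h : Cfsg.pCore r ↥L = ⊥
  · rw [h]; exact bot_le
  refine le_sSup ⟨inferInstance, fun p hp hd => ?_⟩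
  obtain ⟨n, hn⟩ := IsPGroup.iff_card.1 (Core.pCore_isPGroup r ↥L)
  rw [hn] at hd
  rw [(Nat.prime_dvd_prime_iff_eq hp hr.out).1 (hp.dvd_of_dvd_pow hd)]
  exact S.mem_sigma (S.good_of_pCore hL h)

include hodd

theorem derived_le_sigmaCore {L E : Subgroup H} (hE : Cfsg.Lib.Local.Sigma.Compl L E) :
    ⁅L, L⁆ ≤ Cfsg.sigmaCore L := by
  have hG : Cfsg.IsMinSimpleOddOrder H := ⟨hodd, S.min⟩
  have hL := hE.coatom
  set C := Cfsg.piCore (Cfsg.sigma L) ↥L with hC
  have hFC : Cfsg.fittingSubgroup ↥L ≤ C := by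
    rw [Core.fittingSubgroup_eq_iSup_pCore]
    refine iSup_le fun p => ?_
    haveI : Fact (p : ℕ).Prime := ⟨p.2⟩
    exact S.pCore_le_piCore hL
  haveI := S.nilq hL.1
  have hnil : Group.IsNilpotent (↥L ⧸ C) :=
    Group.nilpotent_of_surjective
      (QuotientGroup.map (Cfsg.fittingSubgroup ↥L) C (MonoidHom.id _) (by simpa using hFC))
      (QuotientGroup.map_surjective_of_surjective _ _ _ (by exact QuotientGroup.mk'_surjective C) _)
  set f : ↥E →* ↥L ⧸ C := (QuotientGroup.mk' C).comp (Subgroup.inclusion hE.le) with hf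
  have hfi : Function.Injective f := by
    rw [← MonoidHom.ker_eq_bot_iff, Subgroup.eq_bot_iff_forall]
    intro e he
    have h1 : Subgroup.inclusion hE.le e ∈ C := (QuotientGroup.eq_one_iff _).1 he
    have h2 : (e : H) ∈ E ⊓ Cfsg.sigmaCore L := ⟨e.2, ⟨_, h1, rfl⟩⟩
    rw [hE.compl.2.2.1, mem_bot] at h2
    exact Subtype.ext h2
  haveI := hnil
  have hEnil : Group.IsNilpotent ↥E :=
    Subgroup.isNilpotent_of_ker_le_center f
      ((f.ker_eq_bot_iff.2 hfi).le.trans bot_le)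
  have hEab := (Cfsg.Agent.S1420.result hG L hL E hE.compl).1 E hE.le hEnil
    fun p hp hd => hE.not_mem_sigma hG hp hd
  rw [commutator_le]
  intro a ha b hb
  have hC' : ∀ m ∈ L, ∃ e : ↥E, ∀ hm : m ∈ L, QuotientGroup.mk' C ⟨m, hm⟩ = f e := by
    intro m hm
    obtain ⟨e, he, s, hs, rfl⟩ := hE.compl.2.2.2 m hm
    refine ⟨⟨e, he⟩, fun hm => ?_⟩
    obtain ⟨s', hs', rfl⟩ := hs
    have : (⟨e * L.subtype s', hm⟩ : ↥L) = Subgroup.inclusion hE.le ⟨e, he⟩ * s' := rfl
    have hs1 : QuotientGroup.mk' C s' = 1 := (QuotientGroup.eq_one_iff _).2 hs'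
    show QuotientGroup.mk' C _ = _
    rw [this, map_mul, hs1, mul_one]
    rfl
  obtain ⟨e1, h1⟩ := hC' a ha
  obtain ⟨e2, h2⟩ := hC' b hb
  refine ⟨⁅(⟨a, ha⟩ : ↥L), ⟨b, hb⟩⁆, (QuotientGroup.eq_one_iff _).1 ?_, rfl⟩
  show QuotientGroup.mk' C _ = 1
  rw [map_commutatorElement, h1 ha, h2 hb, ← map_commutatorElement,
    commutatorElement_eq_one_iff_commute.2 (hEab.is_comm.comm e1 e2), map_one]

theorem decomp_U_eq_bot {L K U : Subgroup H} (hL : IsCoatom L)
    (h : Cfsg.IsSigmaDecomposition L K U) (hK : K ≠ ⊥) : U = ⊥ := by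
  have hG : Cfsg.IsMinSimpleOddOrder H := ⟨hodd, S.min⟩
  obtain ⟨E, hE, -⟩ := Cfsg.Lib.Local.Sigma.decomp_exists_compl hG hL h
  have h1 : U ≤ Cfsg.sigmaCore L :=
    le_trans ((Cfsg.Agent.S1365.result hG L hL K U h hK).1 ▸ le_sup_left) (S.derived_le_sigmaCore hodd hE)
  rw [eq_bot_iff, ← h.compl.2.2.1]
  exact le_inf le_rfl (h1.trans le_sup_right)

theorem kappa_empty {L : Subgroup H} (hL : IsCoatom L) {p : ℕ} (hp : p ∈ Cfsg.kappa L) : False := by
  have hG : Cfsg.IsMinSimpleOddOrder H := ⟨hodd, S.min⟩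
  haveI : Fact p.Prime := ⟨hp.1⟩
  obtain ⟨⟨K, hK⟩, hKc⟩ := Cfsg.Agent.S1351.result hG L hL
  obtain ⟨P⟩ : Nonempty (Sylow p ↥(K.subgroupOf L)) := inferInstance
  have hi : ¬ p ∣ ((P : Subgroup ↥(K.subgroupOf L)).map (K.subgroupOf L).subtype).index := by
    rw [index_map_subtype]
    exact fun h => (hp.1.dvd_mul.1 h).elim P.not_dvd_index (hK.2.2 p hp.1 hp)
  obtain ⟨-, x, hxP, hx1, y, hy, hy1, hxy⟩ := hp.2.2.2 ((P.2.map (K.subgroupOf L).subtype).toSylow hi)
  have hxK : (x : H) ∈ K := mem_subgroupOf.1 (map_subtype_le _ hxP)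
  have hx1' : (x : H) ≠ 1 := fun e => hx1 (Subtype.ext e)
  have hK1 : K ≠ ⊥ := fun e => hx1' (mem_bot.1 (e ▸ hxK))
  obtain ⟨⟨U, hKU⟩, -⟩ := Cfsg.Agent.S1352.result hG L hL K (hKc K hK) hK
  have hKs : Cfsg.sigmaCore L ⊓ centralizer (K : Set H) ≠ ⊥ := fun e => by
    rw [← (Cfsg.Agent.S1430.result hG L hL K hK hK1).1 (x : H) hxK hx1'] at e
    exact hy1 (mem_bot.1 (e ▸ (⟨hy, mem_centralizer_singleton_iff.2 hxy.symm⟩ :
      y ∈ Cfsg.sigmaCore L ⊓ centralizer ({(x : H)} : Set H))))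
  obtain ⟨Ls, ⟨hLs, hLsK, hLsH⟩, -⟩ := Cfsg.Agent.S1366.result hG L hL K U hKU hK1
  rcases (Cfsg.Agent.S1369.result hG L hL K U hKU hK1 Ls hLs hLsK hLsH).1 with h | h
  · exact h (S.decomp_U_eq_bot hodd hL hKU hK1)
  · obtain ⟨-, hKc'⟩ := Cfsg.Agent.S1351.result hG Ls hLs
    obtain ⟨⟨U', hU'⟩, -⟩ := Cfsg.Agent.S1352.result hG Ls hLs _ (hKc' _ hLsH) hLsH
    exact h U' hU' (S.decomp_U_eq_bot hodd hLs hU' hKs)

theorem eq_of_commute {s : ℕ} [hr : Fact r.Prime] [hs : Fact s.Prime] {a b : H}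
    (ha : ∃ i, orderOf a = r ^ i) (ha1 : a ≠ 1) (hb : ∃ i, orderOf b = s ^ i) (hb1 : b ≠ 1)
    (hab : Commute a b) {Ta Tb : Subgroup H} (hTa : IsCoatom Ta)
    (hCa : centralizer ({a} : Set H) ≤ Ta) (hTb : IsCoatom Tb)
    (hCb : centralizer ({b} : Set H) ≤ Tb) : Ta = Tb := by
  have hG : Cfsg.IsMinSimpleOddOrder H := ⟨hodd, S.min⟩
  have hbTb : b ∈ Tb := hCb (mem_centralizer_singleton_iff.2 rfl)
  have haTb : a ∈ Tb := hCb (mem_centralizer_singleton_iff.2 hab.eq)
  have hra : r ∣ orderOf a := S.dvd_card_of_orderOf ha ha1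
  by_cases hi : r ∣ Tb.index
  · have hrσ : r ∉ Cfsg.sigma Tb := by
      rintro ⟨-, -, P0, hP0⟩
      set P1 := (P0 : Subgroup ↥Tb).map Tb.subtype with hP1
      have hP1p : IsPGroup r P1 := P0.2.map _
      obtain ⟨P, hP⟩ := hP1p.exists_le_sylow
      rcases eq_or_lt_of_le hP with e | e
      · exact P.not_dvd_index (by rw [← e, hP1, index_map_subtype]; exact hi.mul_left _)
      · have h2 := Fusion.lt_inf_normalizer (p := r) P.2 e
        have hle : (P : Subgroup H) ⊓ normalizer (P1 : Set H) ≤ Tb := inf_le_right.trans hP0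
        have h3 : IsPGroup r (((P : Subgroup H) ⊓ normalizer (P1 : Set H)).subgroupOf Tb) :=
          (P.2.to_inf_left).of_equiv (subgroupOfEquivOfLe hle).symm
        have h4 : (P0 : Subgroup ↥Tb) ≤ ((P : Subgroup H) ⊓ normalizer (P1 : Set H)).subgroupOf Tb :=
          fun y hy => mem_subgroupOf.2 (h2.le ⟨y, hy, rfl⟩)
        have h5 := P0.3 h3 h4
        exact h2.ne (((map_subgroupOf_eq_of_le hle).symm.trans (congrArg (Subgroup.map Tb.subtype) h5)).symm)
    have hbσ : b ∈ Cfsg.sigmaCore Tb := by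
      have hTbs : S.Good s Tb := S.good_of_centralizer hb hb1 hTb hCb
      obtain ⟨b', hb', rfl⟩ := S.mem_pCore hTbs hbTb hb
      exact ⟨b', S.pCore_le_piCore hTb hb', rfl⟩
    have hdvd : ∀ p : ℕ, p.Prime → p ∣ orderOf a → p = r := fun p hp hd => by
      obtain ⟨i, hi'⟩ := ha
      exact (Nat.prime_dvd_prime_iff_eq hp hr.out).1 (hp.dvd_of_dvd_pow (hi' ▸ hd))
    rcases Cfsg.Agent.S1432.result hG Tb hTb b hbσ hb1 a
      ⟨haTb, mem_centralizer_singleton_iff.2 hab.eq⟩ ha1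
      (fun p hp hd => (hdvd p hp hd) ▸ hrσ) with h | h
    · exact (S.kappa_empty hodd hTb (h.1 r hr.out hra)).elim
    · exact h.2.2.2 Ta hTa hCa
  · obtain ⟨P, haP, hPT⟩ := exists_sylow_of_not_dvd hi haTb ha
    obtain ⟨z, hz, hzP, hzc⟩ := S.exists_central (hra.trans (orderOf_dvd_natCard a)) P
    exact S.unique hTa hTb hz (hCa (mem_centralizer_singleton_iff.2 (hzc a haP).symm)) (hPT hzP)

theorem isCNGroup : Cfsg.IsCNGroup H := by
  intro g hg
  obtain ⟨r, hr, hrd⟩ := Nat.exists_prime_and_dvd (fun h => hg (orderOf_eq_one_iff.1 h))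
  haveI : Fact r.Prime := ⟨hr⟩
  set a := g ^ (orderOf g / r) with ha
  have hao : orderOf a = r := orderOf_pow_orderOf_div (orderOf_pos g).ne' hrd
  have ha1 : a ≠ 1 := fun e => by rw [e, orderOf_one] at hao; exact hr.ne_one hao.symm
  have har : ∃ i, orderOf a = r ^ i := ⟨1, by rw [hao, pow_one]⟩
  obtain ⟨T, hT, hCa⟩ := (eq_top_or_exists_le_coatom (centralizer ({a} : Set H))).resolve_left
    (S.centralizer_ne_top ha1)
  have hgoodr : S.Good r T := S.good_of_centralizer har ha1 hT hCa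
  have hle : centralizer ({g} : Set H) ≤ (Cfsg.fittingSubgroup ↥T).map T.subtype := by
    refine le_of_primary fun s b hs hb hbk => ?_
    have hba : Commute a b := (Commute.pow_left
      (mem_centralizer_singleton_iff.1 hb : b * g = g * b).symm _)
    have hgood : S.Good s T ∨ b = 1 := by
      by_cases hb1 : b = 1
      · exact Or.inr hb1
      obtain ⟨Tb, hTb, hCb⟩ := (eq_top_or_exists_le_coatom (centralizer ({b} : Set H))).resolve_left
        (S.centralizer_ne_top hb1)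
      rw [S.eq_of_commute hodd har ha1 hbk hb1 hba hT hCa hTb hCb]
      exact Or.inl (S.good_of_centralizer hbk hb1 hTb hCb)
    rcases hgood with h | h
    · obtain ⟨b', hb', e⟩ := S.mem_pCore h (hCa (mem_centralizer_singleton_iff.2 hba.eq.symm)) hbk
      exact ⟨b', mem_fitting_of_mem_pCore hb', e⟩
    · rw [h]; exact one_mem _
  exact Core.isNilpotent_of_le hle
    (Core.isNilpotent_map (Core.fittingSubgroup_isNilpotent ↥T) T.subtype)

omit hodd in
theorem false : False := by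
  rcases Nat.even_or_odd (Nat.card H) with h | h
  · exact S.false_of_even (even_iff_two_dvd.1 h)
  · exact S.not_solvable (Cfsg.Agent.S0183.result h (S.isCNGroup h))

end ValueSystem

end Cfsg.Lib.Struct
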